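import Groth.Agent.L26.Mumford.Roots

/-!
The jump of the index at a root, over any field.
-/

set_option autoImplicit false
set_option linter.style.haveILetI false
set_option linter.unusedSectionVars false
set_option maxSynthPendingDepth 3
set_option backward.isDefEq.respectTransparency false
set_option backward.isDefEq.respectTransparency.types false

universe u

open CategoryTheory CategoryTheory.Limits MonoidalCategory CartesianMonoidalCategory AlgebraicGeometry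
open Groth.Agent.AV.TateBaseChange (bc)
open Groth.Agent.L26.Growth (pows hd)
open Polynomial

noncomputable section

namespace Groth.Agent.L26.Mumford

attribute [local instance] Groth.L08.Cube.clMonoid

variable {k : Type u} [Field k] {A : Over (Spec (CommRingCat.of k))} [IsProper A.hom]

section Closed

variable [GrpObj A] [GeometricallyIntegral A.hom] [IsAlgClosed k]

set_option maxHeartbeats 1600000 in
/-- Past a root of multiplicity `μ` the index drops by at most `μ`. -/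
theorem index_le_add {g : ℕ} (hg : topologicalKrullDim ↥A.left = g) {L H : A.left.Modules}
    (hL : PicF.IsInvertible L) (hH : CohB1.IsAmple H) {Φ : ℚ[X]}
    (hΦ : ∀ n : ℕ, Φ.eval (n : ℚ) =
      (@Curv2.euler k _ A.left ⟨A.hom⟩ (CohB1.tensorMod L (CohB1.tensorPow H n)) : ℚ))
    {i i' : ℕ} (hi : Conc (fam L H 1 0) i) (hi' : Conc (fam L H 1 1) i') {τ : ℝ} (hτ0 : 0 < τ) (hτ1 : τ < 1)
    (hτ : (Φ.map (algebraMap ℚ ℝ)).eval τ = 0)
    (huniq : ∀ t : ℝ, 0 ≤ t → t ≤ 1 → (Φ.map (algebraMap ℚ ℝ)).eval t = 0 → t = τ) :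
    i ≤ i' + (Φ.map (algebraMap ℚ ℝ)).rootMultiplicity τ := by
  classical
  set P := Φ.map (algebraMap ℚ ℝ) with hP
  set μ := P.rootMultiplicity τ with hμ
  have h0 : P.eval (((0 : ℕ) : ℝ) / ((1 : ℕ) : ℝ)) ≠ 0 := fun h => hτ0.ne' (by
    simpa using (huniq _ (by simp) (by simp) h).symm)
  have hPne : P ≠ 0 := fun h => h0 (by rw [h, Polynomial.eval_zero])
  by_contra hlt
  obtain ⟨i₀, hi₀, hc₀⟩ := exists_conc_fam hg hL hH.1 hΦ one_pos 0 h0
  have hig : i ≤ g := conc_unique hi hc₀ ▸ hi₀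
  have hμg : μ + 1 ≤ g := by omega
  obtain ⟨e, he0, hgg⟩ := exists_gg hH
  obtain ⟨C, hC⟩ := exists_bound_fam hg hL hH (e := e * 2) (hgg 2 (by norm_num)) (s := μ) hμg
  obtain ⟨Q, hQ, hQτ⟩ := P.exists_eq_pow_rootMultiplicity_mul_and_not_dvd hPne τ
  have hQne : ∀ t : ℝ, t ∈ Set.Icc (0 : ℝ) 1 → Q.eval t ≠ 0 := fun t ht h => by
    have ht' : t = τ := huniq t ht.1 ht.2 (by rw [hQ, Polynomial.eval_mul, h, mul_zero])
    exact hQτ (Polynomial.dvd_iff_isRoot.2 (ht' ▸ h))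
  obtain ⟨x₀, hx₀, hmin⟩ := (isCompact_Icc (a := (0 : ℝ)) (b := 1)).exists_isMinOn
    ⟨0, le_rfl, zero_le_one⟩ (Q.continuous.abs.continuousOn)
  let c := |Q.eval x₀|
  have hc : 0 < c := abs_pos.2 (hQne _ hx₀)
  obtain ⟨M, hM⟩ := exists_nat_gt (3 / τ + (2 * μ + 4) / (1 - τ) + (C : ℝ) * 3 ^ (g - (μ + 1)) / c)
  have h1τ : 0 < 1 - τ := by linarith
  have hA : (0 : ℝ) ≤ 3 / τ := by positivity
  have hB : (0 : ℝ) ≤ (2 * μ + 4) / (1 - τ) := by positivity
  have hD : (0 : ℝ) ≤ (C : ℝ) * 3 ^ (g - (μ + 1)) / c := by positivity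
  have hM1 : 3 / τ < M := by linarith
  have hM2 : (2 * μ + 4) / (1 - τ) < (M : ℝ) := by linarith
  have hM3 : (C : ℝ) * 3 ^ (g - (μ + 1)) / c < M := by linarith
  rw [div_lt_iff₀ hτ0] at hM1
  rw [div_lt_iff₀ h1τ] at hM2
  rw [div_lt_iff₀ (by positivity)] at hM3
  have hMR : (0 : ℝ) < M := by nlinarith
  have hM0 : 0 < M := Nat.cast_pos.1 hMR
  have hfl := Nat.floor_le (mul_nonneg hτ0.le hMR.le)
  have hfl' := Nat.lt_floor_add_one (τ * (M : ℝ))
  obtain ⟨a, ha⟩ : ∃ a, ⌊τ * (M : ℝ)⌋₊ = a + 1 := ⟨⌊τ * (M : ℝ)⌋₊ - 1, by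
    have : (1 : ℝ) < ⌊τ * (M : ℝ)⌋₊ := by nlinarith
    have : 1 < ⌊τ * (M : ℝ)⌋₊ := by exact_mod_cast this
    omega⟩
  rw [ha, Nat.cast_add, Nat.cast_one] at hfl hfl'
  have heR : (0 : ℝ) < e := Nat.cast_pos.2 he0
  have hem : 0 < e * M := Nat.mul_pos he0 hM0
  have hpos : ∀ j : ℕ, ((e * j : ℕ) : ℝ) / ((e * M : ℕ) : ℝ) = (j : ℝ) / M := fun j => by
    push_cast; rw [mul_div_mul_left _ _ heR.ne']
  -- left of the root
  have hleft : Conc (fam L H (e * M) (e * a)) i := by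
    refine index_segment hg hL hH hΦ hem (Nat.zero_le _) (fun t ht1 ht2 h => ?_)
      (by simpa using conc_fam_mul hL hH.1 hi hem)
    rw [hpos] at ht2
    rw [Nat.cast_zero, zero_div] at ht1
    rw [le_div_iff₀ hMR] at ht2
    have := huniq t ht1 (by nlinarith) h
    subst this
    nlinarith
  -- right of the root
  have hright : ∀ p, 1 ≤ p → p ≤ μ + 1 → Conc (fam L H (e * M) (e * a + e * 2 * p)) i' := by
    intro p hp1 hp2
    have hb : a + 2 * p ≤ M := by
      have h' : ((a + 2 * p : ℕ) : ℝ) ≤ (M : ℝ) := by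
        have : (p : ℝ) ≤ μ + 1 := by exact_mod_cast hp2
        push_cast; nlinarith
      exact_mod_cast h'
    have hroot : ∀ t : ℝ, ((e * a + e * 2 * p : ℕ) : ℝ) / ((e * M : ℕ) : ℝ) ≤ t →
        t ≤ ((e * M : ℕ) : ℝ) / ((e * M : ℕ) : ℝ) → P.eval t ≠ 0 := fun t ht1 ht2 h => by
      rw [show e * a + e * 2 * p = e * (a + 2 * p) by ring, hpos] at ht1
      rw [hpos, div_self hMR.ne'] at ht2
      push_cast at ht1
      rw [div_le_iff₀ hMR] at ht1
      have hp' : (1 : ℝ) ≤ p := by exact_mod_cast hp1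
      have ha' : (0 : ℝ) ≤ a := Nat.cast_nonneg a
      have := huniq t (by nlinarith) ht2 h
      subst this
      nlinarith
    have hle : e * a + e * 2 * p ≤ e * M := by
      rw [show e * a + e * 2 * p = e * (a + 2 * p) by ring]; exact Nat.mul_le_mul_left _ hb
    obtain ⟨j, -, hj⟩ := exists_conc_fam hg hL hH.1 hΦ hem (e * a + e * 2 * p)
      (hroot _ le_rfl (div_le_div_of_nonneg_right (Nat.cast_le.2 hle) (Nat.cast_nonneg _)))
    have hend : Conc (fam L H (e * M) (e * M)) i' := by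
      simpa using conc_fam_mul hL hH.1 hi' hem
    exact conc_unique (index_segment hg hL hH hΦ hem hle hroot hj) hend ▸ hj
  have hb := hC (e * M) (e * a) i hig fun p hp1 hp2 => ⟨i', hright p hp1 hp2, Or.inr (by omega)⟩
  have habs := abs_eval_mul_pow hg hL hH.1 hΦ hem (e * a) hleft
  rw [← hP, hpos, hQ, Polynomial.eval_mul, Polynomial.eval_pow, Polynomial.eval_sub, Polynomial.eval_X, Polynomial.eval_C,
    abs_mul, abs_pow] at habs
  have hx : (a : ℝ) / M ∈ Set.Icc (0 : ℝ) 1 := by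
    refine ⟨by positivity, ?_⟩
    rw [div_le_one hMR]; nlinarith
  have hd1 : (1 : ℝ) / M ≤ |(a : ℝ) / M - τ| := by
    rw [abs_sub_comm]
    refine le_trans ?_ (le_abs_self _)
    rw [le_sub_iff_add_le, ← add_div, div_le_iff₀ hMR]
    linarith
  have hlow : ((e * M : ℕ) : ℝ) ^ g * ((1 / (M : ℝ)) ^ μ * c) ≤ (C : ℝ) * ((3 : ℝ) * (e * M : ℕ)) ^ (g - (μ + 1)) := by
    have hb' : (@hd k _ A.left ⟨A.hom⟩ (fam L H (e * M) (e * a)) i : ℝ) ≤
        (C : ℝ) * ((e * M + e * a + 1 : ℕ) : ℝ) ^ (g - (μ + 1)) := by exact_mod_cast hb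
    refine le_trans (mul_le_mul_of_nonneg_left (mul_le_mul (pow_le_pow_left₀ (by positivity) hd1 μ)
      (hmin hx) hc.le (by positivity)) (by positivity)) (habs.le.trans (hb'.trans ?_))
    have : ((e * M + e * a + 1 : ℕ) : ℝ) ≤ (3 : ℝ) * (e * M : ℕ) := by
      have haM : a ≤ M := by
        have : (a : ℝ) ≤ M := by nlinarith
        exact_mod_cast this
      have h1 := Nat.mul_le_mul_left e haM
      have : e * M + e * a + 1 ≤ 3 * (e * M) := by omega
      exact_mod_cast this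
    gcongr
  obtain ⟨d, hd'⟩ : ∃ d, g = d + μ + 1 := ⟨g - μ - 1, by omega⟩
  rw [hd', show d + μ + 1 - (μ + 1) = d by omega] at hlow hM3
  push_cast at hlow
  have hMμ : (M : ℝ) ^ μ * (1 / (M : ℝ)) ^ μ = 1 := by rw [← mul_pow, mul_one_div_cancel hMR.ne', one_pow]
  have he1 : (1 : ℝ) ≤ (e : ℝ) ^ μ := one_le_pow₀ (by exact_mod_cast he0)
  have hfac : ((e : ℝ) * M) ^ (d + μ + 1) * ((1 / (M : ℝ)) ^ μ * c) =
      ((e : ℝ) ^ μ * (c * (e : ℝ) ^ (d + 1)) * M) * (M : ℝ) ^ d := by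
    rw [mul_pow, pow_add, pow_add, pow_add (M : ℝ), pow_add (M : ℝ), pow_one, pow_one, pow_add (e : ℝ) d 1, pow_one]
    linear_combination ((e : ℝ) ^ d * (e : ℝ) ^ μ * (e : ℝ) * (M : ℝ) ^ d * (M : ℝ) * c) * hMμ
  rw [hfac, mul_pow, mul_pow] at hlow
  have hMd : (0 : ℝ) < (M : ℝ) ^ d := pow_pos hMR _
  have hed : (e : ℝ) ^ d ≤ (e : ℝ) ^ (d + 1) :=
    pow_le_pow_right₀ (by exact_mod_cast he0) (Nat.le_succ d)
  have hlow' : (e : ℝ) ^ μ * (c * (e : ℝ) ^ (d + 1)) * M ≤ (C : ℝ) * 3 ^ d * (e : ℝ) ^ d :=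
    le_of_mul_le_mul_right (by linarith) hMd
  have hlow'' : c * (e : ℝ) ^ (d + 1) * M ≤ (C : ℝ) * 3 ^ d * (e : ℝ) ^ d := by
    refine le_trans ?_ hlow'
    have : (0 : ℝ) ≤ c * (e : ℝ) ^ (d + 1) * M := by positivity
    nlinarith
  have h4 : c * (M : ℝ) * e ≤ (C : ℝ) * 3 ^ d := by
    rw [pow_succ] at hlow''
    exact le_of_mul_le_mul_right (by linarith) (pow_pos heR d)
  have h5 : c * (M : ℝ) ≤ c * (M : ℝ) * e :=
    le_mul_of_one_le_right (by positivity) (by exact_mod_cast he0)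
  linarith

end Closed

/-- The Euler characteristic after a field extension. -/
theorem euler_bcMod [Flat A.hom] (K : Type u) [Field K] [Algebra k K] {L : A.left.Modules} (hL : PicF.IsInvertible L) :
    @Curv2.euler K _ (bc K A).left ⟨(bc K A).hom⟩ (bcMod K L) = @Curv2.euler k _ A.left ⟨A.hom⟩ L := by
  letI : A.left.Over (Spec (CommRingCat.of k)) := ⟨A.hom⟩
  letI : (bc K A).left.Over (Spec (CommRingCat.of K)) := ⟨(bc K A).hom⟩
  unfold Curv2.euler
  exact finsum_congr fun j => congrArg (fun n : ℕ => (-1 : ℤ) ^ j * (n : ℤ)) (finrank_HH_bcMod K hL j).symm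

variable [GrpObj A] [GeometricallyIntegral A.hom]

/-- The data after passing to an algebraic closure. -/
theorem exists_closed_data {g : ℕ} (hg : topologicalKrullDim ↥A.left = g) {L H : A.left.Modules}
    (hL : PicF.IsInvertible L) (hH : CohB1.IsAmple H) {Φ : ℚ[X]}
    (hΦ : ∀ n : ℕ, Φ.eval (n : ℚ) =
      (@Curv2.euler k _ A.left ⟨A.hom⟩ (CohB1.tensorMod L (CohB1.tensorPow H n)) : ℚ)) :
    ∃ (K : Type u) (_ : Field K) (_ : IsAlgClosed K) (B : Over (Spec (CommRingCat.of K))) (_ : GrpObj B)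
      (_ : IsProper B.hom) (_ : GeometricallyIntegral B.hom) (L' H' : B.left.Modules),
      topologicalKrullDim ↥B.left = g ∧ PicF.IsInvertible L' ∧ CohB1.IsAmple H' ∧
      (∀ n : ℕ, Φ.eval (n : ℚ) =
        (@Curv2.euler K _ B.left ⟨B.hom⟩ (CohB1.tensorMod L' (CohB1.tensorPow H' n)) : ℚ)) ∧
      ∀ (n a i : ℕ) (N : A.left.Modules), PicF.IsInvertible N → PicF.cl N = PicF.cl L ^ n * PicF.cl H ^ a →
        (Conc (fam L' H' n a) i ↔ Conc N i) := by
  let K := AlgebraicClosure k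
  let σ := Groth.Agent.AV.TateBaseChange.st (k := k) K
  haveI : Smooth A.hom := Groth.L08.Albanese.smooth_of_geometricallyIntegral A
  haveI : IsProper (bc K A).hom := inferInstanceAs (IsProper (pullback.snd A.hom σ))
  haveI : GeometricallyIntegral (bc K A).hom := inferInstanceAs (GeometricallyIntegral (pullback.snd A.hom σ))
  haveI : IsAffineHom σ := inferInstanceAs (IsAffineHom (Spec.map _))
  haveI : IsAffineHom (pullback.fst A.hom σ) := MorphismProperty.pullback_fst A.hom σ ‹IsAffineHom σ›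
  let φ : PicF.Cl A.left →* PicF.Cl (bc K A).left :=
    { toFun := PicF.pullCl (pullback.fst A.hom σ), map_one' := Groth.L08.Cube.pullCl_one _,
      map_mul' := Groth.L08.Cube.pullCl_mul _ }
  have hφ : ∀ M : A.left.Modules, PicF.cl (bcMod K M) = φ (PicF.cl M) := fun M => rfl
  refine ⟨K, inferInstance, inferInstance, bc K A, inferInstance, inferInstance, inferInstance, bcMod K L, bcMod K H,
    (Groth.Agent.L26.PicSm.dim_baseChange_field k K A.hom (CommRingCat.ofHom (algebraMap k K)) (bc K A).hom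
      (pullback.fst A.hom σ) (IsPullback.of_hasPullback A.hom σ)).trans hg,
    PicLoc.isInvertible_pullback _ hL, Groth.L18.Ample.isAmple_pullback_of_isAffineHom _ hH, fun n => ?_,
    fun n a i N hN hcl => ?_⟩
  · letI : A.left.Over (Spec (CommRingCat.of k)) := ⟨A.hom⟩
    letI : (bc K A).left.Over (Spec (CommRingCat.of K)) := ⟨(bc K A).hom⟩
    obtain ⟨e⟩ : Nonempty (bcMod K (CohB1.tensorMod L (CohB1.tensorPow H n)) ≅
        CohB1.tensorMod (bcMod K L) (CohB1.tensorPow (bcMod K H) n)) := by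
      refine (PicGrp.cl_eq_cl_iff _ _).1 ?_
      show φ (PicF.cl L * PicF.cl (CohB1.tensorPow H n)) = φ (PicF.cl L) * PicF.cl (CohB1.tensorPow (bcMod K H) n)
      rw [map_mul, Groth.L08.Cube.cl_tensorPow, Groth.L08.Cube.cl_tensorPow, map_pow]
      rfl
    rw [hΦ, ← euler_bcMod K (Groth.L18.GenLoc.isInvertible_tensor hL (Groth.L18.Ample.isInvertible_tensorPow hH.1 n))]
    exact congrArg Int.cast (Groth.L03.Euler.euler_iso e)
  · refine (conc_iff_of_cl_eq ?_ i).trans (conc_bcMod_iff K hN i)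
    rw [cl_fam, hφ, hφ, hφ N, hcl, map_mul, map_pow, map_pow]

end Groth.Agent.L26.Mumford
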