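import Groth.Agent.L26.Mumford.ConcPow

/-!
Exterior products and concentration.
-/

set_option autoImplicit false
set_option linter.style.haveILetI false
set_option linter.unusedSectionVars false
set_option maxSynthPendingDepth 3
set_option backward.isDefEq.respectTransparency false
set_option backward.isDefEq.respectTransparency.types false

universe u

open CategoryTheory CategoryTheory.Limits MonoidalCategory CartesianMonoidalCategory MonObj GrpObj AlgebraicGeometry
open scoped TensorProduct

noncomputable section

namespace Groth.Agent.L26.Mumford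

attribute [local instance] Groth.L08.Cube.clMonoid

variable {k : Type u} [Field k] {B C : Over (Spec (CommRingCat.of k))}

/-- The exterior product of two modules. -/
abbrev box (L : B.left.Modules) (M : C.left.Modules) : (B ⊗ C).left.Modules :=
  CohB1.tensorMod ((Scheme.Modules.pullback (fst B C).left).obj L) ((Scheme.Modules.pullback (snd B C).left).obj M)

theorem isInvertible_box {L : B.left.Modules} {M : C.left.Modules} (hL : PicF.IsInvertible L) (hM : PicF.IsInvertible M) :
    PicF.IsInvertible (box L M) :=
  Groth.L18.GenLoc.isInvertible_tensor (PicLoc.isInvertible_pullback _ hL) (PicLoc.isInvertible_pullback _ hM)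

set_option synthInstance.maxHeartbeats 400000 in
set_option maxHeartbeats 1600000 in
/-- The Künneth formula for the exterior product. -/
theorem nonempty_kunneth [IsProper B.hom] [IsProper C.hom] {L : B.left.Modules} {M : C.left.Modules}
    (hL : PicF.IsInvertible L) (hM : PicF.IsInvertible M) (n : ℕ) :
    letI : Module k (Coh.HH B.left L n) := Module.compHom _ (Coh.toGlobal B.hom)
    Nonempty ((Π p : Fin (n + 1),
      letI : Module k (Coh.HH B.left L (p : ℕ)) := Module.compHom _ (Coh.toGlobal B.hom)
      letI : Module k (Coh.HH C.left M (n - (p : ℕ))) := Module.compHom _ (Coh.toGlobal C.hom)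
      Coh.HH B.left L (p : ℕ) ⊗[k] Coh.HH C.left M (n - (p : ℕ))) ≃ Coh.HH (B ⊗ C).left (box L M) n) := by
  letI : B.left.Over (Spec (CommRingCat.of k)) := ⟨B.hom⟩
  letI : C.left.Over (Spec (CommRingCat.of k)) := ⟨C.hom⟩
  letI : (pullback (B.left ↘ Spec (CommRingCat.of k)) (C.left ↘ Spec (CommRingCat.of k))).Over
      (Spec (CommRingCat.of k)) := ⟨pullback.fst (B.left ↘ Spec (CommRingCat.of k)) (C.left ↘ Spec (CommRingCat.of k)) ≫
        B.left ↘ Spec (CommRingCat.of k)⟩
  haveI : IsProper (B.left ↘ Spec (CommRingCat.of k)) := ‹IsProper B.hom›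
  haveI : IsProper (C.left ↘ Spec (CommRingCat.of k)) := ‹IsProper C.hom›
  haveI : CompactSpace ↥(Spec (CommRingCat.of k)) := inferInstanceAs (CompactSpace (PrimeSpectrum k))
  haveI : CompactSpace ↥B.left := QuasiCompact.compactSpace_of_compactSpace B.hom
  haveI : CompactSpace ↥C.left := QuasiCompact.compactSpace_of_compactSpace C.hom
  haveI : IsAffineHom (pullback.diagonal (B.left ↘ Spec (CommRingCat.of k))) := inferInstance
  haveI : IsAffineHom (pullback.diagonal (C.left ↘ Spec (CommRingCat.of k))) := inferInstance
  obtain ⟨e⟩ := Groth.Agent.S7635.result k B.left C.left L (Groth.L21.Extend.isQCoh_of_isInvertible hL) M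
    (Groth.L21.Extend.isQCoh_of_isInvertible hM) n
  exact ⟨e.toEquiv⟩

set_option synthInstance.maxHeartbeats 400000 in
set_option maxHeartbeats 1600000 in
/-- The indices add up. -/
theorem conc_box [IsProper B.hom] [IsProper C.hom] {L : B.left.Modules} {M : C.left.Modules}
    (hL : PicF.IsInvertible L) (hM : PicF.IsInvertible M) {i j : ℕ} (hi : Conc L i) (hj : Conc M j) :
    Conc (box L M) (i + j) := by
  letI : B.left.Over (Spec (CommRingCat.of k)) := ⟨B.hom⟩
  letI : C.left.Over (Spec (CommRingCat.of k)) := ⟨C.hom⟩
  haveI : IsProper (B.left ↘ Spec (CommRingCat.of k)) := ‹IsProper B.hom›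
  haveI : IsProper (C.left ↘ Spec (CommRingCat.of k)) := ‹IsProper C.hom›
  haveI := Groth.L21.RR.isNoetherian_of_proper (X := B.left) k
  haveI := Groth.L21.RR.isNoetherian_of_proper (X := C.left) k
  haveI := fun q => Groth.L16.ProperFinite.finite_HH k (Groth.L18.Ample.isCoh_of_isInvertible hL) q
  haveI := fun q => Groth.L16.ProperFinite.finite_HH k (Groth.L18.Ample.isCoh_of_isInvertible hM) q
  refine ⟨fun n hn => ?_, ?_⟩
  · obtain ⟨e⟩ := nonempty_kunneth hL hM n
    haveI : ∀ p : Fin (n + 1), Subsingleton (Coh.HH B.left L (p : ℕ) ⊗[k] Coh.HH C.left M (n - (p : ℕ))) := fun p => by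
      by_cases hp : (p : ℕ) = i
      · haveI := hj.1 (n - (p : ℕ)) (by omega)
        infer_instance
      · haveI := hi.1 (p : ℕ) hp
        infer_instance
    exact e.symm.subsingleton
  · obtain ⟨e⟩ := nonempty_kunneth hL hM (i + j)
    haveI := hi.2
    haveI := hj.2
    rw [← not_subsingleton_iff_nontrivial]
    intro h
    haveI := h
    haveI := e.subsingleton
    have h0 : Module.finrank k (Π p : Fin (i + j + 1), Coh.HH B.left L (p : ℕ) ⊗[k] Coh.HH C.left M (i + j - (p : ℕ))) = 0 :=
      Module.finrank_zero_of_subsingleton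
    rw [Module.finrank_pi_fintype, Finset.sum_eq_zero_iff] at h0
    have h1 := h0 ⟨i, by omega⟩ (Finset.mem_univ _)
    rw [Module.finrank_tensorProduct, show i + j - i = j by omega] at h1
    exact mul_ne_zero (Module.finrank_pos (R := k) (M := Coh.HH B.left L i)).ne'
      (Module.finrank_pos (R := k) (M := Coh.HH C.left M j)).ne' h1

set_option synthInstance.maxHeartbeats 400000 in
set_option maxHeartbeats 1600000 in
/-- A concentrated factor does not exceed the index of the product. -/
theorem le_of_conc_box [IsProper B.hom] [IsProper C.hom] {L : B.left.Modules} {M : C.left.Modules}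
    (hL : PicF.IsInvertible L) (hM : PicF.IsInvertible M) {i n : ℕ} (hi : Conc L i) (h : Conc (box L M) n) :
    i ≤ n := by
  letI : B.left.Over (Spec (CommRingCat.of k)) := ⟨B.hom⟩
  letI : C.left.Over (Spec (CommRingCat.of k)) := ⟨C.hom⟩
  by_contra hlt
  obtain ⟨e⟩ := nonempty_kunneth hL hM n
  haveI : ∀ p : Fin (n + 1), Subsingleton (Coh.HH B.left L (p : ℕ) ⊗[k] Coh.HH C.left M (n - (p : ℕ))) := fun p => by
    haveI := hi.1 (p : ℕ) (by have := p.isLt; omega)
    infer_instance
  exact not_subsingleton_iff_nontrivial.2 h.2 e.symm.subsingleton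

end Groth.Agent.L26.Mumford
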