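import Groth.Agent.L26.Mumford.Count

/-!
All roots of the Hilbert polynomial are real and the index counts the positive ones.
-/

set_option autoImplicit false
set_option linter.style.haveILetI false
set_option linter.unusedSectionVars false
set_option maxSynthPendingDepth 3
set_option backward.isDefEq.respectTransparency false
set_option backward.isDefEq.respectTransparency.types false

universe u

open CategoryTheory CategoryTheory.Limits MonoidalCategory CartesianMonoidalCategory AlgebraicGeometry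
open Polynomial

noncomputable section

namespace Groth.Agent.L26.Mumford

attribute [local instance] Groth.L08.Cube.clMonoid

variable {k : Type u} [Field k] {A : Over (Spec (CommRingCat.of k))} [IsProper A.hom]

variable [GrpObj A] [GeometricallyIntegral A.hom]

/-- The Hilbert polynomial of an invertible module has degree at most the dimension. -/
theorem exists_hilbert {g : ℕ} (hg : topologicalKrullDim ↥A.left = g) {L H : A.left.Modules}
    (hL : PicF.IsInvertible L) (hH : PicF.IsInvertible H) :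
    ∃ Φ : ℚ[X], Φ.natDegree ≤ g ∧ ∀ n : ℕ, Φ.eval (n : ℚ) =
      (@Curv2.euler k _ A.left ⟨A.hom⟩ (CohB1.tensorMod L (CohB1.tensorPow H n)) : ℚ) := by
  letI : A.left.Over (Spec (CommRingCat.of k)) := ⟨A.hom⟩
  haveI : IsProper (A.left ↘ Spec (CommRingCat.of k)) := ‹IsProper A.hom›
  haveI := Groth.L21.RR.isNoetherian_of_proper (X := A.left) k
  have hdim : topologicalKrullDim (CohB1.support L) ≤ g :=
    ((Topology.IsInducing.subtypeVal (t := CohB1.support L)).topologicalKrullDim_le).trans hg.le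
  obtain ⟨P, hP, hP'⟩ := Groth.L03.Euler.exists_isHilbPoly (k := k) hH (Groth.L18.Ample.isCoh_of_isInvertible hL) hdim
  exact ⟨P, hP, fun n => (hP' n).symm⟩

/-- A non-degenerate module becomes of index zero after a large ample twist. -/
theorem exists_conc_zero [IsAlgClosed k] {g : ℕ} (hg : topologicalKrullDim ↥A.left = g) {L H : A.left.Modules}
    (hL : PicF.IsInvertible L) (hH : CohB1.IsAmple H) {i : ℕ} (hc : Conc L i) :
    ∃ N₀ : ℕ, ∀ n, N₀ ≤ n → Conc (fam L H 1 n) 0 := by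
  classical
  letI : A.left.Over (Spec (CommRingCat.of k)) := ⟨A.hom⟩
  haveI : IsProper (A.left ↘ Spec (CommRingCat.of k)) := ‹IsProper A.hom›
  haveI := Groth.L21.RR.isNoetherian_of_proper (X := A.left) k
  obtain ⟨Φ, -, hΦ⟩ := exists_hilbert hg hL hH.1
  obtain ⟨d₀, hd₀⟩ := Groth.L16.Existence.exists_vanishing_of_isAmple (A := k) hH
    (Groth.L18.Ample.isCoh_of_isInvertible hL)
  have h0 := eval_ne_zero_of_conc hg hL hH hΦ one_pos (a := 0) ((conc_iff_of_cl_eq (by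
    rw [cl_fam, ← cl_eq_one_zero L H]) i).2 hc)
  have hP : Φ.map (algebraMap ℚ ℝ) ≠ 0 := fun h => h0 (by rw [h, Polynomial.eval_zero])
  obtain ⟨T, hT⟩ := ((Φ.map (algebraMap ℚ ℝ)).roots.toFinset.finite_toSet).bddAbove
  obtain ⟨M, hM⟩ := exists_nat_gt T
  refine ⟨max d₀ M, fun n hn => ?_⟩
  have hne : (Φ.map (algebraMap ℚ ℝ)).eval ((n : ℝ) / ((1 : ℕ) : ℝ)) ≠ 0 := fun h => by
    rw [Nat.cast_one, div_one] at h
    have := hT (show (n : ℝ) ∈ ((Φ.map (algebraMap ℚ ℝ)).roots.toFinset : Set ℝ) from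
      Finset.mem_coe.2 (Multiset.mem_toFinset.2 ((Polynomial.mem_roots hP).2 h)))
    have : (M : ℝ) ≤ n := by exact_mod_cast (le_max_right d₀ M).trans hn
    linarith
  obtain ⟨j, -, hj⟩ := exists_conc_fam hg hL hH.1 hΦ one_pos n hne
  rcases Nat.eq_zero_or_pos j with rfl | hj0
  · exact hj
  exfalso
  refine not_subsingleton_iff_nontrivial.2 hj.2 ?_
  obtain ⟨e⟩ : Nonempty (CohB1.tensorMod (CohB1.tensorPow H n) L ≅ fam L H 1 n) := by
    refine (PicGrp.cl_eq_cl_iff _ _).1 ?_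
    show PicF.cl (CohB1.tensorPow H n) * PicF.cl L = _
    rw [cl_fam, Groth.L08.Cube.cl_tensorPow, pow_one, mul_comm]
  haveI := hd₀ n ((le_max_left d₀ M).trans hn) j hj0
  exact (Groth.L17.BC.HHequiv e j).toEquiv.symm.subsingleton

set_option maxHeartbeats 1600000 in
/-- All roots are real and the index is the number of positive ones. -/
theorem roots_of_conc {L H : A.left.Modules} (hL : PicF.IsInvertible L) (hH : CohB1.IsAmple H) {i : ℕ}
    (hc : Conc L i) {Φ : ℚ[X]} (hΦ : ∀ n : ℕ, Φ.eval (n : ℚ) =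
      (@Curv2.euler k _ A.left ⟨A.hom⟩ (CohB1.tensorMod L (CohB1.tensorPow H n)) : ℚ)) :
    Multiset.card (Φ.map (algebraMap ℚ ℝ)).roots = Φ.natDegree ∧
      i = Multiset.card ((Φ.map (algebraMap ℚ ℝ)).roots.filter (fun t => 0 < t)) := by
  classical
  obtain ⟨g, -, hg⟩ := Groth.L08.GrpDim.exists_dim A
  obtain ⟨K, _, _, B, _, _, _, L₁, H₁, hgB, hL₁, hH₁, hΦ₁, hconc⟩ := exists_closed_data hg hL hH hΦ
  have hc₁ : Conc L₁ i := (conc_iff_of_cl_eq (by rw [cl_fam, ← cl_eq_one_zero L₁ H₁]) i).1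
    ((hconc 1 0 i L hL (cl_eq_one_zero L H)).2 hc)
  obtain ⟨L', hL', ⟨eL⟩⟩ := Groth.L08.Cube.exists_inverse hL₁
  obtain ⟨H', hH', ⟨eH⟩⟩ := Groth.L08.Cube.exists_inverse hH₁.1
  have hLone : PicF.cl L₁ * PicF.cl L' = 1 := (PicGrp.cl_eq_cl_iff _ _).2 ⟨eL⟩
  have hHone : PicF.cl H₁ * PicF.cl H' = 1 := (PicGrp.cl_eq_cl_iff _ _).2 ⟨eH⟩
  obtain ⟨-, hc'⟩ := conc_inverse hgB hL₁ eL hL' hc₁
  obtain ⟨N₁, hN₁⟩ := exists_conc_zero hgB hL₁ hH₁ hc₁
  obtain ⟨N₂, hN₂⟩ := exists_conc_zero hgB hL' hH₁ hc'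
  obtain ⟨N, hN1, hN2⟩ : ∃ N : ℕ, N₁ ≤ N ∧ N₂ ≤ N := ⟨max N₁ N₂, le_max_left _ _, le_max_right _ _⟩
  -- the far negative twist
  let L₀ := fam L₁ H' 1 N
  have hL₀ : PicF.IsInvertible L₀ := isInvertible_fam hL₁ hH' 1 N
  have hHN : PicF.cl H₁ ^ N * PicF.cl H' ^ N = 1 := by rw [← mul_pow, hHone, one_pow]
  obtain ⟨e₀⟩ : Nonempty (CohB1.tensorMod (fam L' H₁ 1 N) L₀ ≅ Coh.structureModule B.left) := by
    refine (PicGrp.cl_eq_cl_iff _ _).1 ?_
    show PicF.cl (fam L' H₁ 1 N) * PicF.cl L₀ = 1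
    rw [cl_fam, cl_fam, pow_one, pow_one, _root_.mul_mul_mul_comm, hHN, mul_comm (PicF.cl L'), hLone, _root_.one_mul]
  have hcl : ∀ n, PicF.cl L₀ ^ 1 * PicF.cl H₁ ^ (n + N) = PicF.cl L₁ ^ 1 * PicF.cl H₁ ^ n := fun n => by
    rw [pow_one, cl_fam, pow_one, _root_.mul_assoc, add_comm, pow_add, ← _root_.mul_assoc (PicF.cl H' ^ N),
      mul_comm (PicF.cl H' ^ N), hHN, _root_.one_mul]
  obtain ⟨-, hc₀⟩ := conc_inverse hgB (isInvertible_fam hL' hH₁.1 1 N) e₀ hL₀ (hN₂ N hN2)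
  rw [Nat.sub_zero] at hc₀
  obtain ⟨Φ₀, hdeg, hΦ₀⟩ := exists_hilbert hgB hL₀ hH₁.1
  have h00 : Conc (fam L₀ H₁ 1 0) g := (conc_iff_of_cl_eq (by rw [cl_fam, ← cl_eq_one_zero L₀ H₁]) g).2 hc₀
  have h0i : Conc (fam L₀ H₁ 1 N) i := (conc_iff_of_cl_eq (by
    have h := hcl 0
    rw [Nat.zero_add] at h
    exact (cl_fam L₀ H₁ 1 N).trans (h.trans (cl_eq_one_zero L₁ H₁).symm)) i).2 hc₁
  have h02 : Conc (fam L₀ H₁ 1 (N + N)) 0 := (conc_iff_of_cl_eq (by
    exact (cl_fam L₀ H₁ 1 (N + N)).trans ((hcl N).trans (cl_fam L₁ H₁ 1 N).symm)) 0).2 (hN₁ N hN1)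
  have hA := index_le_between hgB hL₀ hH₁ hΦ₀ one_pos (Nat.zero_le N) h00 h0i
  have hB := index_le_between hgB hL₀ hH₁ hΦ₀ one_pos (Nat.le_add_right N N) h0i h02
  simp only [Nat.cast_one, div_one, Nat.cast_zero, Nat.cast_add, Nat.zero_add] at hA hB
  set P₀ := Φ₀.map (algebraMap ℚ ℝ) with hP₀
  let R := Multiset.card P₀.roots
  have hR : R ≤ Φ₀.natDegree := (Polynomial.card_roots' _).trans (by rw [hP₀, Polynomial.natDegree_map])
  let Q := Multiset.card (P₀.roots.filter fun t => (N : ℝ) < t)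
  have hBQ : Multiset.card (between P₀ (N : ℝ) ((N : ℝ) + N)) ≤ Q :=
    Multiset.card_le_card (Multiset.monotone_filter_right _ fun t ht => ht.1)
  have hAQ : Multiset.card (between P₀ 0 (N : ℝ)) + Q ≤ R := by
    simp only [Q, R, between]
    rw [← Multiset.card_add, Multiset.filter_add_filter,
      show P₀.roots.filter (fun t => (0 < t ∧ t < (N : ℝ)) ∧ (N : ℝ) < t) = 0 from
        Multiset.filter_eq_nil.2 fun t _ ht => lt_asymm ht.1.2 ht.2, add_zero]
    exact Multiset.card_le_card (Multiset.filter_le _ _)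
  -- back to the original polynomial
  have hshift : Φ = Φ₀.comp (X + C (N : ℚ)) := by
    letI : B.left.Over (Spec (CommRingCat.of K)) := ⟨B.hom⟩
    refine Groth.L03.Euler.eq_of_eventually_eval_eq 0 fun n _ => ?_
    rw [Polynomial.eval_comp, Polynomial.eval_add, Polynomial.eval_X, Polynomial.eval_C, ← Nat.cast_add, hΦ₀, hΦ₁]
    obtain ⟨e⟩ : Nonempty (CohB1.tensorMod L₁ (CohB1.tensorPow H₁ n) ≅
        CohB1.tensorMod L₀ (CohB1.tensorPow H₁ (n + N))) := by
      refine (PicGrp.cl_eq_cl_iff _ _).1 ?_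
      have h := hcl n
      rw [pow_one, pow_one] at h
      show PicF.cl L₁ * PicF.cl (CohB1.tensorPow H₁ n) = PicF.cl L₀ * PicF.cl (CohB1.tensorPow H₁ (n + N))
      rw [Groth.L08.Cube.cl_tensorPow, Groth.L08.Cube.cl_tensorPow]
      exact h.symm
    exact congrArg Int.cast (Groth.L03.Euler.euler_iso e)
  have hroots : (Φ.map (algebraMap ℚ ℝ)).roots = P₀.roots.map fun t => t - (N : ℝ) := by
    rw [hshift, Polynomial.map_comp, Polynomial.map_add, Polynomial.map_X, Polynomial.map_C, map_natCast,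
      roots_comp_shift]
  rw [hroots, Multiset.card_map, Multiset.filter_map, Multiset.card_map, hshift, Polynomial.natDegree_comp,
    Polynomial.natDegree_X_add_C, Nat.mul_one]
  have hQ : Multiset.card (P₀.roots.filter ((fun t : ℝ => 0 < t) ∘ fun t => t - (N : ℝ))) = Q :=
    congrArg Multiset.card (Multiset.filter_congr fun t _ => sub_pos)
  rw [hQ]
  exact ⟨by omega, by omega⟩

end Groth.Agent.L26.Mumford
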