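import Groth.Agent.L26.Mumford.Betti
import Groth.Agent.L26.PicSm.Dimension

/-!
The Betti numbers of the structure sheaf of an abelian variety over any field.
-/

set_option autoImplicit false
set_option linter.style.haveILetI false
set_option linter.unusedSectionVars false
set_option maxSynthPendingDepth 3
set_option backward.isDefEq.respectTransparency false
set_option backward.isDefEq.respectTransparency.types false

universe u

open CategoryTheory CategoryTheory.Limits MonoidalCategory CartesianMonoidalCategory MonObj GrpObj AlgebraicGeometry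

noncomputable section

namespace Groth.Agent.L26.Mumford

variable {k : Type u} [Field k] {A : Over (Spec (CommRingCat.of k))}

/-- The cohomology of the structure sheaf after a field extension has the same dimensions. -/
theorem finrank_HH_baseChange [IsProper A.hom] [Flat A.hom] (K : Type u) [Field K] [Algebra k K] (i : ℕ) :
    letI : Module k (Coh.HH A.left (Coh.structureModule A.left) i) := Module.compHom _ (Coh.toGlobal A.hom)
    letI : Module K (Coh.HH (Red.bc (AbVar.ext k K) A).left (Coh.structureModule _) i) :=
      Module.compHom _ (Coh.toGlobal (A := K) (Red.bc (AbVar.ext k K) A).hom)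
    Module.finrank k (Coh.HH A.left (Coh.structureModule A.left) i) =
      Module.finrank K (Coh.HH (Red.bc (AbVar.ext k K) A).left (Coh.structureModule _) i) := by
  let X := Red.bc (AbVar.ext k K) A
  let f' : X.left ⟶ Spec (CommRingCat.of K) := X.hom
  let σ := Spec.map (CommRingCat.ofHom (algebraMap k K))
  letI : Module k (Coh.HH A.left (Coh.structureModule A.left) i) := Module.compHom _ (Coh.toGlobal A.hom)
  letI : Module K (Coh.HH X.left (Coh.structureModule _) i) := Module.compHom _ (Coh.toGlobal f')
  letI : Module K (Coh.HH X.left (Coh.structureModule (pullback A.hom σ)) i) := Module.compHom _ (Coh.toGlobal f')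
  haveI : IsLocallyNoetherian A.left := LocallyOfFiniteType.isLocallyNoetherian A.hom
  have hO := Groth.L18.Ample.isInvertible_structureModule A.left
  haveI : Coh.IsQCoh (Coh.structureModule A.left) := Groth.L21.Extend.isQCoh_of_isInvertible hO
  obtain ⟨m⟩ := Groth.L17.BC.nonempty_model A.hom (Coh.structureModule A.left)
    (Groth.L16.ProperFinite.isCoh_of_isInvertible hO)
    (fun V hV => Groth.L08.Cube.flat_sections A.hom hO V hV)
  have sq₁ : IsPullback (𝟙 A.left) A.hom A.hom (Spec.map (CommRingCat.ofHom (algebraMap k k))) := by
    rw [show Spec.map (CommRingCat.ofHom (algebraMap k k)) = 𝟙 _ from Spec.map_id _]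
    exact IsPullback.of_horiz_isIso ⟨by simp⟩
  have sq₂ : IsPullback (pullback.fst A.hom σ) f' A.hom σ := IsPullback.of_hasPullback A.hom σ
  letI : Module k (Coh.HH A.left ((Scheme.Modules.pullback (𝟙 A.left)).obj (Coh.structureModule A.left)) i) :=
    Module.compHom _ (Coh.toGlobal A.hom)
  letI : Module K (Coh.HH X.left ((Scheme.Modules.pullback (pullback.fst A.hom σ)).obj (Coh.structureModule A.left)) i) :=
    Module.compHom _ (Coh.toGlobal f')
  obtain ⟨e₁⟩ := nonempty_HH_congr A.hom ((Scheme.Modules.pullbackId A.left).app (Coh.structureModule A.left)) i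
  obtain ⟨e₂⟩ := nonempty_HH_congr f' (Groth.L29.LocFree.pullbackUnitIso (pullback.fst A.hom σ)) i
  have h2 : PrimeSpectrum.comap (algebraMap k K) ⊥ = PrimeSpectrum.comap (algebraMap k k) ⊥ :=
    Subsingleton.elim _ _
  exact e₁.finrank_eq.symm.trans ((m.finrank_eq_dRank A.hom (𝟙 A.left) sq₁ i).trans
    ((h2 ▸ (m.finrank_eq_dRank f' (pullback.fst A.hom σ) sq₂ i).symm).trans e₂.finrank_eq))

/-- `h^i(O_A) = C(g, i)` over any field. -/
theorem finrank_HH_structure' [GrpObj A] [IsProper A.hom] [Smooth A.hom]
    [GeometricallyConnected A.hom] (g : ℕ) (hg : topologicalKrullDim ↥A.left = g) (i : ℕ) :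
    letI : Module k (Coh.HH A.left (Coh.structureModule A.left) i) := Module.compHom _ (Coh.toGlobal A.hom)
    Module.finrank k (Coh.HH A.left (Coh.structureModule A.left) i) = g.choose i := by
  let σ : Spec (CommRingCat.of (AlgebraicClosure k)) ⟶ Spec (CommRingCat.of k) := AbVar.ext k (AlgebraicClosure k)
  let X := Red.bc σ A
  haveI : IsProper X.hom := inferInstanceAs (IsProper (pullback.snd A.hom σ))
  haveI : Smooth X.hom := inferInstanceAs (Smooth (pullback.snd A.hom σ))
  haveI : GeometricallyConnected X.hom := inferInstanceAs (GeometricallyConnected (pullback.snd A.hom σ))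
  have hdim : topologicalKrullDim ↥X.left = g :=
    (Groth.Agent.L26.PicSm.dim_baseChange_field k (AlgebraicClosure k) A.hom
      (CommRingCat.ofHom (algebraMap k (AlgebraicClosure k))) X.hom (pullback.fst A.hom σ)
      (IsPullback.of_hasPullback A.hom σ)).trans hg
  exact (finrank_HH_baseChange (AlgebraicClosure k) i).trans (finrank_HH_structure (A := X) g hdim i)

end Groth.Agent.L26.Mumford
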