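import Groth.Agent.L26.Mumford.IndexChi
import Groth.Agent.L26.Mumford.BettiField
import Groth.Agent.L26.Elliptic.RelDim
import Groth.Agent.L26.AbDual.Primitive
import Groth.Agent.L19.OmegaSh.GroupScheme
import Groth.Agent.L02.Canon.Basic
import Groth.Agent.L12.ExtSh.Free
import Groth.Agent.L20.ExtPull
import Groth.Agent.L03.SurfExt.EndEuler
import Groth.Agent.S1937

/-!
The Hodge numbers of an abelian variety.
-/

set_option autoImplicit false
set_option linter.style.haveILetI false
set_option linter.unusedSectionVars false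
set_option maxSynthPendingDepth 3
set_option backward.isDefEq.respectTransparency false
set_option backward.isDefEq.respectTransparency.types false

universe u

open CategoryTheory CategoryTheory.Limits MonoidalCategory CartesianMonoidalCategory MonObj GrpObj AlgebraicGeometry

noncomputable section

namespace Groth.Agent.L26.Mumford

variable {k : Type u} [Field k]

/-- An integral variety, smooth and of dimension `g`, is smooth of relative dimension `g`. -/
theorem smoothOfRelativeDimension_of_dim {X : Scheme.{u}} (p : X ⟶ Spec (CommRingCat.of k)) [Smooth p]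
    [IsIntegral X] (g : ℕ) (hg : topologicalKrullDim ↥X = g) : SmoothOfRelativeDimension g p := by
  refine ⟨fun x => ?_⟩
  obtain ⟨U, hU, V, hV, hxV, e, h⟩ := Smooth.exists_isStandardSmooth p x
  refine ⟨U, hU, V, hV, hxV, e, ?_⟩
  obtain ⟨n, hn⟩ : ∃ n, (p.appLE U V e).hom.IsStandardSmoothOfRelativeDimension n := by
    letI := (p.appLE U V e).hom.toAlgebra
    obtain ⟨α, σ, _, _, ⟨P⟩⟩ := h
    exact ⟨P.dimension, α, σ, ‹_›, ‹_›, P, rfl⟩
  haveI := Groth.Agent.Elliptic.smoothOfRelativeDimension_opens_ι p hU hV e hn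
  have hne : (V : Set X).Nonempty := ⟨x, hxV⟩
  haveI : Nonempty V := hne.to_subtype
  haveI : IsIntegral (V : Scheme.{u}) := isIntegral_of_isOpenImmersion V.ι
  letI : X.Over (Spec (CommRingCat.of k)) := ⟨p⟩
  haveI : LocallyOfFiniteType (X ↘ Spec (CommRingCat.of k)) := (inferInstance : LocallyOfFiniteType p)
  obtain ⟨m, hm, -, hmU⟩ := Groth.L22.SchemeDim.exists_dim_eq_trdeg k X
  have h1 : topologicalKrullDim (V : Scheme.{u}) = (n : ℕ) := Groth.L03.SurfAdj.dim_of_relDim (k := k) (V.ι ≫ p) n
  have h3 := (hmU V hne).symm.trans h1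
  rw [← hm, hg] at h3
  obtain rfl : g = n := by exact_mod_cast h3
  exact hn

/-- A module of constant rank over the spectrum of a field is free. -/
theorem nonempty_free_of_rank {M : (Spec (CommRingCat.of k)).Modules} {n : ℕ}
    (hM : FlatMod.IsFinLocFreeOfRank n M) : Nonempty (M ≅ FlatMod.freeMod (Spec (CommRingCat.of k)) n) := by
  obtain ⟨U, hxU, ⟨e⟩⟩ := hM (IsLocalRing.closedPoint k)
  have hU : U = ⊤ := top_unique fun x _ => by
    haveI : Subsingleton ↥(Spec (CommRingCat.of k)) := inferInstanceAs (Subsingleton (PrimeSpectrum k))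
    rwa [Subsingleton.elim x (IsLocalRing.closedPoint k)]
  subst hU
  let t : (⊤ : (Spec (CommRingCat.of k)).Opens).toScheme ≅ Spec (CommRingCat.of k) := Scheme.topIso _
  have ht : t.inv ≫ (⊤ : (Spec (CommRingCat.of k)).Opens).ι = 𝟙 _ := t.inv_hom_id
  exact ⟨((Scheme.Modules.pullbackId _).app M).symm ≪≫ (Scheme.Modules.pullbackCongr ht.symm).app M ≪≫
      ((Scheme.Modules.pullbackComp _ _).app M).symm ≪≫
      (Scheme.Modules.pullback t.inv).mapIso (((Scheme.Modules.restrictFunctorIsoPullback _).app M).symm ≪≫ e) ≪≫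
      Groth.L29.LocFree.pullbackFreeIso _ n⟩

/-- Cohomology of free modules. -/
theorem finrank_HH_free {X : Scheme.{u}} [X.Over (Spec (CommRingCat.of k))]
    [IsProper (X ↘ Spec (CommRingCat.of k))] (e : ℕ) (s : ℕ) :
    Module.finrank k (Coh.HH X (FlatMod.freeMod X e) s) =
      e * Module.finrank k (Coh.HH X (Coh.structureModule X) s) := by
  haveI := Groth.L21.RR.isNoetherian_of_proper (X := X) k
  have h := Groth.L03.SurfExt.additive_free (X := X) (fun M => (Module.finrank k (Coh.HH X M s) : ℤ))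
    (fun hM => by
      haveI := Groth.L03.Euler.subsingleton_HH_of_isZero hM s
      rw [Module.finrank_zero_of_subsingleton, Nat.cast_zero])
    (fun {T} sp h1 h2 h3 => by
      haveI := Groth.L16.ProperFinite.finite_HH k h2 s
      let g := Groth.L16.CohLinear.overLin k (Groth.L16.CohLinear.hmap T.g s)
      let f := Groth.L16.CohLinear.overLin k (Groth.L16.CohLinear.hmap T.f s)
      have hg : Function.Surjective g := fun y => ⟨Groth.L16.CohLinear.hmap sp.s s y, by
        show Groth.L16.CohLinear.hmap T.g s (Groth.L16.CohLinear.hmap sp.s s y) = y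
        rw [← Groth.L16.CohLinear.hmap_comp, sp.s_g, Groth.L16.CohLinear.hmap_id]⟩
      have hf : Function.Injective f := Function.LeftInverse.injective
        (g := Groth.L16.CohLinear.hmap sp.r s) fun y => by
          show Groth.L16.CohLinear.hmap sp.r s (Groth.L16.CohLinear.hmap T.f s y) = y
          rw [← Groth.L16.CohLinear.hmap_comp, sp.f_r, Groth.L16.CohLinear.hmap_id]
      have hk : LinearMap.ker g = LinearMap.range f := by
        ext x
        exact Groth.L16.CohLinear.exact_hmap_hmap (S := T) sp.shortExact s x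
      have h := LinearMap.finrank_range_add_finrank_ker g
      rw [LinearMap.range_eq_top.2 hg, _root_.finrank_top, hk, LinearMap.finrank_range_of_inj hf] at h
      rw [← h]
      push_cast
      ring) e
  exact_mod_cast h

/-- `h^s(Ω^r) = C(g, r) C(g, s)`. -/
theorem finrank_HH_extPow [IsAlgClosed k] (A : Over (Spec (CommRingCat.of k))) [GrpObj A] [IsProper A.hom]
    [Smooth A.hom] [GeometricallyConnected A.hom] (g : ℕ) (hg : topologicalKrullDim ↥A.left = g) (r : ℕ)
    (L : A.left.Modules) (hL : ExtPow.IsExtPow r (Omega.sheaf A.hom) L) (s : ℕ) :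
    @Module.finrank k (Coh.HH A.left L s) _ _ (@Coh.moduleOver k _ A.left ⟨A.hom⟩ L s) =
      g.choose r * g.choose s := by
  letI : A.left.Over (Spec (CommRingCat.of k)) := ⟨A.hom⟩
  haveI : IsProper (A.left ↘ Spec (CommRingCat.of k)) := ‹IsProper A.hom›
  haveI : GeometricallyIntegral A.hom := geometricallyIntegral_av A
  haveI : IsIntegral A.left := GeometricallyIntegral.isIntegral_of_subsingleton A.hom
  haveI := smoothOfRelativeDimension_of_dim A.hom g hg
  let C := Omega.conormal η[A].left
  obtain ⟨⟨e⟩, -⟩ := Groth.Agent.S1937.result (Spec (CommRingCat.of k)) A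
  have hC : FlatMod.IsFinLocFreeOfRank g C := by
    have h := Groth.L12.StabLimit.isFinLocFreeOfRank_pullback η[A].left
      (Groth.L02.Canon.isFinLocFreeOfRank_omega (f := A.hom) g)
    have hw : η[A].left ≫ A.hom = 𝟙 _ := Over.w η[A]
    let ε : (Scheme.Modules.pullback η[A].left).obj (Omega.sheaf A.hom) ≅ C :=
      (Scheme.Modules.pullback η[A].left).mapIso e ≪≫ (Scheme.Modules.pullbackComp _ _).app C ≪≫
        (Scheme.Modules.pullbackCongr hw).app C ≪≫ (Scheme.Modules.pullbackId _).app C
    exact fun x => let ⟨U, hU, ⟨i⟩⟩ := h x; ⟨U, hU, ⟨(Scheme.Modules.restrictFunctor U.ι).mapIso ε.symm ≪≫ i⟩⟩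
  haveI : Coh.IsQCoh C := Groth.L29.DC.PCQCoh.isQCoh_of_isFinLocFree (fun x =>
    let ⟨U, hU, h⟩ := hC x; ⟨U, g, hU, h⟩)
  obtain ⟨W, hW⟩ := Groth.L12.ExtSh.exists_isExtPow C r
  obtain ⟨a⟩ := nonempty_free_of_rank (Groth.L12.ExtSh.isFinLocFreeOfRank_of_isExtPow hC hW)
  obtain ⟨b⟩ := Groth.L12.ExtSh.nonempty_iso_of_isExtPow hL
    (Groth.L20.ExtPull.isExtPow_congr e.symm (Groth.L20.ExtPull.isExtPow_pullback A.hom hW))
  let c : L ≅ FlatMod.freeMod A.left (g.choose r) :=
    b ≪≫ (Scheme.Modules.pullback A.hom).mapIso a ≪≫ Groth.L29.LocFree.pullbackFreeIso A.hom _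
  obtain ⟨θ⟩ := nonempty_HH_congr (B := k) A.hom c s
  refine θ.finrank_eq.trans ((finrank_HH_free (k := k) (g.choose r) s).trans ?_)
  exact congrArg (g.choose r * ·) (finrank_HH_structure (A := A) g hg s)

end Groth.Agent.L26.Mumford
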