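import Groth.Agent.L26.Mumford.Fst
import Groth.Agent.L26.Mumford.Hodge
import Groth.Agent.L26.Pic0.Mumford
import Groth.Agent.L26.KL.Exists
import Mathlib.Topology.JacobsonSpace
import Groth.Agent.L22.Adjunction.NormalDiv
import Groth.Agent.L22.Adjunction.ExtTop
import Groth.Agent.L22.VBSub.DualMap
import Groth.Agent.L03.SurfAdj.Embed
import Groth.Agent.L26.AV.Degree
import Groth.Agent.S5668
import Groth.Agent.L22.Adjunction.SmoothDual
import Groth.Agent.S7635

/-!
A non-degenerate invertible module on an abelian variety has cohomology in one degree only.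
-/

set_option autoImplicit false
set_option linter.style.haveILetI false
set_option linter.unusedSectionVars false
set_option maxSynthPendingDepth 3
set_option backward.isDefEq.respectTransparency false
set_option backward.isDefEq.respectTransparency.types false

universe u

open CategoryTheory CategoryTheory.Limits MonoidalCategory CartesianMonoidalCategory MonObj GrpObj AlgebraicGeometry
open Groth.Agent.AbDualLib (oneCl bil bil_whiskerLeft)
open Groth.L01.FlatCx (bc unitEquiv)
open scoped TensorProduct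

noncomputable section

namespace Groth.Agent.L26.Mumford

attribute [local instance] Groth.L08.Cube.clMonoid

section Dual

variable {k : Type u} [Field k] [IsAlgClosed k] {A : Over (Spec (CommRingCat.of k))} [GrpObj A] [IsProper A.hom]
  [Smooth A.hom] [GeometricallyConnected A.hom]

set_option synthInstance.maxHeartbeats 400000 in
set_option maxHeartbeats 1600000 in
/-- Duality on an abelian variety. -/
theorem finrank_HH_inverse {g : ℕ} (hg : topologicalKrullDim ↥A.left = g) {L L' : A.left.Modules}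
    (hL : PicF.IsInvertible L) (e : CohB1.tensorMod L L' ≅ Coh.structureModule A.left) (p : ℕ) (hp : p ≤ g) :
    @Module.finrank k (Coh.HH A.left L p) _ _ (@Coh.moduleOver k _ A.left ⟨A.hom⟩ L p) =
      @Module.finrank k (Coh.HH A.left L' (g - p)) _ _ (@Coh.moduleOver k _ A.left ⟨A.hom⟩ L' (g - p)) := by
  letI : A.left.Over (Spec (CommRingCat.of k)) := ⟨A.hom⟩
  haveI : IsProper (A.left ↘ Spec (CommRingCat.of k)) := ‹IsProper A.hom›
  haveI : GeometricallyIntegral A.hom := geometricallyIntegral_av A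
  haveI : IsCommMonObj A := isCommMonObj_of_isProper_of_geometricallyIntegral A
  haveI : IsIntegral A.left := GeometricallyIntegral.isIntegral_of_subsingleton A.hom
  haveI := smoothOfRelativeDimension_of_dim A.hom g hg
  haveI : SmoothOfRelativeDimension g (A.left ↘ Spec (CommRingCat.of k)) := ‹SmoothOfRelativeDimension g A.hom›
  -- top forms
  let C := Omega.conormal η[A].left
  obtain ⟨⟨e1⟩, -⟩ := Groth.Agent.S1937.result (Spec (CommRingCat.of k)) A
  have hC : FlatMod.IsFinLocFreeOfRank g C := by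
    have h := Groth.L12.StabLimit.isFinLocFreeOfRank_pullback η[A].left
      (Groth.L02.Canon.isFinLocFreeOfRank_omega (f := A.hom) g)
    have hw : η[A].left ≫ A.hom = 𝟙 _ := Over.w η[A]
    let ε : (Scheme.Modules.pullback η[A].left).obj (Omega.sheaf A.hom) ≅ C :=
      (Scheme.Modules.pullback η[A].left).mapIso e1 ≪≫ (Scheme.Modules.pullbackComp _ _).app C ≪≫
        (Scheme.Modules.pullbackCongr hw).app C ≪≫ (Scheme.Modules.pullbackId _).app C
    exact fun x => let ⟨U, hU, ⟨i⟩⟩ := h x; ⟨U, hU, ⟨(Scheme.Modules.restrictFunctor U.ι).mapIso ε.symm ≪≫ i⟩⟩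
  haveI : Coh.IsQCoh C := Groth.L29.DC.PCQCoh.isQCoh_of_isFinLocFree (fun x =>
    let ⟨U, hU, h⟩ := hC x; ⟨U, g, hU, h⟩)
  obtain ⟨W, hW⟩ := Groth.L12.ExtSh.exists_isExtPow C g
  have hW1 := Groth.L12.ExtSh.isFinLocFreeOfRank_of_isExtPow hC hW
  rw [Nat.choose_self] at hW1
  obtain ⟨a'⟩ := nonempty_free_of_rank hW1
  let a : W ≅ Coh.structureModule _ :=
    a' ≪≫ coproductUniqueIso (fun _ : Fin 1 => Coh.structureModule (Spec (CommRingCat.of k)))
  let ω := (Scheme.Modules.pullback A.hom).obj W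
  have hω : ExtPow.IsExtPow g (Omega.sheaf (A.left ↘ Spec (CommRingCat.of k))) ω :=
    Groth.L20.ExtPull.isExtPow_congr e1.symm (Groth.L20.ExtPull.isExtPow_pullback A.hom hW)
  let eω : ω ≅ Coh.structureModule A.left :=
    (Scheme.Modules.pullback A.hom).mapIso a ≪≫ Groth.L29.LocFree.pullbackUnitIso A.hom
  -- the embedding
  obtain ⟨H, hH⟩ := Groth.Agent.AV.Degree.exists_isAmple A
  obtain ⟨r, emb, hemb, hemb'⟩ := Groth.L03.SurfAdj.exists_proj k hH
  haveI := hemb
  haveI := Groth.L22.VBSub.hasSheafHom L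
  obtain ⟨d⟩ := Groth.Agent.S5668.result k g r A.left emb hemb' ω hω L
    (Groth.L20.ResDescent.isFinLocFree_of_isInvertible hL) p hp
  obtain ⟨u⟩ := Groth.L22.Adjunction.nonempty_homMod_tensor hL L'
  let eS : DCoh.sheafHom L ≅ Groth.L16.HomSh.homModF L := (DCoh.sheafHomAdj L).rightAdjointUniq
    ((Groth.L16.HomSh.tensorHomAdj L).ofNatIsoLeft (Groth.L22.PDual.biIso L))
  let v : (DCoh.sheafHom L).obj ω ≅ L' :=
    eS.app _ ≪≫ (Groth.L16.HomSh.homModF L).mapIso (eω ≪≫ e.symm) ≪≫ u
  have h := d.finrank_eq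
  rw [Subspace.dual_finrank_eq] at h
  exact h.trans (Groth.L03.Euler.finrank_HH_of_iso v (g - p))

end Dual

section Family

variable {k : Type u} [Field k] [IsAlgClosed k] {A : Over (Spec (CommRingCat.of k))} [GrpObj A] [IsCommMonObj A]
  [IsProper A.hom] [Smooth A.hom] [GeometricallyConnected A.hom] [GeometricallyIntegral A.hom]
  (L : A.left.Modules) (hL : PicF.IsInvertible L)

/-- The Mumford family over the second factor, twisted from the base. -/
abbrev sigmaL : A ⊗ A ⟶ A ⊗ A := lift μ[A] (fst A A)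

instance : IsIso (sigmaL (A := A)) := by
  refine ⟨⟨lift (snd A A) ((snd A A)⁻¹ * fst A A), ?_, ?_⟩⟩
  · apply CartesianMonoidalCategory.hom_ext
    · rw [Category.assoc, lift_fst, lift_snd, Category.id_comp]
    · rw [Category.assoc, lift_snd, MonObj.comp_mul, GrpObj.comp_inv, lift_fst, lift_snd, Category.id_comp,
        show μ[A] = fst A A * snd A A by rw [Hom.mul_def, lift_fst_snd, Category.id_comp], inv_mul_cancel_left]
  · apply CartesianMonoidalCategory.hom_ext
    · rw [Category.assoc, lift_fst, ← Hom.mul_def, mul_inv_cancel_left, Category.id_comp]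
    · rw [Category.assoc, lift_snd, lift_fst, Category.id_comp]

variable {L' : A.left.Modules} (hLL : PicF.cl L * PicF.cl L' = 1) {G : (PicF.XT A.hom A).Modules}
  (hG : PicF.cl G = Groth.L08.Cube.pc L μ[A] * Groth.L08.Cube.pc L' (fst A A))

include hLL hG in
/-- The twisted Mumford class on points. -/
theorem bil_G {T : Over (Spec (CommRingCat.of k))} (a b : T ⟶ A) :
    bil (PicF.cl G) a b = ((Groth.Agent.KLMulN.bil L hL a b : (PicF.Cl T.left)ˣ) : PicF.Cl T.left) *
      Groth.L08.Cube.pc L b := by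
  rw [hG]
  show PicF.pullCl (lift a b).left _ = _
  rw [Groth.L08.Cube.pullCl_mul, Groth.L08.Cube.pullCl_pc, Groth.L08.Cube.pullCl_pc, ← Hom.mul_def, lift_fst]
  have h1 : Groth.L08.Cube.pc L (a * b) = ((Groth.Agent.KLMulN.bil L hL a b : (PicF.Cl T.left)ˣ) : PicF.Cl T.left) *
      (Groth.L08.Cube.pc L a * Groth.L08.Cube.pc L b) := by
    show _ = ((Groth.Agent.KLMulN.u' L hL (a * b) * (Groth.Agent.KLMulN.u' L hL a * Groth.Agent.KLMulN.u' L hL b)⁻¹ *
      (Groth.Agent.KLMulN.u' L hL a * Groth.Agent.KLMulN.u' L hL b) : (PicF.Cl T.left)ˣ) : PicF.Cl T.left)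
    rw [inv_mul_cancel_right]
    rfl
  have h2 : Groth.L08.Cube.pc L a * Groth.L08.Cube.pc L' a = 1 := by
    show PicF.pullCl _ _ * PicF.pullCl _ _ = _
    rw [← Groth.L08.Cube.pullCl_mul, hLL, Groth.L08.Cube.pullCl_one]
  rw [h1, _root_.mul_assoc, _root_.mul_right_comm (Groth.L08.Cube.pc L a), h2, _root_.one_mul]

include hLL hG in
/-- The members of the twisted family. -/
theorem cl_member {K : Type u} [Field K] (σ : Spec (CommRingCat.of K) ⟶ Spec (CommRingCat.of k))
    (u : Over.mk σ ⟶ A) : PicF.pullCl (PicF.XTmap A.hom u) (PicF.cl G) =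
      ((Groth.Agent.KLMulN.bil L hL (fst A (Over.mk σ)) (snd A (Over.mk σ) ≫ u) : (PicF.Cl (A ⊗ Over.mk σ).left)ˣ) :
        PicF.Cl (A ⊗ Over.mk σ).left) := by
  rw [bil_whiskerLeft, bil_G L hL hLL hG, ← Groth.L08.Cube.pullCl_pc L (snd A (Over.mk σ)) u]
  haveI : Subsingleton ↥(Over.mk σ).left := inferInstanceAs (Subsingleton (PrimeSpectrum K))
  rw [show Groth.L08.Cube.pc L u = 1 from
    Groth.Agent.AbDualLib.eq_oneCl_of_subsingleton (PicLoc.isInvertibleCl_pullCl _ ⟨L, rfl, hL⟩),
    Groth.L08.Cube.pullCl_one, _root_.mul_one]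

variable (hnd : Set.Finite {x : 𝟙_ (Over (Spec (CommRingCat.of k))) ⟶ A |
  Nonempty ((Scheme.Modules.pullback (𝟙 A * (toUnit A ≫ x)).left).obj L ≅ L)})

include hL hnd in
/-- The points parametrising trivial members are closed. -/
theorem isClosed_of_inv {K : Type u} [Field K] (σ : Spec (CommRingCat.of K) ⟶ Spec (CommRingCat.of k))
    (u : Over.mk σ ⟶ A)
    (h : Groth.Agent.KLMulN.bil L hL (fst A (Over.mk σ)) (snd A (Over.mk σ) ≫ u) = 1) :
    IsClosed ({u.left (⊥ : PrimeSpectrum K)} : Set A.left) := by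
  have h1 : PicF.pullCl η[A].left (PicF.cl L) = oneCl _ := Groth.Agent.KLLib.pullCl_unit_eq_one ⟨L, rfl, hL⟩
  obtain ⟨Z, i, hZ⟩ := Groth.Agent.KLLib.exists_isKL k A L hL
  haveI : IsClosedImmersion i.left := hZ.closed
  haveI : IsProper Z.hom := by rw [← Over.w i]; infer_instance
  haveI : Mono i := Over.mono_of_mono_left i
  haveI : JacobsonSpace Z.left := LocallyOfFiniteType.jacobsonSpace Z.hom
  have hfix : ∀ a : 𝟙_ (Over (Spec (CommRingCat.of k))) ⟶ Z,
      Nonempty ((Scheme.Modules.pullback (𝟙 A * (toUnit A ≫ (a ≫ i))).left).obj L ≅ L) := fun a => by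
    have hi := (Groth.Agent.KLLib.factors_iff L hL h1 hZ).1 ⟨a, rfl⟩
    refine (PicGrp.cl_eq_cl_iff _ _).1 ?_
    show PicF.pullCl (𝟙 A * (toUnit A ≫ (a ≫ i))).left (PicF.cl L) = PicF.cl L
    rw [hi.at (𝟙 A) (toUnit A), show PicF.pullCl (toUnit A ≫ a ≫ i).left (PicF.cl L) = oneCl _ from
        Groth.Agent.Pic0.pc_const L hL (a ≫ i), Groth.Agent.AbDualLib.mul_oneCl, Over.id_left, PicLoc.pullCl_id]
  haveI : Finite (𝟙_ (Over (Spec (CommRingCat.of k))) ⟶ Z) := by
    haveI := hnd.to_subtype
    exact Finite.of_injective (fun a => (⟨a ≫ i, hfix a⟩ : {x : 𝟙_ (Over (Spec (CommRingCat.of k))) ⟶ A |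
      Nonempty ((Scheme.Modules.pullback (𝟙 A * (toUnit A ≫ x)).left).obj L ≅ L)}))
      fun a b h => (cancel_mono i).1 (congrArg Subtype.val h)
  have hfin : (closedPoints Z.left).Finite := (Set.finite_range (Groth.L08.Cube.kpt (A := Z))).subset fun x hx => by
    obtain ⟨a, ha⟩ := Groth.L08.Cube.exists_kpt x (mem_closedPoints_iff.1 hx)
    exact ⟨a, ha⟩
  haveI := JacobsonSpace.discreteTopology hfin
  obtain ⟨z, hz⟩ := (Groth.Agent.KLLib.factors_iff L hL h1 hZ).2 ((Groth.Agent.MumfordQuot.inv_iff_bil L hL u).2 h)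
  rw [← hz]
  show IsClosed ({i.left (z.left (⊥ : PrimeSpectrum K))} : Set A.left)
  rw [← Set.image_singleton]
  exact i.left.isClosedMap _ (isClosed_discrete _)

include hLL hG hL in
/-- A nontrivial geometric member is acyclic. -/
theorem subsingleton_HH_member {K : Type u} [Field K] [IsAlgClosed K]
    (σ : Spec (CommRingCat.of K) ⟶ Spec (CommRingCat.of k)) (u : Over.mk σ ⟶ A)
    (hne : Groth.Agent.KLMulN.bil L hL (fst A (Over.mk σ)) (snd A (Over.mk σ) ≫ u) ≠ 1) (i : ℕ) :
    Subsingleton (Coh.HH (PicF.XT A.hom (Over.mk σ)) (PMod G u) i) := by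
  obtain ⟨P, hP, hPi⟩ := Groth.Agent.MumfordQuot.isInvertibleCl_bil L hL (fst A A) (snd A A)
  have hbil : ∀ {V : Over (Spec (CommRingCat.of k))} (a b : V ⟶ A),
      bil (PicF.cl P) a b = ((Groth.Agent.KLMulN.bil L hL a b : (PicF.Cl V.left)ˣ) : PicF.Cl V.left) := fun a b => by
    rw [hP]
    refine (Groth.Agent.MumfordQuot.pullCl_bil L hL (lift a b) (fst A A) (snd A A)).trans ?_
    rw [lift_fst, lift_snd]
  have hPu : PicF.pullCl (PicF.XTmap A.hom u) (PicF.cl P) =
      ((Groth.Agent.KLMulN.bil L hL (fst A (Over.mk σ)) (snd A (Over.mk σ) ≫ u) :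
        (PicF.Cl (A ⊗ Over.mk σ).left)ˣ) : PicF.Cl (A ⊗ Over.mk σ).left) := by
    rw [bil_whiskerLeft, hbil]
  haveI := vanish_member P rfl hPi σ u (fun a b h => by
    rw [hbil, hbil, hbil, Groth.Agent.KLMulN.bil_mul_left]
    rfl) (fun h => hne (Units.ext (hPu.symm.trans h))) i
  obtain ⟨e⟩ : Nonempty (PMod G u ≅ PMod P u) := (PicGrp.cl_eq_cl_iff _ _).1
    (((cl_member L hL hLL hG σ u).trans hPu.symm))
  exact (Groth.L17.BC.HHequiv e i).toEquiv.subsingleton

variable (g : ℕ) (hg : topologicalKrullDim ↥A.left = g)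

include hg in
/-- The members live on schemes of dimension `g`. -/
theorem subsingleton_HH_big {K : Type u} [Field K] (σ : Spec (CommRingCat.of K) ⟶ Spec (CommRingCat.of k))
    (M : (PicF.XT A.hom (Over.mk σ)).Modules) (i : ℕ) (hi : g < i) :
    Subsingleton (Coh.HH (PicF.XT A.hom (Over.mk σ)) M i) := by
  haveI : IsIntegral A.left := GeometricallyIntegral.isIntegral_of_subsingleton A.hom
  haveI := smoothOfRelativeDimension_of_dim A.hom g hg
  let X := PicF.XT A.hom (Over.mk σ)
  let f : X ⟶ Spec (CommRingCat.of K) := PicF.XTproj A.hom (Over.mk σ)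
  letI : X.Over (Spec (CommRingCat.of K)) := ⟨f⟩
  haveI := smoothOfRelativeDimension_isStableUnderBaseChange.{u} g
  haveI : SmoothOfRelativeDimension g (X ↘ Spec (CommRingCat.of K)) :=
    show SmoothOfRelativeDimension g (pullback.snd A.hom σ) from MorphismProperty.pullback_snd _ _ inferInstance
  haveI : Nonempty ↥X := (bijective_toGlobal_point (A := A) σ).1
  haveI : IsProper f := inferInstanceAs (IsProper (pullback.snd A.hom σ))
  haveI : IsLocallyNoetherian X := LocallyOfFiniteType.isLocallyNoetherian f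
  haveI : CompactSpace ↥X := QuasiCompact.compactSpace_of_compactSpace f
  haveI : AlgebraicGeometry.IsNoetherian X := {}
  exact Groth.L22.Inter.subsingleton_HH_of_dim (Groth.L22.Adjunction.topologicalKrullDim_eq_relDim K g X).le M hi

variable (hGi : PicF.IsInvertible G) [HasInjectiveResolutions (PicF.XT A.hom A).Modules]

include hLL hG hL hnd hGi in
/-- The higher direct images of the family live on closed points. -/
theorem suppClosed_G (i : ℕ) : Groth.L21.RR.SuppClosed ((Coh.Rpush (PicF.XTproj A.hom A) i).obj G) := fun y hy =>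
  subsingleton_stalk_of_member G hGi y i fun K _ _ σ u hu =>
    subsingleton_HH_member L hL hLL hG σ u (fun h => hy (hu ▸ isClosed_of_inv L hL hnd σ u h)) i

include hg hGi in
/-- The higher direct images of the family vanish above the dimension. -/
theorem subsingleton_stalk_big (i : ℕ) (hi : g < i) (y : A.left) :
    Subsingleton (((Coh.Rpush (PicF.XTproj A.hom A) i).obj G).presheaf.stalk y) :=
  subsingleton_stalk_of_member G hGi y i fun _ _ _ σ u _ => subsingleton_HH_big g hg σ (PMod G u) i hi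

include hLL hG hL hnd hGi in
/-- The cohomology of the family is the sections of its higher direct images. -/
theorem nonempty_Γ_G (i : ℕ) :
    letI : Module k (Coh.HH (PicF.XT A.hom A) G i) :=
      Module.compHom _ (Coh.toGlobal (A := k) (PicF.XTproj A.hom A ≫ A.hom))
    Nonempty (Coh.HH (PicF.XT A.hom A) G i ≃ₗ[k] ↑((moduleSpecΓFunctor (R := CommRingCat.of k)).obj
      ((Scheme.Modules.pushforward A.hom).obj ((Coh.Rpush (PicF.XTproj A.hom A) i).obj G)))) := by
  let f := PicF.XTproj A.hom A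
  letI : Module k (Coh.HH (PicF.XT A.hom A) G i) := Module.compHom _ (Coh.toGlobal (A := k) (f ≫ A.hom))
  haveI : IsLocallyNoetherian A.left := LocallyOfFiniteType.isLocallyNoetherian A.hom
  haveI : CompactSpace ↥(Spec (CommRingCat.of k)) := inferInstanceAs (CompactSpace (PrimeSpectrum k))
  haveI : CompactSpace ↥A.left := QuasiCompact.compactSpace_of_compactSpace A.hom
  haveI : AlgebraicGeometry.IsNoetherian A.left := {}
  haveI : IsProper f := inferInstanceAs (IsProper (pullback.snd A.hom A.hom))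
  haveI : Coh.IsQCoh G := Groth.L21.Extend.isQCoh_of_isInvertible hGi
  haveI := isIso_lerayEdgeOut_of_suppClosed f A.hom G (suppClosed_G L hL hLL hG hnd hGi) i
  obtain ⟨e⟩ := Groth.L17.ProperCoh.nonempty_Γ_Rpush_equiv (R := CommRingCat.of k) (f ≫ A.hom) G i
  exact ⟨e ≪≫ₗ ((moduleSpecΓFunctor (R := CommRingCat.of k)).mapIso
    (asIso (CohBC.lerayEdgeOut f A.hom i G))).toLinearEquiv⟩

include hLL hG hL hnd hGi hg in
/-- The cohomology of the family vanishes above the dimension. -/
theorem subsingleton_HH_G (i : ℕ) (hi : g < i) : Subsingleton (Coh.HH (PicF.XT A.hom A) G i) := by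
  obtain ⟨e⟩ := nonempty_Γ_G L hL hLL hG hnd hGi i
  haveI : (Scheme.Modules.pushforward A.hom).Additive := Groth.L17.PushQCoh.additive_push _
  haveI : Subsingleton ↑((moduleSpecΓFunctor (R := CommRingCat.of k)).obj
      ((Scheme.Modules.pushforward A.hom).obj ((Coh.Rpush (PicF.XTproj A.hom A) i).obj G))) :=
    Groth.Agent.Pic0.subsingleton_Γ_of_isZero ((Scheme.Modules.pushforward A.hom).map_isZero
      ((Groth.L21.Mod.isZero_iff_stalk_subsingleton _).2 (subsingleton_stalk_big g hg hGi i hi))) _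
  exact e.toEquiv.subsingleton

include hLL hG hL hnd hGi in
/-- The cohomology of the family is not zero. -/
theorem exists_nontrivial_HH_G : ∃ i, Nontrivial (Coh.HH (PicF.XT A.hom A) G i) := by
  by_contra hall
  simp only [not_exists, not_nontrivial_iff_subsingleton] at hall
  haveI : IsLocallyNoetherian A.left := LocallyOfFiniteType.isLocallyNoetherian A.hom
  haveI : CompactSpace ↥(Spec (CommRingCat.of k)) := inferInstanceAs (CompactSpace (PrimeSpectrum k))
  haveI : CompactSpace ↥A.left := QuasiCompact.compactSpace_of_compactSpace A.hom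
  haveI : AlgebraicGeometry.IsNoetherian A.left := {}
  haveI : IsProper (PicF.XTproj A.hom A) := inferInstanceAs (IsProper (pullback.snd A.hom A.hom))
  have hzero : ∀ (i : ℕ) (x : A.left),
      Subsingleton (((Coh.Rpush (PicF.XTproj A.hom A) i).obj G).presheaf.stalk x) := fun i x => by
    let M := (Coh.Rpush (PicF.XTproj A.hom A) i).obj G
    haveI := hall i
    obtain ⟨e⟩ := nonempty_Γ_G L hL hLL hG hnd hGi i
    haveI hΓ : Subsingleton Γ(M, ⊤) := e.symm.toEquiv.subsingleton
    refine subsingleton_of_forall_eq 0 fun v => ?_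
    obtain ⟨s, rfl, -⟩ := Groth.L21.RR.exists_section_germ (suppClosed_G L hL hLL hG hnd hGi i) x v
    rw [@Subsingleton.elim _ hΓ s 0, map_zero]
  obtain ⟨_, ⟨V, hV, rfl⟩, heV, -⟩ :=
    A.left.isBasis_affineOpens.exists_subset_of_mem_open (Set.mem_univ (orig A)) isOpen_univ
  haveI : IsNoetherianRing Γ(A.left, V) := IsLocallyNoetherian.component_noetherian ⟨V, hV⟩
  obtain ⟨C, top, hC, hT, hE, hK⟩ := exists_open_complex (A := A) (Q := A) G hGi hV
  have hex : ∀ i : ℤ, IsZero (C.homology i) := fun i => by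
    by_cases hi : i < 0
    · haveI := ModuleCat.subsingleton_of_isZero (hT (ModuleCat.of Γ(A.left, V) Γ(A.left, V)) i (Or.inl hi))
      exact @ModuleCat.isZero_of_subsingleton _ _ _ (@Equiv.subsingleton _ _ (unitEquiv C i).symm.toEquiv this)
    · obtain ⟨n, rfl⟩ : ∃ n : ℕ, i = n := ⟨i.toNat, (Int.toNat_of_nonneg (by omega)).symm⟩
      obtain ⟨E⟩ := hE n
      haveI : Subsingleton Γ((Coh.Rpush (PicF.XTproj A.hom A) n).obj G, V) := subsingleton_of_forall_eq 0 fun s =>
        TopCat.Presheaf.section_ext ((Groth.L21.Mod.toAbSh A.left).obj ((Coh.Rpush (PicF.XTproj A.hom A) n).obj G))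
          V s 0 fun x hx => @Subsingleton.elim _ (hzero n x) _ _
      exact @ModuleCat.isZero_of_subsingleton _ _ _ E.symm.toEquiv.subsingleton
  letI : Algebra Γ(A.left, V) k :=
    ((Scheme.stalkClosedPointTo η[A].left).hom.comp (A.left.presheaf.germ V (orig A) heV).hom).toAlgebra
  let τ : Spec (CommRingCat.of k) ⟶ Spec (CommRingCat.of k) := 𝟙 _
  let u : Over.mk τ ⟶ A := η[A]
  obtain ⟨e⟩ := hK k τ u (by
    show η[A].left = Spec.map (A.left.presheaf.germ V (orig A) heV ≫ Scheme.stalkClosedPointTo η[A].left) ≫ hV.fromSpec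
    rw [Spec.map_comp, Category.assoc,
      show Spec.map (A.left.presheaf.germ V (orig A) heV) ≫ hV.fromSpec = A.left.fromSpecStalk (orig A) from
        hV.fromSpecStalk_eq_fromSpecStalk heV]
    exact (Scheme.Spec_stalkClosedPointTo_fromSpecStalk η[A].left).symm) 0
  obtain ⟨θ⟩ : Nonempty (PMod G u ≅ Coh.structureModule (PicF.XT A.hom (Over.mk τ))) := by
    refine (PicGrp.cl_eq_cl_iff _ _).1 ?_
    refine (cl_member L hL hLL hG τ u).trans ?_
    rw [show snd A (Over.mk τ) ≫ u = 1 by rw [Hom.one_def]; exact congrArg (· ≫ η[A]) (toUnit_unique _ _),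
      Groth.Agent.MumfordQuot.bil_one_right]
    rfl
  obtain ⟨hne, hΓ⟩ := bijective_toGlobal_point (A := A) τ
  letI : Module k (Coh.HH (PicF.XT A.hom (Over.mk τ)) (Coh.structureModule _) 0) :=
    Module.compHom _ (Coh.toGlobal (A := k) (PicF.XTproj A.hom (Over.mk τ)))
  have h2 := Groth.L08.Cube.finrank_HH_zero_structure (PicF.XTproj A.hom (Over.mk τ)) hΓ
  haveI := ModuleCat.subsingleton_of_isZero (Groth.L17.BC.FlatModel.isZero_T_of_exact C
    (fun i => haveI := (hC i).2; inferInstance) hex top (fun M i hi => hT M i (Or.inr hi))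
    (ModuleCat.of Γ(A.left, V) k) ((0 : ℕ) : ℤ))
  obtain ⟨e'⟩ := Groth.L16.BaseChange.exists_addEquiv_bc k C ((0 : ℕ) : ℤ)
  haveI : Subsingleton ((bc k C).homology ((0 : ℕ) : ℤ) : Type u) := e'.toEquiv.subsingleton
  haveI : Subsingleton (Coh.HH (PicF.XT A.hom (Over.mk τ)) (Coh.structureModule _) 0) :=
    (e.trans (Groth.L17.BC.HHequiv θ 0).toEquiv).symm.subsingleton
  rw [Module.finrank_zero_of_subsingleton] at h2
  exact zero_ne_one h2

end Family

end Groth.Agent.L26.Mumford

namespace Groth.Agent.L26.Mumford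

attribute [local instance] Groth.L08.Cube.clMonoid

section Main

variable {k : Type u} [Field k] [IsAlgClosed k] {A : Over (Spec (CommRingCat.of k))} [GrpObj A] [IsProper A.hom]
  [Smooth A.hom] [GeometricallyConnected A.hom]

set_option synthInstance.maxHeartbeats 400000 in
set_option maxHeartbeats 1600000 in
/-- The index of a non-degenerate invertible module. -/
theorem exists_index {g : ℕ} (hg : topologicalKrullDim ↥A.left = g) (L : A.left.Modules) (hL : PicF.IsInvertible L)
    (hnd : Set.Finite {x : 𝟙_ (Over (Spec (CommRingCat.of k))) ⟶ A |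
      Nonempty ((Scheme.Modules.pullback (𝟙 A * (toUnit A ≫ x)).left).obj L ≅ L)}) :
    ∃ i : ℕ, i ≤ g ∧ (∀ j : ℕ, j ≠ i → Subsingleton (Coh.HH A.left L j)) ∧ Nontrivial (Coh.HH A.left L i) := by
  haveI : GeometricallyIntegral A.hom := geometricallyIntegral_av A
  haveI : IsCommMonObj A := isCommMonObj_of_isProper_of_geometricallyIntegral A
  letI : A.left.Over (Spec (CommRingCat.of k)) := ⟨A.hom⟩
  letI : (pullback (A.left ↘ Spec (CommRingCat.of k)) (A.left ↘ Spec (CommRingCat.of k))).Over
      (Spec (CommRingCat.of k)) := ⟨pullback.fst (A.left ↘ Spec (CommRingCat.of k)) (A.left ↘ Spec (CommRingCat.of k)) ≫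
        A.left ↘ Spec (CommRingCat.of k)⟩
  haveI : IsProper (A.left ↘ Spec (CommRingCat.of k)) := ‹IsProper A.hom›
  haveI : IsLocallyNoetherian A.left := LocallyOfFiniteType.isLocallyNoetherian A.hom
  haveI : CompactSpace ↥(Spec (CommRingCat.of k)) := inferInstanceAs (CompactSpace (PrimeSpectrum k))
  haveI : CompactSpace ↥A.left := QuasiCompact.compactSpace_of_compactSpace A.hom
  haveI : AlgebraicGeometry.IsNoetherian A.left := {}
  haveI : IsAffineHom (pullback.diagonal (A.left ↘ Spec (CommRingCat.of k))) := inferInstance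
  obtain ⟨L', hL', ⟨e⟩⟩ := Groth.L08.Cube.exists_inverse hL
  have hLL : PicF.cl L * PicF.cl L' = 1 := Groth.Agent.AbDualLib.cl_congr e
  haveI : IsIso (sigmaL (A := A)).left := inferInstanceAs (IsIso ((Over.forget _).map sigmaL))
  let B : (pullback A.hom A.hom).Modules := CohB1.tensorMod ((Scheme.Modules.pullback (pullback.fst A.hom A.hom)).obj L)
    ((Scheme.Modules.pullback (pullback.snd A.hom A.hom)).obj L')
  have hB : PicF.IsInvertible B :=
    Groth.L18.GenLoc.isInvertible_tensor (PicLoc.isInvertible_pullback _ hL) (PicLoc.isInvertible_pullback _ hL')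
  let G : (PicF.XT A.hom A).Modules := (Scheme.Modules.pullback (sigmaL (A := A)).left).obj B
  have hGi : PicF.IsInvertible G := PicLoc.isInvertible_pullback _ hB
  haveI := Groth.L17.PushQCoh.hasInjectiveResolutions (PicF.XT A.hom A)
  have hG : PicF.cl G = Groth.L08.Cube.pc L μ[A] * Groth.L08.Cube.pc L' (fst A A) := by
    show PicF.pullCl (sigmaL (A := A)).left (PicF.pullCl (fst A A).left (PicF.cl L) *
      PicF.pullCl (snd A A).left (PicF.cl L')) = _
    rw [Groth.L08.Cube.pullCl_mul, ← PicLoc.pullCl_comp, ← PicLoc.pullCl_comp, ← Over.comp_left, ← Over.comp_left,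
      lift_fst, lift_snd]
  haveI : IsProper (pullback.fst A.hom A.hom ≫ A.hom) := inferInstance
  haveI : Flat (pullback.fst A.hom A.hom ≫ A.hom) := inferInstance
  have hK : ∀ n, Nonempty ((Π p : Fin (n + 1), Coh.HH A.left L (p : ℕ) ⊗[k] Coh.HH A.left L' (n - (p : ℕ))) ≃
      Coh.HH (PicF.XT A.hom A) G n) := fun n => by
    obtain ⟨e1⟩ := Groth.Agent.S7635.result k A.left A.left L (Groth.L21.Extend.isQCoh_of_isInvertible hL) L'
      (Groth.L21.Extend.isQCoh_of_isInvertible hL') n
    obtain ⟨e2⟩ := nonempty_HH_pullback_iso (sigmaL (A := A)).left (pullback.fst A.hom A.hom ≫ A.hom)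
      (pullback.fst A.hom A.hom ≫ A.hom) (Over.w (sigmaL (A := A))) hB n
    exact ⟨e1.toEquiv.trans e2.symm.toEquiv⟩
  -- products vanish above the dimension
  let a : ℕ → ℕ := fun p => Module.finrank k (Coh.HH A.left L p)
  let b : ℕ → ℕ := fun p => Module.finrank k (Coh.HH A.left L' p)
  haveI := fun p => Groth.L16.ProperFinite.finite_HH k (Groth.L18.Ample.isCoh_of_isInvertible hL) p
  haveI := fun p => Groth.L16.ProperFinite.finite_HH k (Groth.L18.Ample.isCoh_of_isInvertible hL') p
  have hab : ∀ p q, g < p + q → a p * b q = 0 := fun p q hpq => by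
    obtain ⟨e1⟩ := hK (p + q)
    haveI := subsingleton_HH_G L hL hLL hG hnd g hg hGi (p + q) hpq
    haveI := e1.subsingleton
    have h : Module.finrank k (Π x : Fin (p + q + 1), Coh.HH A.left L (x : ℕ) ⊗[k] Coh.HH A.left L' (p + q - (x : ℕ))) = 0 :=
      Module.finrank_zero_of_subsingleton
    rw [Module.finrank_pi_fintype, Finset.sum_eq_zero_iff] at h
    have h1 := h ⟨p, by omega⟩ (Finset.mem_univ _)
    rw [Module.finrank_tensorProduct, Nat.add_sub_cancel_left] at h1
    exact h1
  have hdual : ∀ p, p ≤ g → a p = b (g - p) := fun p hp => finrank_HH_inverse hg hL e p hp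
  have hbig : ∀ p, g < p → Subsingleton (Coh.HH A.left L p) := fun p hp =>
    Groth.L22.Inter.subsingleton_HH_of_dim hg.le L hp
  have hne : ∃ i, Nontrivial (Coh.HH A.left L i) := by
    by_contra hall
    simp only [not_exists, not_nontrivial_iff_subsingleton] at hall
    obtain ⟨n, hn⟩ := exists_nontrivial_HH_G L hL hLL hG hnd hGi
    obtain ⟨e1⟩ := hK n
    haveI : ∀ p : Fin (n + 1), Subsingleton (Coh.HH A.left L (p : ℕ) ⊗[k] Coh.HH A.left L' (n - (p : ℕ))) :=
      fun p => by
        haveI := hall (p : ℕ)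
        infer_instance
    exact not_subsingleton_iff_nontrivial.2 hn e1.symm.subsingleton
  obtain ⟨i, hi⟩ := hne
  have hig : i ≤ g := by
    by_contra h
    exact not_subsingleton_iff_nontrivial.2 hi (hbig i (not_le.1 h))
  have hpos : ∀ j, Nontrivial (Coh.HH A.left L j) → a j ≠ 0 := fun j hj =>
    (Module.finrank_pos (R := k)).ne'
  refine ⟨i, hig, fun j hj => ?_, hi⟩
  by_contra hj'
  rw [not_subsingleton_iff_nontrivial] at hj'
  have hjg : j ≤ g := by
    by_contra h
    exact not_subsingleton_iff_nontrivial.2 hj' (hbig j (not_le.1 h))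
  rcases Nat.lt_or_gt_of_ne hj with h | h
  · rcases mul_eq_zero.1 (hab i (g - j) (by omega)) with h0 | h0
    · exact hpos i hi h0
    · exact hpos j hj' ((hdual j hjg).trans h0)
  · rcases mul_eq_zero.1 (hab j (g - i) (by omega)) with h0 | h0
    · exact hpos j hj' h0
    · exact hpos i hi ((hdual i hig).trans h0)

end Main

end Groth.Agent.L26.Mumford
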