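import Groth.Agent.L26.Mumford.Fst
import Groth.Agent.L26.Pic0.EulerHomog
import Groth.Agent.L10.FMBC.Mumford
import Groth.Agent.L17.ProjFormula
import Groth.Agent.L26.FMInv.DualDim
import Groth.Agent.L08.Albanese.ChowImage
import Groth.Agent.S7635

/-!
`χ(L) ^ 2 = deg φ_L`, from the cohomology of the Poincaré module on the total space.
-/

set_option autoImplicit false
set_option linter.style.haveILetI false
set_option linter.unusedSectionVars false
set_option maxSynthPendingDepth 3
set_option backward.isDefEq.respectTransparency false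
set_option backward.isDefEq.respectTransparency.types false

universe u

open CategoryTheory CategoryTheory.Limits MonoidalCategory CartesianMonoidalCategory MonObj GrpObj AlgebraicGeometry
open Groth.Agent.AbDualLib (oneCl)

noncomputable section

namespace Groth.Agent.L26.Mumford

/-- A Cauchy product. -/
theorem sum_antidiag_of_vanish (a b : ℕ → ℤ) (K : ℕ) (ha : ∀ p, K ≤ p → a p = 0) (hb : ∀ q, K ≤ q → b q = 0) :
    ∑ n ∈ Finset.range (2 * K), ∑ x ∈ Finset.antidiagonal n, a x.1 * b x.2 =
      (∑ p ∈ Finset.range K, a p) * ∑ q ∈ Finset.range K, b q := by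
  rw [Finset.sum_mul_sum, ← Finset.sum_product',
    ← Finset.sum_fiberwise_of_maps_to (g := fun x : ℕ × ℕ => x.1 + x.2) (t := Finset.range (2 * K))
      (fun x hx => by simp only [Finset.mem_product, Finset.mem_range] at hx; exact Finset.mem_range.2 (by omega))]
  refine Finset.sum_congr rfl fun n _ => (Finset.sum_subset (fun x hx => ?_) fun x hx hnot => ?_).symm
  · simp only [Finset.mem_filter] at hx
    exact Finset.mem_antidiagonal.2 hx.2
  · simp only [Finset.mem_filter, Finset.mem_product, Finset.mem_range, not_and] at hnot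
    have hn := Finset.mem_antidiagonal.1 hx
    by_cases h1 : K ≤ x.1
    · rw [ha _ h1, zero_mul]
    · by_cases h2 : K ≤ x.2
      · rw [hb _ h2, mul_zero]
      · exact absurd hn (hnot ⟨by omega, by omega⟩)

variable {k : Type u} [Field k]

set_option synthInstance.maxHeartbeats 400000 in
set_option maxHeartbeats 1600000 in
/-- Euler characteristics multiply on products. -/
theorem euler_boxtimes {A B : Over (Spec (CommRingCat.of k))} [IsProper A.hom] [IsProper B.hom]
    {F : A.left.Modules} (hF : Coh.IsCoh F) {G : B.left.Modules} (hG : Coh.IsCoh G) :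
    @Curv2.euler k _ (A ⊗ B).left ⟨(A ⊗ B).hom⟩ (CohB1.tensorMod ((Scheme.Modules.pullback (fst A B).left).obj F)
        ((Scheme.Modules.pullback (snd A B).left).obj G)) =
      @Curv2.euler k _ A.left ⟨A.hom⟩ F * @Curv2.euler k _ B.left ⟨B.hom⟩ G := by
  letI : A.left.Over (Spec (CommRingCat.of k)) := ⟨A.hom⟩
  letI : B.left.Over (Spec (CommRingCat.of k)) := ⟨B.hom⟩
  letI : (pullback A.hom B.hom).Over (Spec (CommRingCat.of k)) := ⟨pullback.fst A.hom B.hom ≫ A.hom⟩
  letI : (pullback (A.left ↘ Spec (CommRingCat.of k)) (B.left ↘ Spec (CommRingCat.of k))).Over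
      (Spec (CommRingCat.of k)) := ⟨pullback.fst (A.left ↘ Spec (CommRingCat.of k)) (B.left ↘ Spec (CommRingCat.of k)) ≫
        A.left ↘ Spec (CommRingCat.of k)⟩
  haveI : IsProper (A.left ↘ Spec (CommRingCat.of k)) := ‹IsProper A.hom›
  haveI : IsProper (B.left ↘ Spec (CommRingCat.of k)) := ‹IsProper B.hom›
  haveI : IsProper (pullback A.hom B.hom ↘ Spec (CommRingCat.of k)) :=
    inferInstanceAs (IsProper (pullback.fst A.hom B.hom ≫ A.hom))
  haveI : CompactSpace ↥A.left := QuasiCompact.compactSpace_of_compactSpace A.hom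
  haveI : CompactSpace ↥B.left := QuasiCompact.compactSpace_of_compactSpace B.hom
  haveI : IsAffineHom (pullback.diagonal (A.left ↘ Spec (CommRingCat.of k))) := inferInstance
  haveI : IsAffineHom (pullback.diagonal (B.left ↘ Spec (CommRingCat.of k))) := inferInstance
  let M : (pullback A.hom B.hom).Modules := CohB1.tensorMod ((Scheme.Modules.pullback (pullback.fst A.hom B.hom)).obj F)
    ((Scheme.Modules.pullback (pullback.snd A.hom B.hom)).obj G)
  obtain ⟨N₁, hN₁⟩ := Groth.L03.Euler.exists_bound (k := k) (X := A.left)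
  obtain ⟨N₂, hN₂⟩ := Groth.L03.Euler.exists_bound (k := k) (X := B.left)
  let K := max N₁ N₂
  let a : ℕ → ℤ := fun p => (-1 : ℤ) ^ p * (Module.finrank k (Coh.HH A.left F p) : ℤ)
  let b : ℕ → ℤ := fun p => (-1 : ℤ) ^ p * (Module.finrank k (Coh.HH B.left G p) : ℤ)
  have hA : ∀ p, K ≤ p → Subsingleton (Coh.HH A.left F p) := fun p hp => hN₁ F hF.1 p (le_of_max_le_left hp)
  have hB : ∀ p, K ≤ p → Subsingleton (Coh.HH B.left G p) := fun p hp => hN₂ G hG.1 p (le_of_max_le_right hp)
  have hn : ∀ n, (-1 : ℤ) ^ n * (Module.finrank k (Coh.HH (pullback A.hom B.hom) M n) : ℤ) =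
      ∑ x ∈ Finset.antidiagonal n, a x.1 * b x.2 := by
    intro n
    obtain ⟨e⟩ := Groth.Agent.S7635.result k A.left B.left F hF.1 G hG.1 n
    haveI := fun p => Groth.L16.ProperFinite.finite_HH k hF p
    haveI := fun p => Groth.L16.ProperFinite.finite_HH k hG p
    refine (congrArg (fun m : ℕ => (-1 : ℤ) ^ n * (m : ℤ)) e.finrank_eq.symm).trans ?_
    rw [Module.finrank_pi_fintype, Nat.cast_sum, Finset.mul_sum, Finset.Nat.sum_antidiagonal_eq_sum_range_succ_mk,
      Finset.sum_range]
    refine Finset.sum_congr rfl fun p _ => ?_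
    rw [Module.finrank_tensorProduct, Nat.cast_mul]
    simp only [a, b]
    rw [_root_.mul_mul_mul_comm, ← pow_add, Nat.add_sub_cancel' (Nat.le_of_lt_succ p.isLt)]
  have hvan : ∀ n, 2 * K ≤ n → ∑ x ∈ Finset.antidiagonal n, a x.1 * b x.2 = 0 := fun n hn' =>
    Finset.sum_eq_zero fun x hx => by
      have h := Finset.mem_antidiagonal.1 hx
      rcases le_or_gt K x.1 with h1 | h1
      · haveI := hA _ h1
        simp [a, Module.finrank_zero_of_subsingleton]
      · haveI := hB x.2 (by omega)
        simp [b, Module.finrank_zero_of_subsingleton]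
  show Curv2.euler k (pullback A.hom B.hom) M = _
  rw [Groth.L03.Euler.euler_eq_sum (k := k) hA, Groth.L03.Euler.euler_eq_sum (k := k) hB,
    show Curv2.euler k (pullback A.hom B.hom) M = ∑ n ∈ Finset.range (2 * K),
        (-1 : ℤ) ^ n * (Module.finrank k (Coh.HH (pullback A.hom B.hom) M n) : ℤ) by
      unfold Curv2.euler
      refine finsum_eq_sum_of_support_subset _ fun n hn0 => ?_
      simp only [Finset.coe_range, Set.mem_Iio]
      by_contra hle
      exact hn0 ((hn n).trans (hvan n (by omega)))]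
  rw [Finset.sum_congr rfl fun n _ => hn n]
  exact sum_antidiag_of_vanish a b K
    (fun p hp => by haveI := hA p hp; simp [a, Module.finrank_zero_of_subsingleton])
    (fun p hp => by haveI := hB p hp; simp [b, Module.finrank_zero_of_subsingleton])

section Homogeneous

variable {X : Over (Spec (CommRingCat.of k))} [GrpObj X] [IsProper X.hom] [GeometricallyIntegral X.hom]

attribute [local instance] Groth.L08.Cube.clMonoid

/-- `χ(L⁻¹) = (-1) ^ g χ(L)`. -/
theorem euler_inverse {g : ℕ} (hg : topologicalKrullDim X.left = g) (L L' : X.left.Modules)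
    (hL : PicF.IsInvertible L) (hL'i : PicF.IsInvertible L')
    (hLL : Nonempty (CohB1.tensorMod L L' ≅ Coh.structureModule X.left)) :
    @Curv2.euler k _ X.left ⟨X.hom⟩ L' = (-1 : ℤ) ^ g * @Curv2.euler k _ X.left ⟨X.hom⟩ L := by
  letI : X.left.Over (Spec (CommRingCat.of k)) := ⟨X.hom⟩
  haveI : IsProper (X.left ↘ Spec (CommRingCat.of k)) := ‹IsProper X.hom›
  haveI := Groth.L21.RR.isNoetherian_of_proper (X := X.left) k
  let Ls : Fin 2 → X.left.Modules := ![L, L']
  obtain ⟨P, -, hP⟩ := Groth.L03.Euler.exists_polynomial_tensorPows k (L := Ls)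
    (fun i => by fin_cases i <;> simp [Ls, hL, hL'i])
    (F := Coh.structureModule X.left) Groth.L16.CohClosedPush.isCoh_structure (d := g)
    (((Topology.IsInducing.subtypeVal
      (t := CohB1.support (Coh.structureModule X.left))).topologicalKrullDim_le).trans hg.le)
  have hcl : PicF.cl L * PicF.cl L' = 1 := Groth.Agent.AbDualLib.cl_congr hLL.some
  have hcl' : ∀ n : Fin 2 → ℕ, PicF.cl (Curv2.tensorPows (Coh.structureModule X.left) 2 Ls n) =
      PicF.cl L ^ n 0 * PicF.cl L' ^ n 1 := fun n => by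
    show 1 * PicF.cl (CohB1.tensorPow L (n 0)) * PicF.cl (CohB1.tensorPow L' (n 1)) = _
    rw [_root_.one_mul, Groth.L08.Cube.cl_tensorPow, Groth.L08.Cube.cl_tensorPow]
  let p : Polynomial ℚ := MvPolynomial.aeval ![Polynomial.X, 1] P
  have hev : ∀ a : ℕ, p.eval (a : ℚ) = (Curv2.euler k X.left (Curv2.tensorPows (Coh.structureModule X.left) 2 Ls ![a, 1]) : ℚ) := by
    intro a
    rw [hP ![a, 1]]
    show Polynomial.evalRingHom (a : ℚ) (MvPolynomial.aeval ![Polynomial.X, 1] P) = _
    rw [MvPolynomial.map_aeval, MvPolynomial.eval₂Hom_congr (Subsingleton.elim _ (RingHom.id ℚ))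
      (g₂ := fun i => ((![a, 1] i : ℕ) : ℚ)) (funext fun i => by fin_cases i <;> simp) rfl]
    rfl
  have key : p = (Polynomial.X - Polynomial.C 1) ^ g * Polynomial.C ((Curv2.euler k X.left L : ℤ) : ℚ) := by
    refine Groth.L03.Euler.eq_of_eventually_eval_eq 1 fun m hm => ?_
    obtain ⟨t, rfl⟩ : ∃ t, m = t + 1 := ⟨m - 1, by omega⟩
    rw [hev, Groth.Agent.Pic0.EulerHomog.euler_pow hg L _ hL t (by
      rw [hcl']
      show PicF.cl L ^ (t + 1) * PicF.cl L' ^ 1 = _
      rw [pow_one, pow_succ, _root_.mul_assoc, hcl, _root_.mul_one])]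
    simp
  have h0 := hev 0
  rw [key] at h0
  have h1 : Curv2.euler k X.left (Curv2.tensorPows (Coh.structureModule X.left) 2 Ls ![0, 1]) =
      Curv2.euler k X.left L' := by
    obtain ⟨e⟩ := (PicGrp.cl_eq_cl_iff (Curv2.tensorPows (Coh.structureModule X.left) 2 Ls ![0, 1]) L').1 (by
      rw [hcl']
      show PicF.cl L ^ 0 * PicF.cl L' ^ 1 = _
      rw [pow_zero, pow_one, _root_.one_mul])
    exact Groth.L03.Euler.euler_iso e
  rw [h1] at h0
  simp at h0
  exact_mod_cast h0.symm

end Homogeneous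

section Total

variable {A At : Over (Spec (CommRingCat.of k))} [GrpObj A] [GrpObj At]
  [IsProper A.hom] [Smooth A.hom] [GeometricallyConnected A.hom]
  [IsProper At.hom] [Smooth At.hom] [GeometricallyConnected At.hom]
  {φ : ∀ T : Over (Spec (CommRingCat.of k)), PicF.Cl (PicF.XT A.hom T) → (T ⟶ At)}
  (hφ : AbDual.IsDualAV Scheme.fppfPrecoverage A At φ) (P : (pullback A.hom At.hom).Modules)
  (hP : PicF.IsInvertible P) (hPξ : AbDual.IsPoincareCl A At φ (PicF.cl P))
  (g : ℕ) (hgA : topologicalKrullDim ↥A.left = g) (hgAt : topologicalKrullDim ↥At.left = g)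

/-- Invertible modules on the spectrum of a field are trivial. -/
theorem nonempty_trivial_point {M : (Spec (CommRingCat.of k)).Modules} (hM : PicF.IsInvertible M) :
    Nonempty (M ≅ Coh.structureModule (Spec (CommRingCat.of k))) := by
  haveI : Subsingleton ↥(Spec (CommRingCat.of k)) := inferInstanceAs (Subsingleton (PrimeSpectrum k))
  exact (PicGrp.cl_eq_cl_iff _ _).1 (Groth.Agent.AbDualLib.eq_oneCl_of_subsingleton ⟨M, rfl, hM⟩)

include hφ hP hPξ hgA hgAt in
set_option maxHeartbeats 1600000 in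
/-- `χ(p₁^* L ⊗ P) = (-1) ^ g`. -/
theorem euler_total (L : A.left.Modules) (hL : PicF.IsInvertible L) :
    @Curv2.euler k _ (A ⊗ At).left ⟨(A ⊗ At).hom⟩
      (CohB1.tensorMod ((Scheme.Modules.pullback (fst A At).left).obj L) P) = (-1 : ℤ) ^ g := by
  haveI : IsLocallyNoetherian A.left := LocallyOfFiniteType.isLocallyNoetherian A.hom
  haveI : CompactSpace ↥(Spec (CommRingCat.of k)) := inferInstanceAs (CompactSpace (PrimeSpectrum k))
  haveI : CompactSpace ↥A.left := QuasiCompact.compactSpace_of_compactSpace A.hom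
  haveI : AlgebraicGeometry.IsNoetherian A.left := {}
  let f := PicF.XTproj At.hom A
  haveI : IsProper f := inferInstanceAs (IsProper (pullback.snd At.hom A.hom))
  let q : pullback A.hom At.hom ⟶ Spec (CommRingCat.of k) := pullback.fst A.hom At.hom ≫ A.hom
  let G : (pullback A.hom At.hom).Modules :=
    CohB1.tensorMod ((Scheme.Modules.pullback (pullback.fst A.hom At.hom)).obj L) P
  have hG : PicF.IsInvertible G := Groth.L18.GenLoc.isInvertible_tensor (PicLoc.isInvertible_pullback _ hL) hP
  let σ := (pullbackSymmetry At.hom A.hom).hom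
  let G' : (PicF.XT At.hom A).Modules := CohB1.tensorMod ((Scheme.Modules.pullback f).obj L) (flipP P)
  have hfl : PicF.IsInvertible (flipP P) := PicLoc.isInvertible_pullback _ hP
  have hG' : PicF.IsInvertible G' := Groth.L18.GenLoc.isInvertible_tensor (PicLoc.isInvertible_pullback _ hL) hfl
  haveI : Coh.IsQCoh G' := Groth.L21.Extend.isQCoh_of_isInvertible hG'
  obtain ⟨eG⟩ : Nonempty ((Scheme.Modules.pullback σ).obj G ≅ G') := by
    refine (PicGrp.cl_eq_cl_iff _ _).1 ?_
    show PicF.pullCl σ (PicGrp.mulCl (PicF.pullCl (pullback.fst A.hom At.hom) (PicF.cl L)) (PicF.cl P)) =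
      PicGrp.mulCl (PicF.pullCl f (PicF.cl L)) (PicF.pullCl σ (PicF.cl P))
    rw [Groth.Agent.AbDualLib.pullCl_mulCl, ← PicLoc.pullCl_comp]
    exact congrArg (fun z => PicGrp.mulCl (PicF.pullCl z (PicF.cl L)) _) (pullbackSymmetry_hom_comp_fst _ _)
  haveI := Groth.L17.PushQCoh.hasInjectiveResolutions (PicF.XT At.hom A)
  haveI : IsProper q := inferInstanceAs (IsProper (pullback.fst A.hom At.hom ≫ A.hom))
  haveI : Flat q := inferInstanceAs (Flat (pullback.fst A.hom At.hom ≫ A.hom))
  have hσ : σ ≫ q = f ≫ A.hom := by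
    show σ ≫ pullback.fst A.hom At.hom ≫ A.hom = _
    rw [pullbackSymmetry_hom_comp_fst_assoc]
  -- the higher direct images
  have hLf : FlatMod.IsFinLocFree L := Groth.L20.ResDescent.isFinLocFree_of_isInvertible hL
  let R := fun i => (Coh.Rpush f i).obj (flipP P)
  let e₁ := fun i => (Groth.L17.ProjFormula.nonempty_Rpush_iso f L (flipP P) hLf i).some
  have hzero : ∀ i, i ≠ g → IsZero ((Coh.Rpush f i).obj G') := fun i hi =>
    (Groth.Agent.Pic0.isZero_tensorMod_right hLf (isZero_Rpush_flip hφ P hP hPξ g hgA hgAt i hi)).of_iso (e₁ i).symm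
  have hsupp : ∀ i, Groth.L21.RR.SuppClosed ((Coh.Rpush f i).obj G') := fun i y hy => by
    obtain ⟨e, he⟩ := Groth.L21.RR.exists_frame_stalk hL y
    haveI := suppClosed_flip hφ P hP hPξ i y hy
    haveI : Subsingleton ((CohB1.tensorMod L (R i)).presheaf.stalk y) :=
      (Groth.L21.RR.tensorStalkEquiv (R i) he).toEquiv.subsingleton
    exact @Equiv.subsingleton _ _ ((Groth.L00.Stk.F A.left y).mapIso (e₁ i)).symm.toLinearEquiv.toEquiv
      (show Subsingleton ((CohB1.tensorMod L (R i)).presheaf.stalk y) from inferInstance)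
  obtain ⟨eη⟩ := nonempty_Rpush_flip hφ P hP hPξ g hgA hgAt
  have hηL : PicF.IsInvertible ((Scheme.Modules.pullback η[A].left).obj L) := PicLoc.isInvertible_pullback _ hL
  let O := Coh.structureModule (Spec (CommRingCat.of k))
  let t : (Coh.Rpush f g).obj G' ≅ (Coh.push η[A].left).obj O :=
    (e₁ g).symm ≪≫ Groth.L00.Tensor.tensorIso (Iso.refl L) eη ≪≫
      (Groth.L17.ProjFormula.projIso η[A].left L hLf).app O ≪≫
      (Coh.push η[A].left).mapIso (Groth.L00.Tensor.tensorUnitRight _ ≪≫ (nonempty_trivial_point hηL).some)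
  obtain ⟨e0⟩ := nonempty_push_section (S := Spec (CommRingCat.of k)) η[A].left A.hom (Over.w η[A])
  letI : (PicF.XT At.hom A).Over (Spec (CommRingCat.of k)) := ⟨f ≫ A.hom⟩
  letI : (pullback A.hom At.hom).Over (Spec (CommRingCat.of k)) := ⟨q⟩
  have hdim : ∀ i, Module.finrank k (Coh.HH (PicF.XT At.hom A) G' i) = if i = g then 1 else 0 := fun i => by
    haveI := isIso_lerayEdgeOut_of_suppClosed f A.hom G' hsupp i
    obtain ⟨e⟩ := Groth.L17.ProperCoh.nonempty_Γ_Rpush_equiv (R := CommRingCat.of k) (f ≫ A.hom) G' i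
    let E := e ≪≫ₗ ((moduleSpecΓFunctor (R := CommRingCat.of k)).mapIso
      (asIso (CohBC.lerayEdgeOut f A.hom i G'))).toLinearEquiv
    split_ifs with hi
    · subst hi
      let j : (Scheme.Modules.pushforward A.hom).obj ((Coh.Rpush f i).obj G') ≅ O :=
        (Scheme.Modules.pushforward A.hom).mapIso t ≪≫ e0
      refine (E ≪≫ₗ ((moduleSpecΓFunctor (R := CommRingCat.of k)).mapIso j).toLinearEquiv).finrank_eq.trans ?_
      let u : k ≃ₗ[k] ↑((moduleSpecΓFunctor (R := CommRingCat.of k)).obj O) :=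
        { (Scheme.ΓSpecIso (CommRingCat.of k)).symm.commRingCatIsoToRingEquiv.toAddEquiv with
          map_smul' := fun a x => map_mul (Scheme.ΓSpecIso (CommRingCat.of k)).inv.hom a x }
      exact u.finrank_eq.symm.trans (Module.finrank_self k)
    · haveI : (Scheme.Modules.pushforward A.hom).Additive := Groth.L17.PushQCoh.additive_push _
      haveI : Subsingleton ↑((moduleSpecΓFunctor (R := CommRingCat.of k)).obj
          ((Scheme.Modules.pushforward A.hom).obj ((Coh.Rpush f i).obj G'))) :=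
        Groth.Agent.Pic0.subsingleton_Γ_of_isZero ((Scheme.Modules.pushforward A.hom).map_isZero (hzero i hi)) _
      haveI : Subsingleton (Coh.HH (PicF.XT At.hom A) G' i) := E.toEquiv.subsingleton
      exact Module.finrank_zero_of_subsingleton
  show Curv2.euler k (pullback A.hom At.hom) G = _
  have hflip : ∀ i, Module.finrank k (Coh.HH (pullback A.hom At.hom) G i) =
      Module.finrank k (Coh.HH (PicF.XT At.hom A) G' i) := fun i => by
    obtain ⟨e⟩ := nonempty_HH_pullback_iso σ q (f ≫ A.hom) hσ hG i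
    exact e.finrank_eq.symm.trans (Groth.L03.Euler.finrank_HH_of_iso eG i)
  unfold Curv2.euler
  rw [finsum_eq_single _ g fun i hi => by rw [hflip, hdim, if_neg hi, Nat.cast_zero, mul_zero], hflip, hdim,
    if_pos rfl, Nat.cast_one, _root_.mul_one]

include hφ hP hPξ hgA hgAt in
set_option maxHeartbeats 1600000 in
/-- `χ(L) ^ 2 = deg φ_L`. -/
theorem euler_sq (L L' : A.left.Modules) (hL : PicF.IsInvertible L)
    (hL' : Nonempty (CohB1.tensorMod L L' ≅ Coh.structureModule A.left))
    (Λ : (A ⊗ A).left.Modules)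
    (hΛ : Nonempty (Λ ≅ CohB1.tensorMod (CohB1.tensorMod ((Scheme.Modules.pullback μ[A].left).obj L)
      ((Scheme.Modules.pullback (fst A A).left).obj L')) ((Scheme.Modules.pullback (snd A A).left).obj L')))
    (hΛ0 : AbDual.IsPicZeroCl A.hom A (PicF.cl Λ))
    [IsFinite (φ A (PicF.cl Λ)).left] [Flat (φ A (PicF.cl Λ)).left]
    (d : ℕ) (hd : ∀ y : ↥At.left, Scheme.Hom.finrank (φ A (PicF.cl Λ)).left y = d) :
    @Curv2.euler k _ A.left ⟨A.hom⟩ L ^ 2 = (d : ℤ) := by
  have hL'inv : PicF.IsInvertible L' := by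
    obtain ⟨D', hD', ⟨i⟩⟩ := Groth.L08.Cube.exists_inverse hL
    refine Groth.L18.Ample.isInvertible_of_iso ?_ hD'
    exact (Groth.L00.Tensor.tensorUnitLeft D').symm ≪≫ Groth.L00.Tensor.tensorIso hL'.some.symm (Iso.refl D') ≪≫
      Groth.L00.Tensor.tensorIso (Groth.L00.Tensor.tensorComm L L') (Iso.refl D') ≪≫
      Groth.L00.Tensor.tensorAssoc L' L D' ≪≫ Groth.L00.Tensor.tensorIso (Iso.refl L') i ≪≫
      Groth.L00.Tensor.tensorUnitRight L'
  haveI : GeometricallyIntegral A.hom := geometricallyIntegral_av A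
  haveI : GeometricallyIntegral At.hom := geometricallyIntegral_av At
  obtain ⟨hpAA, hgAA⟩ := Groth.L08.Albanese.geometricallyIntegral_tensor A A
  obtain ⟨hpAB, -⟩ := Groth.L08.Albanese.geometricallyIntegral_tensor A At
  let lam := φ A (PicF.cl Λ)
  let f : A ⊗ A ⟶ A ⊗ At := A ◁ lam
  have hc : IsPullback f.left (snd A A).left (snd A At).left lam.left := by
    refine IsPullback.of_right (h₁₂ := (fst A At).left) (v₁₃ := A.hom) (h₂₂ := At.hom) ?_
      (congrArg CommaMorphism.left (whiskerLeft_snd A lam)) (IsPullback.of_hasPullback A.hom At.hom)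
    rw [show f.left ≫ (fst A At).left = (fst A A).left from congrArg CommaMorphism.left (whiskerLeft_fst A lam),
      Over.w lam]
    exact IsPullback.of_hasPullback A.hom A.hom
  haveI : IsFinite f.left := MorphismProperty.of_isPullback (P := @IsFinite) hc.flip ‹_›
  haveI : Flat f.left := MorphismProperty.of_isPullback (P := @Flat) hc.flip ‹_›
  have hdf : ∀ y, f.left.finrank y = d := fun y =>
    (Scheme.Hom.finrank_of_isPullback _ _ _ _ hc.flip y).trans (hd _)
  let G : (A ⊗ At).left.Modules := CohB1.tensorMod ((Scheme.Modules.pullback (fst A At).left).obj L) P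
  have hG : Coh.IsCoh G := by
    haveI : IsLocallyNoetherian (A ⊗ At).left := LocallyOfFiniteType.isLocallyNoetherian (A ⊗ At).hom
    exact Groth.L18.Ample.isCoh_of_isInvertible
      (Groth.L18.GenLoc.isInvertible_tensor (PicLoc.isInvertible_pullback _ hL) hP)
  let σ := lift μ[A] (snd A A)
  haveI : IsIso σ := by
    refine ⟨⟨lift (fst A A * (snd A A)⁻¹) (snd A A), ?_, ?_⟩⟩
    · apply CartesianMonoidalCategory.hom_ext
      · rw [Category.assoc, lift_fst, MonObj.comp_mul, GrpObj.comp_inv, lift_fst, lift_snd, Category.id_comp,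
          show μ[A] = fst A A * snd A A by rw [Hom.mul_def, lift_fst_snd, Category.id_comp], mul_inv_cancel_right]
      · rw [Category.assoc, lift_snd, lift_snd, Category.id_comp]
    · apply CartesianMonoidalCategory.hom_ext
      · rw [Category.assoc, lift_fst, ← Hom.mul_def, inv_mul_cancel_right, Category.id_comp]
      · rw [Category.assoc, lift_snd, lift_snd, Category.id_comp]
  haveI : IsIso σ.left := inferInstanceAs (IsIso ((Over.forget _).map σ))
  let B : (A ⊗ A).left.Modules := CohB1.tensorMod ((Scheme.Modules.pullback (fst A A).left).obj L)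
    ((Scheme.Modules.pullback (snd A A).left).obj L')
  have hB : PicF.IsInvertible B :=
    Groth.L18.GenLoc.isInvertible_tensor (PicLoc.isInvertible_pullback _ hL) (PicLoc.isInvertible_pullback _ hL'inv)
  obtain ⟨eM⟩ := Groth.L10.FMBC.nonempty_mumford hφ P hPξ hL'inv hL' hΛ hΛ0
  obtain ⟨ea⟩ := Groth.L10.FMBC.nonempty_mumford_absorb hL' hΛ
  obtain ⟨eF⟩ : Nonempty ((Scheme.Modules.pullback f.left).obj G ≅ (Scheme.Modules.pullback σ.left).obj B) := by
    refine (PicGrp.cl_eq_cl_iff _ _).1 ?_
    show PicF.pullCl f.left (PicGrp.mulCl (PicF.pullCl (fst A At).left (PicF.cl L)) (PicF.cl P)) =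
      PicF.pullCl σ.left (PicGrp.mulCl (PicF.pullCl (fst A A).left (PicF.cl L)) (PicF.pullCl (snd A A).left (PicF.cl L')))
    rw [Groth.Agent.AbDualLib.pullCl_mulCl, Groth.Agent.AbDualLib.pullCl_mulCl, ← PicLoc.pullCl_comp,
      ← PicLoc.pullCl_comp, ← PicLoc.pullCl_comp, ← Over.comp_left, ← Over.comp_left, ← Over.comp_left,
      whiskerLeft_fst, lift_fst, lift_snd,
      show PicF.pullCl f.left (PicF.cl P) = PicF.cl Λ from (Groth.Agent.AbDualLib.cl_congr eM).symm]
    exact Groth.Agent.AbDualLib.cl_congr ea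
  letI : (A ⊗ A).left.Over (Spec (CommRingCat.of k)) := ⟨(A ⊗ A).hom⟩
  haveI : IsProper ((A ⊗ A).left ↘ Spec (CommRingCat.of k)) := hpAA
  have h1 := Groth.Agent.Pic0.EulerPull.euler_isogeny f hdf hG
  rw [euler_total hφ P hP hPξ g hgA hgAt L hL, Groth.L03.Euler.euler_iso eF] at h1
  haveI : Flat (A ⊗ A).hom := by
    haveI := Groth.L08.Albanese.geometricallyIntegral_tensor A A
    infer_instance
  have h2 : Curv2.euler k (A ⊗ A).left ((Scheme.Modules.pullback σ.left).obj B) =
      Curv2.euler k (A ⊗ A).left B := by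
    unfold Curv2.euler
    refine finsum_congr fun i => ?_
    obtain ⟨e⟩ := nonempty_HH_pullback_iso σ.left (A ⊗ A).hom (A ⊗ A).hom (Over.w σ) hB i
    erw [e.finrank_eq]
  haveI : IsLocallyNoetherian A.left := LocallyOfFiniteType.isLocallyNoetherian A.hom
  have h3 := euler_boxtimes (A := A) (B := A) (Groth.L18.Ample.isCoh_of_isInvertible hL)
    (Groth.L18.Ample.isCoh_of_isInvertible hL'inv)
  rw [h2] at h1
  have h4 := h3.symm.trans h1
  rw [euler_inverse hgA L L' hL hL'inv hL'] at h4
  have hu : (-1 : ℤ) ^ g ≠ 0 := pow_ne_zero _ (by norm_num)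
  exact mul_right_cancel₀ hu (by rw [sq]; linarith)

end Total

end Groth.Agent.L26.Mumford
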