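import Groth.Agent.L26.Mumford.Sky
import Groth.Agent.L17.BC.FlatModel
import Groth.Agent.L16.CohGab.Closed
import Groth.Agent.L21.CurveDual.Coherent
import Groth.Agent.L26.AbDual.LamSurj

/-!
The higher direct images of a Poincaré class to the first factor: a skyscraper at the origin. No biduality enters;
the global computation fixes the length.
-/

set_option autoImplicit false
set_option linter.style.haveILetI false
set_option linter.unusedSectionVars false
set_option maxSynthPendingDepth 3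
set_option backward.isDefEq.respectTransparency false
set_option backward.isDefEq.respectTransparency.types false

universe u

open CategoryTheory CategoryTheory.Limits MonoidalCategory CartesianMonoidalCategory MonObj GrpObj AlgebraicGeometry
open IsLocalRing
open Groth.Agent.AbDualLib (oneCl bil bil_whiskerLeft bil_mul_right)
open Groth.L01.FlatCx (bc unitEquiv)

noncomputable section

namespace Groth.Agent.L26.Mumford

section Members

variable {k : Type u} [Field k] {A Q : Over (Spec (CommRingCat.of k))}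
  [IsProper A.hom] [Flat A.hom] [LocallyOfFiniteType Q.hom] (P : (PicF.XT A.hom Q).Modules)
  (hPi : PicF.IsInvertible P) [HasInjectiveResolutions (PicF.XT A.hom Q).Modules]

include hPi

/-- A complex computing the sections of the higher direct images over an affine open and the cohomology of the
members at its field-valued points. -/
theorem exists_open_complex {V : Q.left.Opens} (hV : IsAffineOpen V) :
    ∃ (L : CochainComplex (ModuleCat.{u} Γ(Q.left, V)) ℤ) (top : ℤ),
      (∀ i, Module.Finite Γ(Q.left, V) (L.X i) ∧ Module.Free Γ(Q.left, V) (L.X i)) ∧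
      (∀ (M : ModuleCat.{u} Γ(Q.left, V)) (i : ℤ), i < 0 ∨ top < i → IsZero (CohIII.T L i M)) ∧
      (∀ i : ℕ, Nonempty (Γ((Coh.Rpush (PicF.XTproj A.hom Q) i).obj P, V) ≃ₗ[Γ(Q.left, V)]
        (L.homology (i : ℤ) : Type u))) ∧
      ∀ (K : Type u) [Field K] [Algebra Γ(Q.left, V) K] (σ : Spec (CommRingCat.of K) ⟶ Spec (CommRingCat.of k))
        (u : Over.mk σ ⟶ Q) (_ : u.left = Spec.map (CommRingCat.ofHom (algebraMap Γ(Q.left, V) K)) ≫ hV.fromSpec)
        (i : ℕ), Nonempty (((bc K L).homology (i : ℤ) : Type u) ≃ Coh.HH (PicF.XT A.hom (Over.mk σ)) (PMod P u) i) := by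
  haveI : IsLocallyNoetherian Q.left := LocallyOfFiniteType.isLocallyNoetherian Q.hom
  haveI : IsNoetherianRing Γ(Q.left, V) := IsLocallyNoetherian.component_noetherian ⟨V, hV⟩
  let R : CommRingCat.{u} := Γ(Q.left, V)
  haveI : IsNoetherianRing R := ‹_›
  let τ : Spec R ⟶ Spec (CommRingCat.of k) := hV.fromSpec ≫ Q.hom
  let v : Over.mk τ ⟶ Q := Over.homMk hV.fromSpec rfl
  let gV : PicF.XT A.hom (Over.mk τ) ⟶ Spec R := PicF.XTproj A.hom (Over.mk τ)
  haveI : IsProper gV := inferInstanceAs (IsProper (pullback.snd A.hom τ))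
  haveI : Flat gV := inferInstanceAs (Flat (pullback.snd A.hom τ))
  haveI : IsProper (PicF.XTproj A.hom (Over.mk τ)) := ‹IsProper gV›
  haveI : IsLocallyNoetherian (PicF.XT A.hom (Over.mk τ)) := LocallyOfFiniteType.isLocallyNoetherian gV
  have hPv : PicF.IsInvertible (PMod P v) := PicLoc.isInvertible_pullback _ hPi
  haveI : Coh.IsQCoh (PMod P v) := Groth.L21.Extend.isQCoh_of_isInvertible hPv
  obtain ⟨m⟩ := Groth.L17.BC.nonempty_model (A := R) gV (PMod P v)
    (Groth.L16.ProperFinite.isCoh_of_isInvertible hPv)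
    (fun W hW => Groth.L08.Cube.flat_sections gV hPv W hW)
  refine ⟨m.L, m.top, m.finiteFree, fun M i hi => hi.elim (m.isZero_T_of_neg M) (m.isZero_T_of_gt M), fun i => ?_,
    fun K _ _ σ u hu i => ?_⟩
  · have sqv : IsPullback (PicF.XTmap A.hom v) gV (PicF.XTproj A.hom Q) hV.fromSpec :=
      Groth.Agent.L26.PicSm.isPullback_XTmap A.hom v
    haveI : IsOpenImmersion (PicF.XTmap A.hom v) := MorphismProperty.of_isPullback sqv.flip inferInstance
    haveI : QuasiCompact (PicF.XTproj A.hom Q) := inferInstanceAs (QuasiCompact (pullback.snd A.hom Q.hom))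
    haveI : QuasiSeparated (PicF.XTproj A.hom Q) := inferInstanceAs (QuasiSeparated (pullback.snd A.hom Q.hom))
    haveI : Coh.IsQCoh P := Groth.L21.Extend.isQCoh_of_isInvertible hPi
    haveI : Coh.IsQCoh (P.restrict (PicF.XTmap A.hom v)) := Scheme.Modules.isQuasicoherent_restrictFunctor _ P
    haveI := Groth.L17.PushQCoh.hasInjectiveResolutions (PicF.XT A.hom (Over.mk τ))
    haveI := Groth.L17.PushQCoh.isQCoh_Rpush (PicF.XTproj A.hom Q) P i
    have hr : PicF.XTproj A.hom Q ⁻¹ᵁ hV.fromSpec.opensRange ≤ (PicF.XTmap A.hom v).opensRange := by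
      intro x hx
      obtain ⟨s, hs⟩ := hx
      obtain ⟨z, hz, -⟩ := Scheme.Pullback.exists_preimage_pullback x s hs.symm
      refine ⟨sqv.isoPullback.inv z, ?_⟩
      rw [← Scheme.Hom.comp_apply, sqv.isoPullback_inv_fst]
      exact hz
    obtain ⟨i₁⟩ := Groth.L17.PushQCoh.nonempty_Rpush_restrict_iso (PicF.XTproj A.hom Q) hV.fromSpec
      (PicF.XTmap A.hom v) gV hr sqv.w.symm P i
    obtain ⟨N, eN, ⟨εN⟩⟩ := Groth.L17.BC.Classes.exists_chart ((Coh.Rpush (PicF.XTproj A.hom Q) i).obj P) hV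
    obtain ⟨eΓ⟩ := Groth.L17.ProperCoh.nonempty_Γ_Rpush_equiv (R := R) gV (P.restrict (PicF.XTmap A.hom v)) i
    obtain ⟨θ⟩ := nonempty_HH_congr (B := R) gV ((Scheme.Modules.restrictFunctorIsoPullback (PicF.XTmap A.hom v)).app P) i
    obtain ⟨em⟩ := m.exists_equiv_self (p := i)
    letI : Module R (Coh.HH (PicF.XT A.hom (Over.mk τ)) (P.restrict (PicF.XTmap A.hom v)) i) :=
      Module.compHom _ (Coh.toGlobal (A := R) gV)
    letI : Module R (Coh.HH (PicF.XT A.hom (Over.mk τ)) (PMod P v) i) :=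
      Module.compHom _ (Coh.toGlobal (A := R) gV)
    exact ⟨εN.symm ≪≫ₗ ((tilde.toTildeΓNatIso.app N) ≪≫
      (moduleSpecΓFunctor (R := R)).mapIso (eN.symm ≪≫ i₁)).toLinearEquiv ≪≫ₗ eΓ.symm ≪≫ₗ θ ≪≫ₗ em.symm⟩
  · letI : Algebra R K := ‹Algebra Γ(Q.left, V) K›
    let h : Over.mk σ ⟶ Over.mk τ := Over.homMk (Spec.map (CommRingCat.ofHom (algebraMap R K))) (by
      show Spec.map _ ≫ hV.fromSpec ≫ Q.hom = σ
      rw [← Category.assoc, ← hu]
      exact Over.w u)
    have hv : h ≫ v = u := Over.OverMorphism.ext hu.symm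
    obtain ⟨e⟩ := nonempty_model_equiv (B := CommRingCat.of K) P τ σ h rfl v m i
    exact ⟨e.toEquiv.trans (Groth.L17.BC.HHequiv (eqToIso (congrArg (fun y => PMod P y) hv)) i).toEquiv⟩

/-- A stalk of a higher direct image vanishes where the cohomology of the geometric members in this degree does. -/
theorem subsingleton_stalk_of_member (y : Q.left) (i : ℕ) (h : ∀ (K : Type u) [Field K] [IsAlgClosed K]
      (σ : Spec (CommRingCat.of K) ⟶ Spec (CommRingCat.of k)) (u : Over.mk σ ⟶ Q), u.left (⊥ : PrimeSpectrum K) = y →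
      Subsingleton (Coh.HH (PicF.XT A.hom (Over.mk σ)) (PMod P u) i)) :
    Subsingleton (((Coh.Rpush (PicF.XTproj A.hom Q) i).obj P).presheaf.stalk y) := by
  haveI : IsLocallyNoetherian Q.left := LocallyOfFiniteType.isLocallyNoetherian Q.hom
  haveI : QuasiCompact (PicF.XTproj A.hom Q) := inferInstanceAs (QuasiCompact (pullback.snd A.hom Q.hom))
  haveI : QuasiSeparated (PicF.XTproj A.hom Q) := inferInstanceAs (QuasiSeparated (pullback.snd A.hom Q.hom))
  haveI : Coh.IsQCoh P := Groth.L21.Extend.isQCoh_of_isInvertible hPi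
  haveI := Groth.L17.PushQCoh.isQCoh_Rpush (PicF.XTproj A.hom Q) P i
  obtain ⟨_, ⟨V, hV, rfl⟩, hyV, -⟩ :=
    Q.left.isBasis_affineOpens.exists_subset_of_mem_open (Set.mem_univ y) isOpen_univ
  haveI : IsNoetherianRing Γ(Q.left, V) := IsLocallyNoetherian.component_noetherian ⟨V, hV⟩
  obtain ⟨L, top, hL, -, hE, hK⟩ := exists_open_complex P hPi hV
  obtain ⟨E⟩ := hE i
  let p := hV.primeIdealOf ⟨y, hyV⟩
  let K := AlgebraicClosure p.asIdeal.ResidueField
  letI : Algebra Γ(Q.left, V) K :=
    ((algebraMap p.asIdeal.ResidueField K).comp (algebraMap Γ(Q.left, V) p.asIdeal.ResidueField)).toAlgebra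
  have hcomap : PrimeSpectrum.comap (algebraMap Γ(Q.left, V) K) ⊥ = p := by
    refine PrimeSpectrum.ext ?_
    show RingHom.ker ((algebraMap p.asIdeal.ResidueField K).comp (algebraMap _ p.asIdeal.ResidueField)) = _
    rw [RingHom.ker_comp_of_injective _ (RingHom.injective _)]
    exact Ideal.ker_algebraMap_residueField p.asIdeal
  let f := Spec.map (CommRingCat.ofHom (algebraMap Γ(Q.left, V) K)) ≫ hV.fromSpec
  let u : Over.mk (f ≫ Q.hom) ⟶ Q := Over.homMk f rfl
  obtain ⟨e⟩ := hK K (f ≫ Q.hom) u rfl i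
  haveI := h K (f ≫ Q.hom) u (by
    show hV.fromSpec (PrimeSpectrum.comap (algebraMap Γ(Q.left, V) K) ⊥) = y
    rw [hcomap]
    exact hV.fromSpec_primeIdealOf ⟨y, hyV⟩)
  have h0 : CohIII.dRank L (i : ℤ) p = 0 := by
    rw [← hcomap, ← Groth.L17.BC.finrank_homology_bc L K (i : ℤ)]
    haveI : Subsingleton ((bc K L).homology (i : ℤ) : Type u) := e.subsingleton
    exact Module.finrank_zero_of_subsingleton
  haveI : Module.Finite Γ(Q.left, V) (L.homology (i : ℤ) : Type u) := finite_homology L hL _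
  letI := Groth.L20.ModStalk.stalkModule ((Coh.Rpush (PicF.XTproj A.hom Q) i).obj P) hyV
  haveI := Groth.L20.ModStalk.isLocalizedModule_germ ((Coh.Rpush (PicF.XTproj A.hom Q) i).obj P) hV hyV
  by_contra hne
  rw [not_subsingleton_iff_nontrivial] at hne
  refine dRank_ne_zero_of_mem_support L hL _ p ?_ h0
  rw [← E.support_eq, Module.mem_support_iff]
  exact (IsLocalizedModule.iso p.asIdeal.primeCompl
    (Groth.L20.ModStalk.germₗ ((Coh.Rpush (PicF.XTproj A.hom Q) i).obj P) hyV)).toEquiv.nontrivial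

/-- A stalk of the higher direct images vanishes where the geometric members are acyclic. -/
theorem subsingleton_stalk_of_members (y : Q.left) (h : ∀ (K : Type u) [Field K] [IsAlgClosed K]
      (σ : Spec (CommRingCat.of K) ⟶ Spec (CommRingCat.of k)) (u : Over.mk σ ⟶ Q), u.left (⊥ : PrimeSpectrum K) = y →
      ∀ i, Subsingleton (Coh.HH (PicF.XT A.hom (Over.mk σ)) (PMod P u) i)) (i : ℕ) :
    Subsingleton (((Coh.Rpush (PicF.XTproj A.hom Q) i).obj P).presheaf.stalk y) :=
  subsingleton_stalk_of_member P hPi y i fun K _ _ σ u hu => h K σ u hu i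

end Members

section Flip

variable {k : Type u} [Field k] {A At : Over (Spec (CommRingCat.of k))} [GrpObj A] [GrpObj At]
  [IsProper A.hom] [Smooth A.hom] [GeometricallyConnected A.hom]
  [IsProper At.hom] [Smooth At.hom] [GeometricallyConnected At.hom]
  {φ : ∀ T : Over (Spec (CommRingCat.of k)), PicF.Cl (PicF.XT A.hom T) → (T ⟶ At)}
  (hφ : AbDual.IsDualAV Scheme.fppfPrecoverage A At φ) (P : (pullback A.hom At.hom).Modules)
  (hP : PicF.IsInvertible P) (hPξ : AbDual.IsPoincareCl A At φ (PicF.cl P))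

/-- The family read over the first factor. -/
abbrev flipP : (PicF.XT At.hom A).Modules :=
  (Scheme.Modules.pullback (pullbackSymmetry At.hom A.hom).hom).obj P

theorem bil_flip {V : Over (Spec (CommRingCat.of k))} (a : V ⟶ At) (b : V ⟶ A) :
    bil (PicF.cl (flipP P)) a b = bil (PicF.cl P) b a := by
  show PicF.pullCl _ (PicF.pullCl _ (PicF.cl P)) = _
  rw [← PicLoc.pullCl_comp]
  refine congrArg (fun m => PicF.pullCl m (PicF.cl P)) ?_
  apply pullback.hom_ext
  · show ((lift a b).left ≫ (pullbackSymmetry At.hom A.hom).hom) ≫ pullback.fst A.hom At.hom = (lift b a ≫ fst A At).left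
    rw [Category.assoc, pullbackSymmetry_hom_comp_fst, lift_fst]
    exact congrArg CommaMorphism.left (lift_snd a b)
  · show ((lift a b).left ≫ (pullbackSymmetry At.hom A.hom).hom) ≫ pullback.snd A.hom At.hom = (lift b a ≫ snd A At).left
    rw [Category.assoc, pullbackSymmetry_hom_comp_snd, lift_snd]
    exact congrArg CommaMorphism.left (lift_fst a b)

include hφ hP hPξ in
/-- Points parametrising trivial classes on the dual are closed. -/
theorem isClosed_of_member_trivial {K : Type u} [Field K] (σ : Spec (CommRingCat.of K) ⟶ Spec (CommRingCat.of k))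
    (u : Over.mk σ ⟶ A) (h : PicF.pullCl (PicF.XTmap At.hom u) (PicF.cl (flipP P)) = oneCl _) :
    IsClosed ({u.left (⊥ : PrimeSpectrum K)} : Set A.left) := by
  haveI : GeometricallyIntegral A.hom := geometricallyIntegral_av A
  haveI : GeometricallyIntegral At.hom := geometricallyIntegral_av At
  haveI : IsCommMonObj A := isCommMonObj_of_isProper_of_geometricallyIntegral A
  haveI : IsCommMonObj At := isCommMonObj_of_isProper_of_geometricallyIntegral At
  obtain ⟨M, hM⟩ := Groth.Agent.AV.Degree.exists_isAmple A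
  obtain ⟨Z, i, -, hZ, hKer⟩ := Groth.Agent.LamSurj.exists_kernel hφ M hM
  let l := Groth.Agent.Poincare.Pairing.lamOf φ M hM.1
  rw [bil_whiskerLeft, bil_flip] at h
  have h2 := congrArg (PicF.pullCl (l ▷ Over.mk σ).left) h
  rw [AbDualLib.pullCl_bil, whiskerRight_fst, whiskerRight_snd_assoc] at h2
  replace h2 := h2.trans (AbDualLib.pullCl_oneCl _)
  have e : Groth.Agent.Poincare.Pairing.xi hPξ (fst A (Over.mk σ)) ((snd A (Over.mk σ) ≫ u) ≫ l) =
      Groth.Agent.Poincare.Pairing.xi hPξ (snd A (Over.mk σ) ≫ u) (fst A (Over.mk σ) ≫ l) :=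
    (Groth.Agent.Poincare.Pairing.xi_lamOf hφ hPξ M hM.1 _ _).trans
      ((Groth.Agent.Poincare.Adjoint.bil_comm M hM.1 _ _).trans
        (Groth.Agent.Poincare.Pairing.xi_lamOf hφ hPξ M hM.1 _ _).symm)
  have e' := congrArg (fun z => (Additive.toMul z).1) e
  have hl : u ≫ l = 1 := (poincareLike_of_isDualAV hφ hPξ).inj _ _ (by
    rw [bil_whiskerLeft, ← Category.assoc]
    exact (show bil (PicF.cl P) _ _ = bil (PicF.cl P) _ _ from e').trans h2)
  let z := hKer.lift u (toUnit _) (by rw [hl, Hom.one_def])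
  have hz : z ≫ i = u := hKer.lift_fst _ _ _
  haveI : IsFinite Z.hom := hZ
  haveI : IsProper (i.left ≫ A.hom) := by rw [Over.w i]; infer_instance
  haveI : IsProper i.left := IsProper.of_comp i.left A.hom
  rw [← hz]
  show IsClosed ({i.left (z.left (⊥ : PrimeSpectrum K))} : Set A.left)
  rw [← Set.image_singleton]
  refine i.left.isClosedMap _ ?_
  haveI : IsAffine Z.left := isAffine_of_isAffineHom Z.hom
  haveI : DiscreteTopology Z.left := by
    haveI : IsLocallyArtinian Z.left := IsLocallyArtinian.of_locallyQuasiFinite Z.hom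
    infer_instance
  exact isClosed_discrete _

include hφ hP hPξ in
/-- The higher direct images to the first factor live on closed points. -/
theorem suppClosed_flip [HasInjectiveResolutions (PicF.XT At.hom A).Modules] (i : ℕ) :
    Groth.L21.RR.SuppClosed ((Coh.Rpush (PicF.XTproj At.hom A) i).obj (flipP P)) := fun y hy =>
  subsingleton_stalk_of_members (A := At) (Q := A) (flipP P) (PicLoc.isInvertible_pullback _ hP) y
    (fun K _ _ σ u hu j => vanish_member (A := At) (Q := A) (flipP P) rfl (PicLoc.isInvertible_pullback _ hP) σ u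
      (fun a b h => by rw [bil_flip, bil_flip, bil_flip]; exact bil_mul_right hφ hPξ _ _ _)
      (fun h => hy (hu ▸ isClosed_of_member_trivial hφ P hP hPξ σ u h)) j) i

end Flip


/-- Isomorphic schemes over a field have isomorphic cohomology of corresponding invertible modules. -/
theorem nonempty_HH_pullback_iso {k : Type u} [Field k] {X X' : Scheme.{u}} (σ : X' ⟶ X) [IsIso σ]
    (f : X ⟶ Spec (CommRingCat.of k)) (f' : X' ⟶ Spec (CommRingCat.of k)) (h : σ ≫ f = f') [IsProper f] [Flat f]
    {M : X.Modules} (hM : PicF.IsInvertible M) (i : ℕ) :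
    letI : Module k (Coh.HH X M i) := Module.compHom _ (Coh.toGlobal (A := k) f)
    letI : Module k (Coh.HH X' ((Scheme.Modules.pullback σ).obj M) i) := Module.compHom _ (Coh.toGlobal (A := k) f')
    Nonempty (Coh.HH X' ((Scheme.Modules.pullback σ).obj M) i ≃ₗ[k] Coh.HH X M i) := by
  subst h
  letI : Module k (Coh.HH X M i) := Module.compHom _ (Coh.toGlobal (A := k) f)
  letI : Module k (Coh.HH X' ((Scheme.Modules.pullback σ).obj M) i) :=
    Module.compHom _ (Coh.toGlobal (A := k) (σ ≫ f))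
  letI : Module k (Coh.HH X ((Scheme.Modules.pullback (𝟙 X)).obj M) i) :=
    Module.compHom _ (Coh.toGlobal (A := k) f)
  haveI : IsLocallyNoetherian X := LocallyOfFiniteType.isLocallyNoetherian f
  haveI : Coh.IsQCoh M := Groth.L21.Extend.isQCoh_of_isInvertible hM
  obtain ⟨m⟩ := Groth.L17.BC.nonempty_model f M (Groth.L16.ProperFinite.isCoh_of_isInvertible hM)
    (fun V hV => Groth.L08.Cube.flat_sections f hM V hV)
  have hid : Spec.map (CommRingCat.ofHom (algebraMap k k)) = 𝟙 _ := Spec.map_id _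
  have sq₁ : IsPullback (𝟙 X) f f (Spec.map (CommRingCat.ofHom (algebraMap k k))) := by
    rw [hid]
    exact IsPullback.of_horiz_isIso ⟨by simp⟩
  have sq₂ : IsPullback σ (σ ≫ f) f (Spec.map (CommRingCat.ofHom (algebraMap k k))) := by
    rw [hid]
    exact IsPullback.of_horiz_isIso ⟨by simp⟩
  obtain ⟨e₁⟩ := m.exists_equiv f (𝟙 X) sq₁ i
  obtain ⟨e₂⟩ := m.exists_equiv (σ ≫ f) σ sq₂ i
  obtain ⟨e₀⟩ := nonempty_HH_congr f ((Scheme.Modules.pullbackId X).app M) i
  exact ⟨e₂.symm ≪≫ₗ e₁ ≪≫ₗ e₀⟩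

section FlipMain

variable {k : Type u} [Field k] {A At : Over (Spec (CommRingCat.of k))} [GrpObj A] [GrpObj At]
  [IsProper A.hom] [Smooth A.hom] [GeometricallyConnected A.hom]
  [IsProper At.hom] [Smooth At.hom] [GeometricallyConnected At.hom]
  {φ : ∀ T : Over (Spec (CommRingCat.of k)), PicF.Cl (PicF.XT A.hom T) → (T ⟶ At)}
  (hφ : AbDual.IsDualAV Scheme.fppfPrecoverage A At φ) (P : (pullback A.hom At.hom).Modules)
  (hP : PicF.IsInvertible P) (hPξ : AbDual.IsPoincareCl A At φ (PicF.cl P))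
  (g : ℕ) (hgA : topologicalKrullDim ↥A.left = g) (hgAt : topologicalKrullDim ↥At.left = g)

include hφ hP hPξ hgA hgAt

/-- The cohomology of the flipped family. -/
theorem finrank_HH_flip (i : ℕ) :
    letI : Module k (Coh.HH (PicF.XT At.hom A) (flipP P) i) :=
      Module.compHom _ (Coh.toGlobal (A := k) (PicF.XTproj At.hom A ≫ A.hom))
    (i ≠ g → Subsingleton (Coh.HH (PicF.XT At.hom A) (flipP P) i)) ∧
      (i = g → Module.finrank k (Coh.HH (PicF.XT At.hom A) (flipP P) i) = 1) := by
  let q : pullback A.hom At.hom ⟶ Spec (CommRingCat.of k) := pullback.snd A.hom At.hom ≫ At.hom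
  letI : Module k (Coh.HH (PicF.XT At.hom A) (flipP P) i) :=
    Module.compHom _ (Coh.toGlobal (A := k) (PicF.XTproj At.hom A ≫ A.hom))
  letI : Module k (Coh.HH (pullback A.hom At.hom) P i) := Module.compHom _ (Coh.toGlobal (A := k) q)
  haveI : IsProper q := inferInstanceAs (IsProper (pullback.snd A.hom At.hom ≫ At.hom))
  haveI : Flat q := inferInstanceAs (Flat (pullback.snd A.hom At.hom ≫ At.hom))
  haveI := Groth.L17.PushQCoh.hasInjectiveResolutions (pullback A.hom At.hom)
  obtain ⟨e⟩ := nonempty_HH_pullback_iso (pullbackSymmetry At.hom A.hom).hom q (PicF.XTproj At.hom A ≫ A.hom) (by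
    show (pullbackSymmetry At.hom A.hom).hom ≫ pullback.snd A.hom At.hom ≫ At.hom = _
    rw [pullbackSymmetry_hom_comp_snd_assoc]
    exact pullback.condition) hP i
  have h := finrank_HH (A := A) (Q := At) (poincareLike_of_isDualAV hφ hPξ) P rfl hP g hgA hgAt q rfl i
  exact ⟨fun hi => haveI := h.1 hi; e.toEquiv.subsingleton, fun hi => e.finrank_eq.trans (h.2 hi)⟩

variable [HasInjectiveResolutions (PicF.XT At.hom A).Modules]

set_option maxHeartbeats 800000 in
/-- The global sections of the higher direct images to the first factor. -/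
theorem nonempty_Γ_flip (i : ℕ) :
    letI : Module k (Coh.HH (PicF.XT At.hom A) (flipP P) i) :=
      Module.compHom _ (Coh.toGlobal (A := k) (PicF.XTproj At.hom A ≫ A.hom))
    Nonempty (Coh.HH (PicF.XT At.hom A) (flipP P) i ≃ₗ[k] ↑((moduleSpecΓFunctor (R := CommRingCat.of k)).obj
      ((Scheme.Modules.pushforward A.hom).obj ((Coh.Rpush (PicF.XTproj At.hom A) i).obj (flipP P))))) := by
  let f := PicF.XTproj At.hom A
  letI : Module k (Coh.HH (PicF.XT At.hom A) (flipP P) i) := Module.compHom _ (Coh.toGlobal (A := k) (f ≫ A.hom))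
  haveI : IsLocallyNoetherian A.left := LocallyOfFiniteType.isLocallyNoetherian A.hom
  haveI : CompactSpace ↥(Spec (CommRingCat.of k)) := inferInstanceAs (CompactSpace (PrimeSpectrum k))
  haveI : CompactSpace ↥A.left := QuasiCompact.compactSpace_of_compactSpace A.hom
  haveI : AlgebraicGeometry.IsNoetherian A.left := {}
  haveI : IsProper f := inferInstanceAs (IsProper (pullback.snd At.hom A.hom))
  haveI : Coh.IsQCoh (flipP P) := Groth.L21.Extend.isQCoh_of_isInvertible (PicLoc.isInvertible_pullback _ hP)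
  haveI := isIso_lerayEdgeOut_of_suppClosed f A.hom (flipP P) (suppClosed_flip hφ P hP hPξ) i
  obtain ⟨e⟩ := Groth.L17.ProperCoh.nonempty_Γ_Rpush_equiv (R := CommRingCat.of k) (f ≫ A.hom) (flipP P) i
  exact ⟨e ≪≫ₗ ((moduleSpecΓFunctor (R := CommRingCat.of k)).mapIso
    (asIso (CohBC.lerayEdgeOut f A.hom i (flipP P)))).toLinearEquiv⟩

/-- The higher direct images to the first factor vanish off the dimension. -/
theorem isZero_Rpush_flip (i : ℕ) (hi : i ≠ g) : IsZero ((Coh.Rpush (PicF.XTproj At.hom A) i).obj (flipP P)) := by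
  haveI : IsLocallyNoetherian A.left := LocallyOfFiniteType.isLocallyNoetherian A.hom
  haveI : CompactSpace ↥(Spec (CommRingCat.of k)) := inferInstanceAs (CompactSpace (PrimeSpectrum k))
  haveI : CompactSpace ↥A.left := QuasiCompact.compactSpace_of_compactSpace A.hom
  haveI : AlgebraicGeometry.IsNoetherian A.left := {}
  let M := (Coh.Rpush (PicF.XTproj At.hom A) i).obj (flipP P)
  haveI := (finrank_HH_flip hφ P hP hPξ g hgA hgAt i).1 hi
  obtain ⟨e⟩ := nonempty_Γ_flip hφ P hP hPξ g hgA hgAt i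
  haveI hΓ : Subsingleton Γ(M, ⊤) := e.symm.toEquiv.subsingleton
  refine (Groth.L21.Mod.isZero_iff_stalk_subsingleton M).2 fun x => subsingleton_of_forall_eq 0 fun v => ?_
  obtain ⟨s, rfl, -⟩ := Groth.L21.RR.exists_section_germ (suppClosed_flip hφ P hP hPξ i) x v
  rw [@Subsingleton.elim _ hΓ s 0, map_zero]

/-- The origin lies in the support of the top higher direct image. -/
theorem nontrivial_stalk_flip :
    Nontrivial (((Coh.Rpush (PicF.XTproj At.hom A) g).obj (flipP P)).presheaf.stalk (orig A)) := by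
  rw [← not_subsingleton_iff_nontrivial]
  intro h0
  let M := (Coh.Rpush (PicF.XTproj At.hom A) g).obj (flipP P)
  haveI : IsLocallyNoetherian A.left := LocallyOfFiniteType.isLocallyNoetherian A.hom
  haveI : CompactSpace ↥(Spec (CommRingCat.of k)) := inferInstanceAs (CompactSpace (PrimeSpectrum k))
  haveI : CompactSpace ↥A.left := QuasiCompact.compactSpace_of_compactSpace A.hom
  haveI : AlgebraicGeometry.IsNoetherian A.left := {}
  haveI : IsProper (PicF.XTproj At.hom A) := inferInstanceAs (IsProper (pullback.snd At.hom A.hom))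
  haveI : IsLocallyNoetherian (PicF.XT At.hom A) := LocallyOfFiniteType.isLocallyNoetherian (PicF.XTproj At.hom A)
  have hM : Coh.IsCoh M := Groth.L17.ProperCoh.isCoh_Rpush (PicF.XTproj At.hom A) (flipP P)
    (Groth.L16.ProperFinite.isCoh_of_isInvertible (PicLoc.isInvertible_pullback _ hP)) g
  obtain ⟨_, ⟨V, hV, rfl⟩, heV, hVO⟩ := A.left.isBasis_affineOpens.exists_subset_of_mem_open
    (show orig A ∈ (CohB1.support M)ᶜ from fun h => h h0) (Groth.L16.CohGab.isClosed_support hM).isOpen_compl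
  haveI : IsNoetherianRing Γ(A.left, V) := IsLocallyNoetherian.component_noetherian ⟨V, hV⟩
  obtain ⟨L, top, hL, hT, hE, hK⟩ := exists_open_complex (A := At) (Q := A) (flipP P) (PicLoc.isInvertible_pullback _ hP) hV
  have hz : ∀ i : ℕ, Subsingleton Γ((Coh.Rpush (PicF.XTproj At.hom A) i).obj (flipP P), V) := fun i =>
    subsingleton_of_forall_eq 0 fun s => TopCat.Presheaf.section_ext
      ((Groth.L21.Mod.toAbSh A.left).obj ((Coh.Rpush (PicF.XTproj At.hom A) i).obj (flipP P))) V s 0 fun x hx => by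
        haveI : Subsingleton (((Coh.Rpush (PicF.XTproj At.hom A) i).obj (flipP P)).presheaf.stalk x) := by
          by_cases hi : i = g
          · subst hi
            exact not_not.1 (hVO hx)
          · exact (Groth.L21.Mod.isZero_iff_stalk_subsingleton _).1 (isZero_Rpush_flip hφ P hP hPξ g hgA hgAt i hi) x
        exact @Subsingleton.elim (((Coh.Rpush (PicF.XTproj At.hom A) i).obj (flipP P)).presheaf.stalk x) _ _ _
  have hex : ∀ i : ℤ, IsZero (L.homology i) := fun i => by
    by_cases hi : i < 0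
    · haveI := ModuleCat.subsingleton_of_isZero (hT (ModuleCat.of Γ(A.left, V) Γ(A.left, V)) i (Or.inl hi))
      exact @ModuleCat.isZero_of_subsingleton _ _ _ (@Equiv.subsingleton _ _ (unitEquiv L i).symm.toEquiv this)
    · obtain ⟨n, rfl⟩ : ∃ n : ℕ, i = n := ⟨i.toNat, (Int.toNat_of_nonneg (by omega)).symm⟩
      obtain ⟨E⟩ := hE n
      haveI := hz n
      exact @ModuleCat.isZero_of_subsingleton _ _ _ E.symm.toEquiv.subsingleton
  letI : Algebra Γ(A.left, V) k :=
    ((Scheme.stalkClosedPointTo η[A].left).hom.comp (A.left.presheaf.germ V (orig A) heV).hom).toAlgebra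
  let τ : Spec (CommRingCat.of k) ⟶ Spec (CommRingCat.of k) := 𝟙 _
  let u : Over.mk τ ⟶ A := η[A]
  obtain ⟨e⟩ := hK k τ u (by
    show η[A].left = Spec.map (A.left.presheaf.germ V (orig A) heV ≫ Scheme.stalkClosedPointTo η[A].left) ≫ hV.fromSpec
    rw [Spec.map_comp, Category.assoc,
      show Spec.map (A.left.presheaf.germ V (orig A) heV) ≫ hV.fromSpec = A.left.fromSpecStalk (orig A) from
        hV.fromSpecStalk_eq_fromSpecStalk heV]
    exact (Scheme.Spec_stalkClosedPointTo_fromSpecStalk η[A].left).symm) 0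
  have h1 : Nonempty (PMod (flipP P) u ≅ Coh.structureModule (PicF.XT At.hom (Over.mk τ))) := by
    refine (PicGrp.cl_eq_cl_iff _ _).1 ?_
    show PicF.pullCl _ (PicF.cl (flipP P)) = oneCl _
    rw [bil_whiskerLeft, bil_flip, show snd At (Over.mk τ) ≫ u = 1 by
      rw [Hom.one_def]; exact congrArg (· ≫ η[A]) (toUnit_unique _ _)]
    exact AbDualLib.bil_one_left hPξ _
  obtain ⟨θ⟩ := h1
  obtain ⟨hne, hΓ⟩ := bijective_toGlobal_point (A := At) τ
  letI : Module k (Coh.HH (PicF.XT At.hom (Over.mk τ)) (Coh.structureModule _) 0) :=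
    Module.compHom _ (Coh.toGlobal (A := k) (PicF.XTproj At.hom (Over.mk τ)))
  have h2 := Groth.L08.Cube.finrank_HH_zero_structure (PicF.XTproj At.hom (Over.mk τ)) hΓ
  haveI := ModuleCat.subsingleton_of_isZero (Groth.L17.BC.FlatModel.isZero_T_of_exact L
    (fun i => haveI := (hL i).2; inferInstance) hex top (fun M i hi => hT M i (Or.inr hi))
    (ModuleCat.of Γ(A.left, V) k) ((0 : ℕ) : ℤ))
  obtain ⟨e'⟩ := Groth.L16.BaseChange.exists_addEquiv_bc k L ((0 : ℕ) : ℤ)
  haveI : Subsingleton ((bc k L).homology ((0 : ℕ) : ℤ) : Type u) := e'.toEquiv.subsingleton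
  haveI : Subsingleton (Coh.HH (PicF.XT At.hom (Over.mk τ)) (Coh.structureModule _) 0) :=
    (e.trans (Groth.L17.BC.HHequiv θ 0).toEquiv).symm.subsingleton
  rw [Module.finrank_zero_of_subsingleton] at h2
  exact zero_ne_one h2

/-- The top higher direct image to the first factor is the structure sheaf of the origin. -/
theorem nonempty_Rpush_flip :
    Nonempty ((Coh.Rpush (PicF.XTproj At.hom A) g).obj (flipP P) ≅
      (Coh.push η[A].left).obj (Coh.structureModule (Spec (CommRingCat.of k)))) := by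
  let M := (Coh.Rpush (PicF.XTproj At.hom A) g).obj (flipP P)
  haveI : IsLocallyNoetherian A.left := LocallyOfFiniteType.isLocallyNoetherian A.hom
  haveI : CompactSpace ↥(Spec (CommRingCat.of k)) := inferInstanceAs (CompactSpace (PrimeSpectrum k))
  haveI : CompactSpace ↥A.left := QuasiCompact.compactSpace_of_compactSpace A.hom
  haveI : AlgebraicGeometry.IsNoetherian A.left := {}
  haveI : IsProper (PicF.XTproj At.hom A) := inferInstanceAs (IsProper (pullback.snd At.hom A.hom))
  haveI : IsLocallyNoetherian (PicF.XT At.hom A) := LocallyOfFiniteType.isLocallyNoetherian (PicF.XTproj At.hom A)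
  have hM : Coh.IsCoh M := Groth.L17.ProperCoh.isCoh_Rpush (PicF.XTproj At.hom A) (flipP P)
    (Groth.L16.ProperFinite.isCoh_of_isInvertible (PicLoc.isInvertible_pullback _ hP)) g
  have hs := suppClosed_flip hφ P hP hPξ g
  letI : Module k (Coh.HH (PicF.XT At.hom A) (flipP P) g) :=
    Module.compHom _ (Coh.toGlobal (A := k) (PicF.XTproj At.hom A ≫ A.hom))
  obtain ⟨e⟩ := nonempty_Γ_flip hφ P hP hPξ g hgA hgAt g
  let G := ((moduleSpecΓFunctor (R := CommRingCat.of k)).obj ((Scheme.Modules.pushforward A.hom).obj M))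
  have h1 : Module.finrank k G = 1 := e.finrank_eq.symm.trans ((finrank_HH_flip hφ P hP hPξ g hgA hgAt g).2 rfl)
  haveI := nontrivial_stalk_flip hφ P hP hPξ g hgA hgAt
  obtain ⟨v₀, hv₀⟩ := exists_ne (0 : M.presheaf.stalk (orig A))
  obtain ⟨s, hsv, hs0⟩ := Groth.L21.RR.exists_section_germ hs (orig A) v₀
  have hs_ne : (show G from s) ≠ 0 := fun h => hv₀ (by
    rw [← hsv, show s = 0 from h, map_zero])
  have hspan : ∀ t : Γ(M, ⊤), ∃ r : Γ(A.left, ⊤), r • s = t := fun t => by
    obtain ⟨a, ha⟩ := exists_smul_eq_of_finrank_eq_one h1 hs_ne (show G from t)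
    exact ⟨A.hom.appTop ((Scheme.ΓSpecIso (CommRingCat.of k)).inv a), ha⟩
  have hx : IsClosed ({orig A} : Set A.left) := isClosed_orig
  have hsupp : CohB1.support M ⊆ {orig A} := fun y hy => by
    by_contra hne
    refine hy (subsingleton_of_forall_eq 0 fun v => ?_)
    obtain ⟨t, rfl, -⟩ := Groth.L21.RR.exists_section_germ hs y v
    obtain ⟨r, rfl⟩ := hspan t
    rw [Groth.L20.ModStalk.germ_smul, hs0 y hne, smul_zero]
  obtain ⟨N, -, ⟨eN⟩⟩ := Groth.L07.BvdB.PointEfface.exists_sky hx hM hsupp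
  haveI := Groth.L00.Sky.isIso_counit (x := orig A) N
  let eS : (Groth.L00.Stk.F A.left (orig A)).obj M ≅ N := (Groth.L00.Stk.F A.left (orig A)).mapIso eN ≪≫
    asIso ((Groth.L00.Sky.adj (orig A)).counit.app N)
  let S := (Groth.L00.Stk.F A.left (orig A)).obj M
  haveI : Nontrivial S := ‹Nontrivial (M.presheaf.stalk (orig A))›
  haveI : IsSimpleModule (A.left.presheaf.stalk (orig A)) S := by
    rw [isSimpleModule_iff_toSpanSingleton_surjective]
    refine ⟨inferInstance, fun w hw v => ?_⟩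
    obtain ⟨tw, rfl, -⟩ := Groth.L21.RR.exists_section_germ hs (orig A) w
    obtain ⟨tv, rfl, -⟩ := Groth.L21.RR.exists_section_germ hs (orig A) v
    have hw' : (show G from tw) ≠ 0 := fun h => hw (by rw [show tw = 0 from h, map_zero])
    obtain ⟨a, ha⟩ := exists_smul_eq_of_finrank_eq_one h1 hw' (show G from tv)
    refine ⟨A.left.presheaf.germ ⊤ (orig A) trivial (A.hom.appTop ((Scheme.ΓSpecIso (CommRingCat.of k)).inv a)), ?_⟩
    exact (Groth.L20.ModStalk.germ_smul M (U := ⊤) trivial _ tw).symm.trans (congrArg _ ha)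
  obtain ⟨I, hI, ⟨eI⟩⟩ := isSimpleModule_iff_quot_maximal.1 ‹IsSimpleModule (A.left.presheaf.stalk (orig A)) S›
  obtain rfl : I = maximalIdeal _ := IsLocalRing.eq_maximalIdeal hI
  let eK : N ≅ Groth.L21.RR.resMod (orig A) := eS.symm ≪≫ eI.toModuleIso
  obtain ⟨ep⟩ := Groth.L07.BvdB.PointSky.nonempty_iso_sky (orig A)
  obtain ⟨eo⟩ := nonempty_pt_orig (Q := A)
  exact ⟨eN ≪≫ (Groth.L00.Sky.skyF (orig A)).mapIso eK ≪≫ ep.symm ≪≫ eo⟩

end FlipMain

end Groth.Agent.L26.Mumford
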