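import Groth.Agent.L26.Mumford.Geom
import Groth.Agent.L26.AbDual.Bidual

/-!
The Betti numbers of the structure sheaf of an abelian variety over an algebraically closed field.
-/

set_option autoImplicit false
set_option linter.style.haveILetI false
set_option linter.unusedSectionVars false
set_option maxSynthPendingDepth 3
set_option backward.isDefEq.respectTransparency false
set_option backward.isDefEq.respectTransparency.types false

universe u

open CategoryTheory CategoryTheory.Limits MonoidalCategory CartesianMonoidalCategory MonObj GrpObj AlgebraicGeometry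

noncomputable section

namespace Groth.Agent.L26.Mumford

variable {k : Type u} [Field k] {A : Over (Spec (CommRingCat.of k))}

/-- The cohomology of the structure sheaf does not see a change of the name of the scheme. -/
theorem finrank_HH_point [IsProper A.hom] [Flat A.hom] (i : ℕ) :
    letI : Module k (Coh.HH A.left (Coh.structureModule A.left) i) := Module.compHom _ (Coh.toGlobal A.hom)
    letI : Module k (Coh.HH (PicF.XT A.hom (Over.mk (𝟙 (Spec (CommRingCat.of k))))) (Coh.structureModule _) i) :=
      Module.compHom _ (Coh.toGlobal (A := k) (PicF.XTproj A.hom (Over.mk (𝟙 _))))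
    Module.finrank k (Coh.HH A.left (Coh.structureModule A.left) i) =
      Module.finrank k (Coh.HH (PicF.XT A.hom (Over.mk (𝟙 (Spec (CommRingCat.of k))))) (Coh.structureModule _) i) := by
  let τ : Spec (CommRingCat.of k) ⟶ Spec (CommRingCat.of k) := 𝟙 _
  let f' : PicF.XT A.hom (Over.mk τ) ⟶ Spec (CommRingCat.of k) := PicF.XTproj A.hom (Over.mk τ)
  letI : Module k (Coh.HH A.left (Coh.structureModule A.left) i) := Module.compHom _ (Coh.toGlobal A.hom)
  letI : Module k (Coh.HH (PicF.XT A.hom (Over.mk τ)) (Coh.structureModule _) i) :=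
    Module.compHom _ (Coh.toGlobal f')
  haveI : IsLocallyNoetherian A.left := LocallyOfFiniteType.isLocallyNoetherian A.hom
  have hO := Groth.L18.Ample.isInvertible_structureModule A.left
  haveI : Coh.IsQCoh (Coh.structureModule A.left) := Groth.L21.Extend.isQCoh_of_isInvertible hO
  obtain ⟨m⟩ := Groth.L17.BC.nonempty_model A.hom (Coh.structureModule A.left)
    (Groth.L16.ProperFinite.isCoh_of_isInvertible hO)
    (fun V hV => Groth.L08.Cube.flat_sections A.hom hO V hV)
  have hid : Spec.map (CommRingCat.ofHom (algebraMap k k)) = τ := Spec.map_id _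
  have sq₁ : IsPullback (𝟙 A.left) A.hom A.hom (Spec.map (CommRingCat.ofHom (algebraMap k k))) := by
    rw [hid]
    exact IsPullback.of_horiz_isIso ⟨by simp [τ]⟩
  have sq₂ : IsPullback (pullback.fst A.hom τ) f' A.hom (Spec.map (CommRingCat.ofHom (algebraMap k k))) := by
    rw [hid]
    exact IsPullback.of_hasPullback A.hom τ
  obtain ⟨e₁⟩ := nonempty_HH_congr A.hom ((Scheme.Modules.pullbackId A.left).app (Coh.structureModule A.left)) i
  obtain ⟨e₂⟩ := nonempty_HH_congr f' (Groth.L29.LocFree.pullbackUnitIso (pullback.fst A.hom τ)) i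
  letI : Module k (Coh.HH A.left ((Scheme.Modules.pullback (𝟙 A.left)).obj (Coh.structureModule A.left)) i) :=
    Module.compHom _ (Coh.toGlobal A.hom)
  letI : Module k (Coh.HH (PicF.XT A.hom (Over.mk τ))
      ((Scheme.Modules.pullback (pullback.fst A.hom τ)).obj (Coh.structureModule A.left)) i) :=
    Module.compHom _ (Coh.toGlobal f')
  letI : Module k (Coh.HH (PicF.XT A.hom (Over.mk τ)) (Coh.structureModule (pullback A.hom τ)) i) :=
    Module.compHom _ (Coh.toGlobal f')
  exact e₁.finrank_eq.symm.trans ((m.finrank_eq_dRank A.hom (𝟙 A.left) sq₁ i).trans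
    ((m.finrank_eq_dRank f' (pullback.fst A.hom τ) sq₂ i).symm.trans e₂.finrank_eq))

/-- `h^i(O_A) = C(g, i)`. -/
theorem finrank_HH_structure [IsAlgClosed k] [GrpObj A] [IsProper A.hom] [Smooth A.hom]
    [GeometricallyConnected A.hom] (g : ℕ) (hg : topologicalKrullDim ↥A.left = g) (i : ℕ) :
    letI : Module k (Coh.HH A.left (Coh.structureModule A.left) i) := Module.compHom _ (Coh.toGlobal A.hom)
    Module.finrank k (Coh.HH A.left (Coh.structureModule A.left) i) = g.choose i := by
  obtain ⟨Q, _, q, c, _, _, _, _, _, _, hc⟩ := exists_poincareLike (A := A)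
  obtain ⟨P, rfl, hPi⟩ := hc.inv
  obtain ⟨_, _, _, -, -, h⟩ := local_main hc P rfl hPi g hg ((Groth.Agent.Bidual.dim_eq_of_finite q).symm.trans hg)
  exact (finrank_HH_point (A := A) i).trans (h i)

end Groth.Agent.L26.Mumford
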