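import Groth.Agent.L16.BaseChange.Amplitude
import Groth.Agent.L17.BC.Fibre

/-!
Linear comparisons between the tensor homology of a complex, its base changes and cohomology, and the truncation
of a complex with vanishing homology outside an interval of fibre amplitude.
-/

set_option autoImplicit false
set_option linter.style.haveILetI false
set_option linter.unusedSectionVars false
set_option maxSynthPendingDepth 3
set_option backward.isDefEq.respectTransparency false
set_option backward.isDefEq.respectTransparency.types false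

universe u

open CategoryTheory CategoryTheory.Limits MonoidalCategory AlgebraicGeometry
open Groth.L01.FlatCx
open scoped TensorProduct

noncomputable section

namespace Groth.Agent.L26.Mumford

variable {R : Type u} [CommRing R]

/-- The tensor homology is linearly the homology of the base change, in the form of an equivalence with any
module receiving the latter semilinearly. -/
theorem nonempty_T_equiv (P : CochainComplex (ModuleCat.{u} R) ℤ) (j : ℤ) (B : Type u) [CommRing B] [Algebra R B]
    (H : Type u) [AddCommGroup H] [Module R H] (e : ((bc B P).homology j : Type u) ≃+ H)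
    (he : ∀ (a : R) (x : (bc B P).homology j), e (algebraMap R B a • x) = a • e x) :
    Nonempty ((CohIII.T P j (ModuleCat.of R B) : Type u) ≃ₗ[R] H) := by
  let K := bc B P
  let M := ModuleCat.of R B
  let φ : Cyc' K j →+ (CohIII.TFun P j).obj M :=
    AddMonoidHom.mk' (fun z => cls P j M ⟨sw B P j z.1, by
      show (dd P j _).rTensor B _ = 0
      rw [← sw_dd, show dd K j ((ComplexShape.up ℤ).next j) z.1 = 0 from z.2, map_zero]⟩)
      (fun a b => by
        rw [← map_add]
        exact congrArg _ (Subtype.ext (map_add _ _ _)))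
  have hφ : Function.Surjective φ := fun w => by
    obtain ⟨x, rfl⟩ := cls_surjective P j M w
    refine ⟨⟨(sw B P j).symm x.1, (sw B P ((ComplexShape.up ℤ).next j)).injective ?_⟩, ?_⟩
    · rw [sw_dd, AddEquiv.apply_symm_apply, map_zero]
      exact x.2
    · exact congrArg (cls P j M) (Subtype.ext ((sw B P j).apply_symm_apply x.1))
  let ψ : Cyc' K j →+ H := e.toAddMonoidHom.comp (cls' K j).toAddMonoidHom
  have hψ : Function.Surjective ψ := e.surjective.comp (cls'_surjective K j)
  have hker : φ.ker = ψ.ker := by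
    ext z
    show φ z = 0 ↔ e (cls' K j z) = 0
    rw [map_eq_zero_iff e e.injective]
    show cls P j M _ = 0 ↔ cls' K j z = 0
    rw [cls_eq_zero_iff P (i := (ComplexShape.up ℤ).prev j) rfl,
      cls'_eq_zero_iff K (i := (ComplexShape.up ℤ).prev j) rfl]
    constructor
    · rintro ⟨y, hy⟩
      refine ⟨(sw B P _).symm y, (sw B P j).injective ?_⟩
      rw [sw_dd, AddEquiv.apply_symm_apply]
      exact hy
    · rintro ⟨y, hy⟩
      exact ⟨sw B P _ y, (sw_dd B P _ j y).symm.trans (congrArg _ hy)⟩
  let Θ : ((CohIII.TFun P j).obj M : Type u) ≃+ H :=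
    ((QuotientAddGroup.quotientKerEquivOfSurjective φ hφ).symm.trans
      (QuotientAddGroup.quotientAddEquivOfEq hker)).trans (QuotientAddGroup.quotientKerEquivOfSurjective ψ hψ)
  have hΘ : ∀ z, Θ (φ z) = ψ z := fun z => by
    show QuotientAddGroup.quotientKerEquivOfSurjective ψ hψ (QuotientAddGroup.quotientAddEquivOfEq hker
      ((QuotientAddGroup.quotientKerEquivOfSurjective φ hφ).symm (φ z))) = ψ z
    rw [show (QuotientAddGroup.quotientKerEquivOfSurjective φ hφ).symm (φ z) = QuotientAddGroup.mk z from
      (AddEquiv.symm_apply_eq _).2 rfl]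
    rfl
  refine ⟨{ Θ with map_smul' := fun a w => ?_ }⟩
  obtain ⟨z, rfl⟩ := hφ w
  have hsm : φ (algebraMap R B a • z) = a • φ z := by
    refine Eq.trans (congrArg (cls P j M) (Subtype.ext ?_)) (map_smul (cls P j M) a _)
    show sw B P j (algebraMap R B a • z.1) = a • sw B P j z.1
    rw [sw_smul]
    induction sw B P j z.1 using TensorProduct.induction_on with
    | zero => simp
    | tmul x y => simp [LinearMap.lTensor_tmul, Algebra.smul_def, ← TensorProduct.tmul_smul]
    | add v w hv hw => simp only [map_add, smul_add, hv, hw]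
  show Θ (a • φ z) = a • Θ (φ z)
  rw [← hsm, hΘ, hΘ]
  show e (cls' K j (algebraMap R B a • z)) = a • e (cls' K j z)
  rw [map_smul, he]

/-- The degree zero tensor homology of a complex in nonnegative degrees. -/
theorem nonempty_T_zero (P : CochainComplex (ModuleCat.{u} R) ℤ) (hP : Subsingleton (P.X (-1))) (M : Type u)
    [AddCommGroup M] [Module R M] :
    Nonempty ((CohIII.T P 0 (ModuleCat.of R M) : Type u) ≃ₗ[R] LinearMap.ker ((dd P 0 1).lTensor M)) := by
  let N := ModuleCat.of R M
  let f := (dd P 0 ((ComplexShape.up ℤ).next 0)).rTensor M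
  have hinj : Function.Injective (cls P 0 N) := by
    refine (injective_iff_map_eq_zero _).2 fun z hz => Subtype.ext ?_
    obtain ⟨y, hy⟩ := (cls_eq_zero_iff P ((ComplexShape.up ℤ).prev_eq' (by simp : (-1 : ℤ) + 1 = 0)) N z).1 hz
    haveI := hP
    haveI : Subsingleton ((P.X (-1) : Type u) ⊗[R] M) := inferInstance
    rw [← hy, show y = 0 from Subsingleton.elim (α := (P.X (-1) : Type u) ⊗[R] M) y 0, map_zero]
    rfl
  have hnext : (ComplexShape.up ℤ).next (0 : ℤ) = 1 := by simp
  have key : ∀ j : ℤ, j = 1 → Nonempty (LinearMap.ker ((dd P 0 j).rTensor M) ≃ₗ[R]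
      LinearMap.ker ((dd P 0 1).lTensor M)) := by
    rintro _ rfl
    refine ⟨LinearEquiv.ofSubmodules (TensorProduct.comm R (P.X 0) M) _ _ ?_⟩
    ext w
    rw [Submodule.mem_map_equiv, LinearMap.mem_ker, LinearMap.mem_ker, ← (TensorProduct.comm R (P.X 1) M).symm.map_eq_zero_iff]
    refine Eq.congr (LinearMap.congr_fun (?_ : (dd P 0 1).rTensor M ∘ₗ (TensorProduct.comm R (P.X 0) M).symm.toLinearMap =
      (TensorProduct.comm R (P.X 1) M).symm.toLinearMap ∘ₗ (dd P 0 1).lTensor M) w).symm rfl |>.symm
    exact TensorProduct.ext' fun b x => by simp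
  obtain ⟨e⟩ := key _ hnext
  exact ⟨(LinearEquiv.ofBijective (cls P 0 N) ⟨hinj, cls_surjective P 0 N⟩).symm ≪≫ₗ e⟩

/-- Kernels along an isomorphism of coefficients. -/
theorem nonempty_ker_congr {X Y : Type u} [AddCommGroup X] [Module R X] [AddCommGroup Y] [Module R Y]
    (f : X →ₗ[R] Y) {M N : Type u} [AddCommGroup M] [Module R M] [AddCommGroup N] [Module R N] (e : M ≃ₗ[R] N) :
    Nonempty (LinearMap.ker (f.lTensor M) ≃ₗ[R] LinearMap.ker (f.lTensor N)) := by
  refine ⟨LinearEquiv.ofSubmodules (TensorProduct.congr e (LinearEquiv.refl R X)) _ _ ?_⟩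
  ext w
  rw [Submodule.mem_map_equiv, LinearMap.mem_ker, LinearMap.mem_ker,
    ← (TensorProduct.congr e.symm (LinearEquiv.refl R Y)).map_eq_zero_iff (x := f.lTensor N w)]
  refine Eq.congr (LinearMap.congr_fun (?_ : f.lTensor M ∘ₗ (TensorProduct.congr e (LinearEquiv.refl R X)).symm.toLinearMap =
    (TensorProduct.congr e.symm (LinearEquiv.refl R Y)).toLinearMap ∘ₗ f.lTensor N) w) rfl
  exact TensorProduct.ext' fun b x => by simp

/-- Vanishing fibre dimensions give vanishing tensor homology at the residue fields and conversely. -/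
theorem dRank_eq_zero_iff (P : CochainComplex (ModuleCat.{u} R) ℤ) (hP : ∀ i, Module.Finite R (P.X i)) (i : ℤ)
    (p : PrimeSpectrum R) :
    CohIII.dRank P i p = 0 ↔ Subsingleton (CohIII.T P i (ModuleCat.of R p.asIdeal.ResidueField) : Type u) := by
  obtain ⟨e⟩ := Groth.L16.BaseChange.exists_addEquiv_bc p.asIdeal.ResidueField P i
  haveI := Groth.L17.BC.finite_homology_bc_field P hP p.asIdeal.ResidueField i
  rw [show CohIII.dRank P i p = Module.finrank p.asIdeal.ResidueField
      ((bc p.asIdeal.ResidueField P).homology i : Type u) from rfl]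
  rw [Module.finrank_zero_iff]
  exact e.toEquiv.subsingleton_congr

/-- A finite free complex over a local ring whose fibres vanish outside `[0, g]` may be replaced by a finite free
complex in these degrees with the same tensor homology. -/
theorem exists_bounded [IsLocalRing R] [IsNoetherianRing R] (L : CochainComplex (ModuleCat.{u} R) ℤ)
    (hL : ∀ i, Module.Finite R (L.X i) ∧ Module.Free R (L.X i)) (top : ℤ) (htop : ∀ i, top < i → IsZero (L.X i))
    (g : ℕ) (hd : ∀ (p : PrimeSpectrum R) (i : ℤ), i < 0 ∨ (g : ℤ) < i → CohIII.dRank L i p = 0) :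
    ∃ P : CochainComplex (ModuleCat.{u} R) ℤ, (∀ i, Module.Finite R (P.X i) ∧ Module.Free R (P.X i)) ∧
      (∀ i, i < 0 ∨ (g : ℤ) < i → Subsingleton (P.X i)) ∧
      ∀ (M : ModuleCat.{u} R) (i : ℤ), Nonempty (CohIII.T L i M ≅ CohIII.T P i M) := by
  have hLf : ∀ i, Module.Finite R (L.X i) ∧ Module.Flat R (L.X i) := fun i =>
    haveI := (hL i).2
    ⟨(hL i).1, inferInstance⟩
  have hz : ∀ i : ℤ, i < 0 ∨ (g : ℤ) < i → IsZero (L.homology i) := fun i hi => by
    obtain ⟨j, rfl⟩ : ∃ j, i = j + 1 := ⟨i - 1, by ring⟩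
    haveI : Module.Finite R (L.homology (j + 1)) := by
      haveI := (hL (j + 1)).1
      haveI := isNoetherian_of_isNoetherianRing_of_finite R (L.X (j + 1))
      haveI : Module.Finite R (Cyc' L (j + 1)) := Module.Finite.iff_fg.2 (IsNoetherian.noetherian _)
      exact Module.Finite.of_surjective _ (cls'_surjective L (j + 1))
    haveI := Groth.L16.BaseChange.subsingleton_of_forall_mu (L.homology (j + 1) : Type u) fun x => by
      obtain ⟨h1, h2⟩ := Groth.L17.BC.Crit.freeC_of_dRank_eq_zero L hLf x (hd x (j + 1) hi)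
      exact (Groth.L17.BC.Crit.mem_freeLocus_homology L hLf x h1 h2).2.symm.trans (hd x (j + 1) hi)
    exact ModuleCat.isZero_of_subsingleton _
  have hcoker : Module.Flat R (Coker L (0 - 1) 0) := by
    have h := fun x => (Groth.L17.BC.Crit.freeC_of_dRank_eq_zero L hLf (j := -1 + -1) x
      (hd x _ (Or.inl (by norm_num)))).2
    haveI := (hL 0).1
    haveI : Module.FinitePresentation R (Coker L (-1 + -1 + 1) (-1 + -1 + 1 + 1)) :=
      haveI := (hL (-1 + -1 + 1 + 1)).1
      Module.finitePresentation_of_finite R _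
    haveI : Module.Projective R (Coker L (-1 + -1 + 1) (-1 + -1 + 1 + 1)) :=
      Module.freeLocus_eq_univ_iff.1 (Set.eq_univ_of_forall h)
    have e : ∀ a b : ℤ, a = -1 + -1 + 1 → b = -1 + -1 + 1 + 1 → Module.Flat R (Coker L a b) := by
      rintro _ _ rfl rfl
      infer_instance
    exact e _ _ (by norm_num) (by norm_num)
  obtain ⟨P, hP, hPz, hT⟩ := Groth.L16.BaseChange.exists_truncation L hL top htop 0 g hcoker
    (fun i hi => hz i (Or.inl hi)) (fun i hi => hz i (Or.inr hi))
  refine ⟨P, fun i => ⟨(hP i).1, ?_⟩, fun i hi => ModuleCat.subsingleton_of_isZero (hPz i hi), hT⟩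
  haveI := (hP i).1
  haveI := (hP i).2
  exact Module.free_of_flat_of_isLocalRing

end Groth.Agent.L26.Mumford
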