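import Groth.Agent.L26.Mumford.IndexPull
import Groth.Agent.L26.Mumford.BettiField
import Groth.Agent.L26.AV.TateBaseChange
import Groth.Agent.S17505

/-!
Invertible modules with cohomology in one degree, over any field.
-/

set_option autoImplicit false
set_option linter.style.haveILetI false
set_option linter.unusedSectionVars false
set_option maxSynthPendingDepth 3
set_option backward.isDefEq.respectTransparency false
set_option backward.isDefEq.respectTransparency.types false

universe u

open CategoryTheory CategoryTheory.Limits MonoidalCategory CartesianMonoidalCategory MonObj GrpObj AlgebraicGeometry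
open Groth.Agent.AV.TateBaseChange (bc)

noncomputable section

namespace Groth.Agent.L26.Mumford

attribute [local instance] Groth.L08.Cube.clMonoid

variable {k : Type u} [Field k]

/-- The pullback of a module to an extension of the ground field. -/
abbrev bcMod (K : Type u) [Field K] [Algebra k K] {A : Over (Spec (CommRingCat.of k))} (L : A.left.Modules) :
    (bc K A).left.Modules :=
  (Scheme.Modules.pullback (pullback.fst A.hom (Groth.Agent.AV.TateBaseChange.st (k := k) K))).obj L

/-- The cohomology of an invertible module after a field extension has the same dimensions. -/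
theorem finrank_HH_bcMod {A : Over (Spec (CommRingCat.of k))} [IsProper A.hom] [Flat A.hom] (K : Type u) [Field K]
    [Algebra k K] {L : A.left.Modules} (hL : PicF.IsInvertible L) (i : ℕ) :
    letI : Module k (Coh.HH A.left L i) := Module.compHom _ (Coh.toGlobal A.hom)
    letI : Module K (Coh.HH (bc K A).left (bcMod K L) i) := Module.compHom _ (Coh.toGlobal (A := K) (bc K A).hom)
    Module.finrank k (Coh.HH A.left L i) = Module.finrank K (Coh.HH (bc K A).left (bcMod K L) i) := by
  let X := bc K A
  let f' : X.left ⟶ Spec (CommRingCat.of K) := X.hom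
  let σ := Groth.Agent.AV.TateBaseChange.st (k := k) K
  letI : Module k (Coh.HH A.left L i) := Module.compHom _ (Coh.toGlobal A.hom)
  letI : Module K (Coh.HH X.left (bcMod K L) i) := Module.compHom _ (Coh.toGlobal f')
  haveI : IsLocallyNoetherian A.left := LocallyOfFiniteType.isLocallyNoetherian A.hom
  haveI : Coh.IsQCoh L := Groth.L21.Extend.isQCoh_of_isInvertible hL
  obtain ⟨m⟩ := Groth.L17.BC.nonempty_model A.hom L (Groth.L16.ProperFinite.isCoh_of_isInvertible hL)
    (fun V hV => Groth.L08.Cube.flat_sections A.hom hL V hV)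
  have sq₁ : IsPullback (𝟙 A.left) A.hom A.hom (Spec.map (CommRingCat.ofHom (algebraMap k k))) := by
    rw [show Spec.map (CommRingCat.ofHom (algebraMap k k)) = 𝟙 _ from Spec.map_id _]
    exact IsPullback.of_horiz_isIso ⟨by simp⟩
  have sq₂ : IsPullback (pullback.fst A.hom σ) f' A.hom σ := IsPullback.of_hasPullback A.hom σ
  letI : Module k (Coh.HH A.left ((Scheme.Modules.pullback (𝟙 A.left)).obj L) i) :=
    Module.compHom _ (Coh.toGlobal A.hom)
  obtain ⟨e₁⟩ := nonempty_HH_congr A.hom ((Scheme.Modules.pullbackId A.left).app L) i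
  have h2 : PrimeSpectrum.comap (algebraMap k K) ⊥ = PrimeSpectrum.comap (algebraMap k k) ⊥ :=
    Subsingleton.elim _ _
  exact e₁.finrank_eq.symm.trans ((m.finrank_eq_dRank A.hom (𝟙 A.left) sq₁ i).trans
    (h2 ▸ (m.finrank_eq_dRank f' (pullback.fst A.hom σ) sq₂ i).symm))

/-- The cohomology of an invertible module is concentrated in the degree `i` and is nonzero there. -/
abbrev Conc {X : Scheme.{u}} (L : X.Modules) (i : ℕ) : Prop :=
  (∀ j : ℕ, j ≠ i → Subsingleton (Coh.HH X L j)) ∧ Nontrivial (Coh.HH X L i)

variable {A : Over (Spec (CommRingCat.of k))} [IsProper A.hom]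

/-- Concentration is tested after an extension of the ground field. -/
theorem conc_bcMod_iff [Flat A.hom] (K : Type u) [Field K] [Algebra k K] {L : A.left.Modules}
    (hL : PicF.IsInvertible L) (i : ℕ) : Conc (bcMod K L) i ↔ Conc L i := by
  letI : A.left.Over (Spec (CommRingCat.of k)) := ⟨A.hom⟩
  letI : (bc K A).left.Over (Spec (CommRingCat.of K)) := ⟨(bc K A).hom⟩
  haveI : IsProper (A.left ↘ Spec (CommRingCat.of k)) := ‹IsProper A.hom›
  haveI : IsProper ((bc K A).left ↘ Spec (CommRingCat.of K)) :=
    inferInstanceAs (IsProper (pullback.snd A.hom (Groth.Agent.AV.TateBaseChange.st (k := k) K)))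
  haveI := Groth.L21.RR.isNoetherian_of_proper (X := A.left) k
  haveI := Groth.L21.RR.isNoetherian_of_proper (X := (bc K A).left) K
  have hLK : PicF.IsInvertible (bcMod K L) := PicLoc.isInvertible_pullback _ hL
  haveI := fun j => Groth.L16.ProperFinite.finite_HH k (Groth.L18.Ample.isCoh_of_isInvertible hL) j
  haveI := fun j => Groth.L16.ProperFinite.finite_HH K (Groth.L18.Ample.isCoh_of_isInvertible hLK) j
  have h : ∀ j, Subsingleton (Coh.HH (bc K A).left (bcMod K L) j) ↔ Subsingleton (Coh.HH A.left L j) := fun j => by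
    rw [← Module.finrank_zero_iff (R := K), ← Module.finrank_zero_iff (R := k)]
    exact Eq.congr_left (finrank_HH_bcMod K hL j).symm
  simp only [Conc, ← not_subsingleton_iff_nontrivial, h]

/-- The Euler characteristic of a module with concentrated cohomology is nonzero. -/
theorem euler_ne_zero_of_conc {L : A.left.Modules} (hL : PicF.IsInvertible L) {i : ℕ} (hc : Conc L i) :
    @Curv2.euler k _ A.left ⟨A.hom⟩ L ≠ 0 := by
  letI : A.left.Over (Spec (CommRingCat.of k)) := ⟨A.hom⟩
  haveI : IsProper (A.left ↘ Spec (CommRingCat.of k)) := ‹IsProper A.hom›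
  haveI := Groth.L21.RR.isNoetherian_of_proper (X := A.left) k
  haveI := Groth.L16.ProperFinite.finite_HH k (Groth.L18.Ample.isCoh_of_isInvertible hL) i
  haveI := hc.2
  unfold Curv2.euler
  rw [finsum_eq_single _ i fun j hj => by
    haveI := hc.1 j hj
    rw [Module.finrank_zero_of_subsingleton, Nat.cast_zero, mul_zero]]
  exact mul_ne_zero (pow_ne_zero _ (by norm_num)) (by exact_mod_cast (Module.finrank_pos (R := k)).ne')

/-- A module with concentrated cohomology is non-degenerate. -/
theorem finite_fixed_of_conc [IsAlgClosed k] [GrpObj A] [GeometricallyIntegral A.hom] {L : A.left.Modules}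
    (hL : PicF.IsInvertible L) {i : ℕ} (hc : Conc L i) :
    Set.Finite {x : 𝟙_ (Over (Spec (CommRingCat.of k))) ⟶ A |
      Nonempty ((Scheme.Modules.pullback (𝟙 A * (toUnit A ≫ x)).left).obj L ≅ L)} := by
  by_contra hinf
  exact euler_ne_zero_of_conc hL hc (Groth.Agent.S17505.result k A L hL hinf)

/-- Isogenies preserve concentration. -/
theorem conc_pull {B : Over (Spec (CommRingCat.of k))} [GrpObj A] [GeometricallyIntegral A.hom]
    [GrpObj B] [IsProper B.hom] [GeometricallyIntegral B.hom]
    (f : A ⟶ B) [IsMonHom f] [IsFinite f.left] [Surjective f.left]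
    {L : B.left.Modules} (hL : PicF.IsInvertible L) {i : ℕ} (hc : Conc L i) :
    Conc ((Scheme.Modules.pullback f.left).obj L) i := by
  let K := AlgebraicClosure k
  let σ := Groth.Agent.AV.TateBaseChange.st (k := k) K
  haveI : Smooth A.hom := Groth.L08.Albanese.smooth_of_geometricallyIntegral A
  haveI : Smooth B.hom := Groth.L08.Albanese.smooth_of_geometricallyIntegral B
  haveI : GeometricallyConnected (bc K A).hom := Groth.Agent.AV.Isogeny.geometricallyConnected _
  haveI : GeometricallyConnected (bc K B).hom := Groth.Agent.AV.Isogeny.geometricallyConnected _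
  haveI : Smooth (bc K A).hom := inferInstanceAs (Smooth (pullback.snd A.hom σ))
  haveI : Smooth (bc K B).hom := inferInstanceAs (Smooth (pullback.snd B.hom σ))
  let fK : bc K A ⟶ bc K B := (Over.pullback σ).map f
  have sq' : IsPullback (pullback.fst A.hom σ) fK.left f.left (pullback.fst B.hom σ) := by
    refine IsPullback.of_bot ?_ (pullback.lift_fst _ _ _).symm (IsPullback.of_hasPullback B.hom σ)
    rw [show fK.left ≫ pullback.snd B.hom σ = pullback.snd A.hom σ from pullback.lift_snd _ _ _, Over.w f]
    exact IsPullback.of_hasPullback A.hom σ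
  have sq := sq'.flip
  haveI : IsFinite fK.left := MorphismProperty.of_isPullback (P := @IsFinite) sq.flip ‹_›
  haveI : Surjective fK.left := MorphismProperty.of_isPullback (P := @Surjective) sq.flip ‹_›
  haveI : IsMonHom fK := inferInstanceAs (IsMonHom ((Over.pullback σ).map f))
  have hcK : Conc (bcMod K L) i := (conc_bcMod_iff K hL i).2 hc
  have hLK : PicF.IsInvertible (bcMod K L) := PicLoc.isInvertible_pullback _ hL
  obtain ⟨-, h⟩ := index_pull fK (bcMod K L) hLK (finite_fixed_of_conc hLK hcK)
  obtain ⟨e⟩ : Nonempty ((Scheme.Modules.pullback fK.left).obj (bcMod K L) ≅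
      bcMod K ((Scheme.Modules.pullback f.left).obj L)) :=
    ⟨(Scheme.Modules.pullbackComp _ _).app L ≪≫ (Scheme.Modules.pullbackCongr sq.w).app L ≪≫
      ((Scheme.Modules.pullbackComp _ _).app L).symm⟩
  have he : ∀ j, Subsingleton (Coh.HH (bc K A).left ((Scheme.Modules.pullback fK.left).obj (bcMod K L)) j) ↔
      Subsingleton (Coh.HH (bc K A).left (bcMod K ((Scheme.Modules.pullback f.left).obj L)) j) := fun j =>
    (Groth.L17.BC.HHequiv e j).toEquiv.subsingleton_congr
  refine (conc_bcMod_iff K (PicLoc.isInvertible_pullback _ hL) i).1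
    ⟨fun j hj => (he j).1 ((h j).1 (hcK.1 j hj)), ?_⟩
  rw [← not_subsingleton_iff_nontrivial, ← he, ← h, not_subsingleton_iff_nontrivial]
  exact hcK.2

/-- The inverse of a module with concentrated cohomology. -/
theorem conc_inverse [GrpObj A] [GeometricallyIntegral A.hom] {g : ℕ} (hg : topologicalKrullDim ↥A.left = g)
    {L L' : A.left.Modules} (hL : PicF.IsInvertible L) (e : CohB1.tensorMod L L' ≅ Coh.structureModule A.left)
    (hL' : PicF.IsInvertible L') {i : ℕ} (hc : Conc L i) : i ≤ g ∧ Conc L' (g - i) := by
  let K := AlgebraicClosure k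
  let σ := Groth.Agent.AV.TateBaseChange.st (k := k) K
  haveI : Smooth A.hom := Groth.L08.Albanese.smooth_of_geometricallyIntegral A
  haveI : GeometricallyConnected (bc K A).hom := Groth.Agent.AV.Isogeny.geometricallyConnected _
  haveI : Smooth (bc K A).hom := inferInstanceAs (Smooth (pullback.snd A.hom σ))
  letI : A.left.Over (Spec (CommRingCat.of k)) := ⟨A.hom⟩
  haveI : IsProper (A.left ↘ Spec (CommRingCat.of k)) := ‹IsProper A.hom›
  haveI := Groth.L21.RR.isNoetherian_of_proper (X := A.left) k
  have hig : i ≤ g := by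
    by_contra h
    exact not_subsingleton_iff_nontrivial.2 hc.2
      (Groth.L22.Inter.subsingleton_HH_of_dim hg.le L (not_le.1 h))
  refine ⟨hig, (conc_bcMod_iff K hL' _).1 ?_⟩
  have hgK : topologicalKrullDim ↥(bc K A).left = g :=
    (Groth.Agent.L26.PicSm.dim_baseChange_field k K A.hom (CommRingCat.ofHom (algebraMap k K)) (bc K A).hom
      (pullback.fst A.hom σ) (IsPullback.of_hasPullback A.hom σ)).trans hg
  have hcK := (conc_bcMod_iff K hL i).2 hc
  have hLK : PicF.IsInvertible (bcMod K L) := PicLoc.isInvertible_pullback _ hL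
  have hLK' : PicF.IsInvertible (bcMod K L') := PicLoc.isInvertible_pullback _ hL'
  let eK : CohB1.tensorMod (bcMod K L) (bcMod K L') ≅ Coh.structureModule (bc K A).left :=
    Groth.L29.DC.PullTensor.pullTensor _ L L' ≪≫ (Scheme.Modules.pullback _).mapIso e ≪≫
      Groth.L29.LocFree.pullbackUnitIso _
  letI : (bc K A).left.Over (Spec (CommRingCat.of K)) := ⟨(bc K A).hom⟩
  haveI : IsProper ((bc K A).left ↘ Spec (CommRingCat.of K)) :=
    inferInstanceAs (IsProper (pullback.snd A.hom σ))
  haveI := Groth.L21.RR.isNoetherian_of_proper (X := (bc K A).left) K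
  haveI := fun j => Groth.L16.ProperFinite.finite_HH K (Groth.L18.Ample.isCoh_of_isInvertible hLK) j
  haveI := fun j => Groth.L16.ProperFinite.finite_HH K (Groth.L18.Ample.isCoh_of_isInvertible hLK') j
  have hs : ∀ p, p ≤ g → (Subsingleton (Coh.HH (bc K A).left (bcMod K L) p) ↔
      Subsingleton (Coh.HH (bc K A).left (bcMod K L') (g - p))) := fun p hp => by
    rw [← Module.finrank_zero_iff (R := K), ← Module.finrank_zero_iff (R := K)]
    exact Eq.congr_left (finrank_HH_inverse hgK hLK eK p hp)
  refine ⟨fun j hj => ?_, ?_⟩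
  · by_cases hjg : j ≤ g
    · have := (hs (g - j) (Nat.sub_le g j)).1 (hcK.1 (g - j) (by omega))
      rwa [Nat.sub_sub_self hjg] at this
    · exact Groth.L22.Inter.subsingleton_HH_of_dim hgK.le _ (not_le.1 hjg)
  · rw [← not_subsingleton_iff_nontrivial, ← hs i hig, not_subsingleton_iff_nontrivial]
    exact hcK.2

end Groth.Agent.L26.Mumford
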