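import Groth.Agent.L26.Mumford.RiemannRoch
import Groth.Agent.L26.Mumford.Concentrated
import Groth.Agent.L26.FMInv.DualDim
import Groth.Agent.L26.AbDual.Additive
import Groth.Agent.L26.AbDual.LamPull
import Groth.Agent.L26.Pic0.QuasiSection
import Groth.Agent.L26.AV.DimQF
import Groth.Agent.L26.AV.Hom
import Groth.Agent.L26.Mumford.Jump
import Groth.Agent.L23.AffineMor

/-!
Classifying maps of rigidified families and Euler characteristics.
-/

set_option autoImplicit false
set_option linter.style.haveILetI false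
set_option linter.unusedSectionVars false
set_option maxSynthPendingDepth 3
set_option backward.isDefEq.respectTransparency false
set_option backward.isDefEq.respectTransparency.types false

universe u

open CategoryTheory CategoryTheory.Limits MonoidalCategory CartesianMonoidalCategory MonObj GrpObj AlgebraicGeometry
open Groth.L08.Cube (pc trK)
open Groth.Agent.AV.TateBaseChange (bc)

noncomputable section

namespace Groth.Agent.L26.Mumford

attribute [local instance] Groth.L08.Cube.clMonoid

variable {k : Type u} [Field k]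

set_option synthInstance.maxHeartbeats 400000 in
set_option maxHeartbeats 800000 in
/-- A pullback along a homomorphism that is not finite has Euler characteristic zero. -/
theorem euler_pull_eq_zero {X Y : Over (Spec (CommRingCat.of k))} [GrpObj X] [IsProper X.hom]
    [GeometricallyIntegral X.hom] [GrpObj Y] [IsProper Y.hom] [GeometricallyIntegral Y.hom]
    (h : X ⟶ Y) [IsMonHom h] (hf : ¬ IsFinite h.left) {P : Y.left.Modules} (hP : PicF.IsInvertible P) :
    @Curv2.euler k _ X.left ⟨X.hom⟩ ((Scheme.Modules.pullback h.left).obj P) = 0 := by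
  let K := AlgebraicClosure k
  let σ := Groth.Agent.AV.TateBaseChange.st (k := k) K
  haveI : Smooth X.hom := Groth.L08.Albanese.smooth_of_geometricallyIntegral X
  haveI : IsProper (bc K X).hom := inferInstanceAs (IsProper (pullback.snd X.hom σ))
  haveI : IsProper (bc K Y).hom := inferInstanceAs (IsProper (pullback.snd Y.hom σ))
  haveI : GeometricallyIntegral (bc K X).hom := inferInstanceAs (GeometricallyIntegral (pullback.snd X.hom σ))
  haveI : GeometricallyIntegral (bc K Y).hom := inferInstanceAs (GeometricallyIntegral (pullback.snd Y.hom σ))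
  haveI : Flat σ := inferInstance
  let hK : bc K X ⟶ bc K Y := (Over.pullback σ).map h
  haveI : IsMonHom hK := inferInstanceAs (IsMonHom ((Over.pullback σ).map h))
  have sq' : IsPullback (pullback.fst X.hom σ) hK.left h.left (pullback.fst Y.hom σ) := by
    refine IsPullback.of_bot ?_ (pullback.lift_fst _ _ _).symm (IsPullback.of_hasPullback Y.hom σ)
    rw [show hK.left ≫ pullback.snd Y.hom σ = pullback.snd X.hom σ from pullback.lift_snd _ _ _, Over.w h]
    exact IsPullback.of_hasPullback X.hom σ
  haveI : Surjective σ :=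
    ⟨fun x => ⟨IsLocalRing.closedPoint K, Subsingleton.elim (α := PrimeSpectrum k) _ _⟩⟩
  haveI : QuasiCompact σ := inferInstance
  have hq : (@Surjective ⊓ @Flat ⊓ @QuasiCompact : MorphismProperty Scheme.{u}) (pullback.fst Y.hom σ) :=
    ⟨⟨MorphismProperty.pullback_fst (P := @Surjective) _ _ inferInstance,
      MorphismProperty.pullback_fst (P := @Flat) _ _ inferInstance⟩,
      MorphismProperty.pullback_fst (P := @QuasiCompact) _ _ inferInstance⟩
  have hnK : ¬ IsFinite hK.left := fun hh => hf
    (MorphismProperty.of_isPullback_of_descendsAlong (P := @IsFinite)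
      (Q := (@Surjective ⊓ @Flat ⊓ @QuasiCompact : MorphismProperty Scheme.{u})) sq'.flip hq hh)
  have hker : Set.Infinite {a : 𝟙_ (Over (Spec (CommRingCat.of K))) ⟶ bc K X | a ≫ hK = 1} := fun hfin =>
    hnK (Groth.Agent.Pic0.isFinite_of_finite_ker hK hfin)
  haveI : IsCommMonObj (bc K Y) := isCommMonObj_of_isProper_of_geometricallyIntegral (bc K Y)
  let N := (Scheme.Modules.pullback hK.left).obj (bcMod K P)
  have hN : PicF.IsInvertible N := PicLoc.isInvertible_pullback _ (PicLoc.isInvertible_pullback _ hP)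
  have h0 : @Curv2.euler K _ (bc K X).left ⟨(bc K X).hom⟩ N = 0 := by
    refine Groth.Agent.S17505.result K (bc K X) N hN (hker.mono fun a ha => ?_)
    refine (PicGrp.cl_eq_cl_iff _ _).1 ?_
    show PicF.pullCl (trK a).left (PicF.pullCl hK.left (PicF.cl (bcMod K P))) = PicF.pullCl hK.left (PicF.cl (bcMod K P))
    rw [← PicLoc.pullCl_comp, ← Over.comp_left]
    rw [show trK a ≫ hK = hK by
      rw [Groth.L08.Cube.trK, MonObj.mul_comp, Category.id_comp, Category.assoc, show a ≫ hK = 1 from ha,
        MonObj.comp_one, _root_.mul_one]]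
  rw [← euler_bcMod K (PicLoc.isInvertible_pullback h.left hP), ← h0]
  letI : (bc K X).left.Over (Spec (CommRingCat.of K)) := ⟨(bc K X).hom⟩
  exact Groth.L03.Euler.euler_iso ((Scheme.Modules.pullbackComp _ _).app P ≪≫
    (Scheme.Modules.pullbackCongr sq'.w).app P ≪≫ ((Scheme.Modules.pullbackComp _ _).app P).symm)

variable {A B Bt : Over (Spec (CommRingCat.of k))}
  [GrpObj A] [IsProper A.hom] [Smooth A.hom] [GeometricallyConnected A.hom]
  [GrpObj B] [IsProper B.hom] [Smooth B.hom] [GeometricallyConnected B.hom]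
  [GrpObj Bt] [IsProper Bt.hom] [Smooth Bt.hom] [GeometricallyConnected Bt.hom]
  {φ : ∀ T : Over (Spec (CommRingCat.of k)), PicF.Cl (PicF.XT B.hom T) → (T ⟶ Bt)}

set_option synthInstance.maxHeartbeats 400000 in
set_option maxHeartbeats 3200000 in
/-- The Euler characteristic detects isomorphy of the classifying map. -/
theorem natAbs_euler_eq_one_iff (hφ : AbDual.IsDualAV Scheme.fppfPrecoverage B Bt φ)
    (P : (PicF.XT B.hom Bt).Modules) (hP : PicF.IsInvertible P) (hPξ : AbDual.IsPoincareCl B Bt φ (PicF.cl P))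
    {g : ℕ} (hA : topologicalKrullDim ↥A.left = g) (hB : topologicalKrullDim ↥B.left = g)
    (Q : (PicF.XT B.hom A).Modules)
    (hQ0 : AbDual.IsPicZeroCl B.hom A (PicF.cl Q))
    (hQB : PicF.IsTrivialCl (PicF.pullCl (PicF.secT B.hom η[B].left (Over.w η[B]) A) (PicF.cl Q)))
    (hQA : PicF.IsTrivialCl (PicF.pullCl (PicF.XTmap B.hom η[A]) (PicF.cl Q))) :
    (@Curv2.euler k _ (PicF.XT B.hom A) ⟨PicF.XTproj B.hom A ≫ A.hom⟩ Q).natAbs = 1 ↔ IsIso (φ A (PicF.cl Q)) := by
  haveI : GeometricallyIntegral A.hom := geometricallyIntegral_av A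
  haveI : GeometricallyIntegral B.hom := geometricallyIntegral_av B
  haveI : GeometricallyIntegral Bt.hom := geometricallyIntegral_av Bt
  haveI : IsCommMonObj A := isCommMonObj_of_isProper_of_geometricallyIntegral A
  haveI : IsCommMonObj B := isCommMonObj_of_isProper_of_geometricallyIntegral B
  haveI : IsCommMonObj Bt := isCommMonObj_of_isProper_of_geometricallyIntegral Bt
  obtain ⟨hpBA, hgBA⟩ := Groth.L08.Albanese.geometricallyIntegral_tensor B A
  haveI := hpBA
  haveI := hgBA
  obtain ⟨hpBt, hgBt'⟩ := Groth.L08.Albanese.geometricallyIntegral_tensor B Bt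
  haveI := hpBt
  haveI := hgBt'
  haveI : IsCommMonObj (B ⊗ Bt) := isCommMonObj_of_isProper_of_geometricallyIntegral (B ⊗ Bt)
  set f := φ A (PicF.cl Q) with hfdef
  have hgBt : topologicalKrullDim ↥Bt.left = g := (Groth.Agent.L26.FMInv.dim_dual hφ P hPξ).trans hB
  haveI : IsMonHom f := Groth.Agent.AV.isMonHom_of_one f (by
    have h1 : PicF.pullCl (PicF.XTmap B.hom η[A]) (PicF.cl Q) = Groth.Agent.AbDualLib.oneCl _ := hQA
    rw [hfdef, ← hφ.relPic.natural A _ η[A] (PicF.cl Q) hQ0, h1, Groth.Agent.AbDualLib.map_oneCl hφ, one_eq_one])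
  have hpz : AbDual.IsPicZeroCl B.hom A (PicF.pullCl (PicF.XTmap B.hom f) (PicF.cl P)) :=
    Groth.Agent.AbDualLib.isPicZeroCl_XTmap (f := B.hom) f hPξ.1
  let h : B ⊗ A ⟶ B ⊗ Bt := B ◁ f
  have hh : PicF.XTmap B.hom f = h.left := by
    apply pullback.hom_ext
    · rw [PicF.XTmap, pullback.lift_fst]
      exact (congrArg CommaMorphism.left (whiskerLeft_fst B f)).symm
    · rw [PicF.XTmap, pullback.lift_snd]
      exact (congrArg CommaMorphism.left (whiskerLeft_snd B f)).symm
  have hcl : PicF.cl Q = PicF.cl ((Scheme.Modules.pullback h.left).obj P) := by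
    show _ = PicF.pullCl h.left (PicF.cl P)
    rw [← hh]
    refine Groth.Agent.AbDualLib.eq_of_map_eq hφ hQ0 hpz hQB ?_ ?_
    · show PicF.pullCl (PicF.secT B.hom η[B].left (Over.w η[B]) A) (PicF.pullCl (PicF.XTmap B.hom f) (PicF.cl P)) = _
      have hsec : PicF.secT B.hom η[B].left (Over.w η[B]) A ≫ PicF.XTmap B.hom f =
          f.left ≫ PicF.secT B.hom η[B].left (Over.w η[B]) Bt := by
        rw [Groth.Agent.AbDualLib.secT_eq_lift, Groth.Agent.AbDualLib.secT_eq_lift, hh, ← Over.comp_left, ← Over.comp_left]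
        congr 1
        apply CartesianMonoidalCategory.hom_ext <;> simp [h, toUnit_unique]
      rw [← PicLoc.pullCl_comp, hsec, PicLoc.pullCl_comp,
        show PicF.pullCl (PicF.secT B.hom η[B].left (Over.w η[B]) Bt) (PicF.cl P) = Groth.Agent.AbDualLib.oneCl _
          from hPξ.2.2, Groth.Agent.AbDualLib.pullCl_oneCl]
    · rw [hφ.relPic.natural Bt A f (PicF.cl P) hPξ.1, hPξ.2.1, Category.comp_id]
  obtain ⟨eQ⟩ := (PicGrp.cl_eq_cl_iff _ _).1 hcl
  letI : (B ⊗ A).left.Over (Spec (CommRingCat.of k)) := ⟨(B ⊗ A).hom⟩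
  have hover : @Curv2.euler k _ (PicF.XT B.hom A) ⟨PicF.XTproj B.hom A ≫ A.hom⟩ Q =
      Curv2.euler k (B ⊗ A).left ((Scheme.Modules.pullback h.left).obj P) := by
    have e : PicF.XTproj B.hom A ≫ A.hom = (B ⊗ A).hom := Over.w (snd B A)
    rw [show (⟨PicF.XTproj B.hom A ≫ A.hom⟩ : (PicF.XT B.hom A).Over (Spec (CommRingCat.of k))) = ⟨(B ⊗ A).hom⟩ from
      congrArg _ e]
    exact @Groth.L03.Euler.euler_iso k _ (B ⊗ A).left ⟨(B ⊗ A).hom⟩ _ _ eQ
  rw [hover]
  have hPe : @Curv2.euler k _ (B ⊗ Bt).left ⟨(B ⊗ Bt).hom⟩ P = (-1 : ℤ) ^ g := by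
    letI : (B ⊗ Bt).left.Over (Spec (CommRingCat.of k)) := ⟨(B ⊗ Bt).hom⟩
    rw [← euler_total hφ P hP hPξ g hB hgBt (Coh.structureModule B.left) (Groth.L18.Ample.isInvertible_structureModule _)]
    refine Groth.L03.Euler.euler_iso (Classical.choice ((PicGrp.cl_eq_cl_iff _ _).1 ?_))
    show (PicF.cl P : PicF.Cl (B ⊗ Bt).left) = PicF.pullCl (fst B Bt).left 1 * (PicF.cl P : PicF.Cl (B ⊗ Bt).left)
    exact ((congrArg (· * _) (Groth.L08.Cube.pullCl_one _)).trans (_root_.one_mul _)).symm
  by_cases hfin : IsFinite h.left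
  · -- the finite case
    haveI := hfin
    haveI : IsSeparated (fst B Bt).left :=
      MorphismProperty.of_isPullback (Groth.L08.Cube.isPullback_prod B Bt).flip (inferInstance : IsSeparated Bt.hom)
    haveI : IsClosedImmersion (lift (toUnit A ≫ η[B]) (𝟙 A)).left := by
      haveI : IsSeparated (snd B A).left :=
        MorphismProperty.of_isPullback (Groth.L08.Cube.isPullback_prod B A) (inferInstance : IsSeparated B.hom)
      haveI : IsClosedImmersion ((lift (toUnit A ≫ η[B]) (𝟙 A)).left ≫ (snd B A).left) := by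
        rw [← Over.comp_left, lift_snd, Over.id_left]
        infer_instance
      exact IsClosedImmersion.of_comp _ (snd B A).left
    haveI : IsSeparated (snd B Bt).left :=
      MorphismProperty.of_isPullback (Groth.L08.Cube.isPullback_prod B Bt) (inferInstance : IsSeparated B.hom)
    haveI : IsFinite f.left := by
      haveI : IsFinite (f.left ≫ (lift (toUnit Bt ≫ η[B]) (𝟙 Bt)).left) := by
        rw [← Over.comp_left, show f ≫ lift (toUnit Bt ≫ η[B]) (𝟙 Bt) = lift (toUnit A ≫ η[B]) (𝟙 A) ≫ h by
          apply CartesianMonoidalCategory.hom_ext <;> simp [h, toUnit_unique], Over.comp_left]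
        infer_instance
      haveI : IsClosedImmersion (lift (toUnit Bt ≫ η[B]) (𝟙 Bt)).left := by
        haveI : IsClosedImmersion ((lift (toUnit Bt ≫ η[B]) (𝟙 Bt)).left ≫ (snd B Bt).left) := by
          rw [← Over.comp_left, lift_snd, Over.id_left]
          infer_instance
        exact IsClosedImmersion.of_comp _ (snd B Bt).left
      exact IsFinite.of_comp f.left (lift (toUnit Bt ≫ η[B]) (𝟙 Bt)).left
    haveI : AlgebraicGeometry.IsIntegral Bt.left := GeometricallyIntegral.isIntegral_of_subsingleton Bt.hom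
    haveI : ConnectedSpace Bt.left := inferInstance
    haveI : Surjective f.left := Groth.Agent.AV.surjective_of_isFinite_of_dim_eq A Bt f (hA.trans hgBt.symm)
    haveI : Flat f.left := Groth.L08.FlatHom.flat_of_surjective A Bt f
    haveI : IsLocallyNoetherian Bt.left := LocallyOfFiniteType.isLocallyNoetherian Bt.hom
    haveI : LocallyOfFinitePresentation f.left := LocallyOfFinitePresentation.iff_locallyOfFiniteType.2 inferInstance
    let d := Scheme.Hom.finrank f.left (Groth.Agent.DegTower.one Bt)
    have hd : ∀ y, Scheme.Hom.finrank f.left y = d := Groth.Agent.LamPull.finrank_const f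
    have hc : IsPullback h.left (snd B A).left (snd B Bt).left f.left :=
      Groth.L08.Cube.isPullback_whiskerLeft B f
    haveI : Flat h.left := MorphismProperty.of_isPullback (P := @Flat) hc.flip ‹_›
    have hdh : ∀ y, h.left.finrank y = d := fun y =>
      (Scheme.Hom.finrank_of_isPullback _ _ _ _ hc.flip y).trans (hd _)
    haveI : IsLocallyNoetherian (B ⊗ Bt).left := LocallyOfFiniteType.isLocallyNoetherian (B ⊗ Bt).hom
    haveI : IsMonHom h := inferInstance
    haveI : IsCommMonObj (B ⊗ A) := isCommMonObj_of_isProper_of_geometricallyIntegral (B ⊗ A)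
    have he := Groth.Agent.Pic0.EulerPull.euler_isogeny h hdh (Groth.L18.Ample.isCoh_of_isInvertible hP)
    rw [hPe] at he
    have hiff : (Curv2.euler k (B ⊗ A).left ((Scheme.Modules.pullback h.left).obj P)).natAbs = d := by
      rw [he]; simp [Int.natAbs_mul, Int.natAbs_pow]
    rw [hiff]
    constructor
    · intro hd1
      haveI : IsIso f.left := (Scheme.Hom.isIso_iff_finrank_eq f.left).2 (funext fun y => (hd y).trans hd1)
      haveI : IsIso ((Over.forget (Spec (CommRingCat.of k))).map f) := ‹IsIso f.left›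
      exact isIso_of_reflects_iso f (Over.forget _)
    · intro hiso
      haveI := hiso
      haveI : IsIso f.left := inferInstanceAs (IsIso ((Over.forget _).map f))
      exact congrFun ((Scheme.Hom.isIso_iff_finrank_eq f.left).1 inferInstance) _
  · haveI : IsMonHom h := inferInstance
    rw [euler_pull_eq_zero h hfin hP]
    simp only [Int.natAbs_zero, zero_ne_one, false_iff]
    intro hiso
    haveI := hiso
    refine hfin ?_
    haveI : IsIso h.left := inferInstanceAs (IsIso ((Over.forget _).map h))
    infer_instance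

end Groth.Agent.L26.Mumford
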