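import Groth.Agent.L26.Mumford.Quaternion
import Groth.Agent.L26.AV.Hom
import Groth.Agent.L08.Albanese.ChowImage

/-!
Powers of modules with concentrated cohomology.
-/

set_option autoImplicit false
set_option linter.style.haveILetI false
set_option linter.unusedSectionVars false
set_option maxSynthPendingDepth 3
set_option backward.isDefEq.respectTransparency false
set_option backward.isDefEq.respectTransparency.types false

universe u

open CategoryTheory CategoryTheory.Limits MonoidalCategory CartesianMonoidalCategory MonObj GrpObj AlgebraicGeometry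
open Groth.L08.Cube (pc trK)
open Groth.Agent.KLMulN (u' bil)
open Groth.Agent.AV.TateBaseChange (bc)

noncomputable section

namespace Groth.Agent.L26.Mumford

attribute [local instance] Groth.L08.Cube.clMonoid

variable {k : Type u} [Field k] {A : Over (Spec (CommRingCat.of k))}

/-- Concentration only depends on the isomorphism class. -/
theorem conc_iff_of_cl_eq [IsProper A.hom] {L N : A.left.Modules} (h : PicF.cl L = PicF.cl N) (i : ℕ) :
    Conc L i ↔ Conc N i := by
  obtain ⟨e⟩ := (PicGrp.cl_eq_cl_iff _ _).1 h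
  have he : ∀ j, Subsingleton (Coh.HH A.left L j) ↔ Subsingleton (Coh.HH A.left N j) := fun j =>
    (Groth.L17.BC.HHequiv e j).toEquiv.subsingleton_congr
  simp only [Conc, ← not_subsingleton_iff_nontrivial, he]

/-- The degree of concentration is unique. -/
theorem conc_unique {X : Scheme.{u}} {L : X.Modules} {i j : ℕ} (hi : Conc L i) (hj : Conc L j) : i = j := by
  by_contra h
  exact not_subsingleton_iff_nontrivial.2 hj.2 (hi.1 j (Ne.symm h))

/-- Two maps into the fourth power agree when their projections do. -/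
theorem proj₄_ext {V : Over (Spec (CommRingCat.of k))} {g h : V ⟶ sq₄ A}
    (e : ∀ j, g ≫ proj₄ A j = h ≫ proj₄ A j) : g = h := by
  apply CartesianMonoidalCategory.hom_ext <;> apply CartesianMonoidalCategory.hom_ext
  · simpa [proj₄, Category.assoc] using e 0
  · simpa [proj₄, Category.assoc] using e 1
  · simpa [proj₄, Category.assoc] using e 2
  · simpa [proj₄, Category.assoc] using e 3

variable [IsAlgClosed k] [GrpObj A] [IsProper A.hom] [GeometricallyIntegral A.hom]

theorem one_comp_fst_snd {C : Type*} [Category C] [CartesianMonoidalCategory C] [BraidedCategory C] {X Y V : C}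
    [GrpObj X] [GrpObj Y] : (1 : V ⟶ X ⊗ Y) ≫ fst X Y = 1 ∧ (1 : V ⟶ X ⊗ Y) ≫ snd X Y = 1 := by
  constructor <;> simp [Hom.one_def]

set_option synthInstance.maxHeartbeats 400000 in
theorem one_comp_proj₄ {V : Over (Spec (CommRingCat.of k))} (j : Fin 4) : (1 : V ⟶ sq₄ A) ≫ proj₄ A j = 1 := by
  obtain ⟨a, b⟩ := one_comp_fst_snd (V := V) (X := sq₂ A) (Y := sq₂ A)
  obtain ⟨c, d⟩ := one_comp_fst_snd (V := V) (X := A) (Y := A)
  match j with
  | 0 => exact (Category.assoc _ _ _).symm.trans ((congrArg (· ≫ fst A A) a).trans c)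
  | 1 => exact (Category.assoc _ _ _).symm.trans ((congrArg (· ≫ snd A A) a).trans d)
  | 2 => exact (Category.assoc _ _ _).symm.trans ((congrArg (· ≫ fst A A) b).trans c)
  | 3 => exact (Category.assoc _ _ _).symm.trans ((congrArg (· ≫ snd A A) b).trans d)

set_option synthInstance.maxHeartbeats 400000 in
set_option maxHeartbeats 3200000 in
/-- Powers of a module with concentrated cohomology, over an algebraically closed field. -/
theorem conc_pow_closed (L : A.left.Modules) (hL : PicF.IsInvertible L) {i : ℕ} (hc : Conc L i) (m : ℕ)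
    (hm : 0 < m) : Conc (CohB1.tensorPow L m) i := by
  haveI : IsCommMonObj A := isCommMonObj_of_isProper_of_geometricallyIntegral A
  haveI : Smooth A.hom := Groth.L08.Albanese.smooth_of_geometricallyIntegral A
  haveI : GeometricallyConnected A.hom := Groth.Agent.AV.Isogeny.geometricallyConnected _
  obtain ⟨x, hx⟩ := exists_symmetric_translate L hL (finite_fixed_of_conc hL hc)
  haveI := Groth.L08.Cube.isIso_trK x
  let Ls : A.left.Modules := (Scheme.Modules.pullback (trK x).left).obj L
  have hLs : PicF.IsInvertible Ls := PicLoc.isInvertible_pullback _ hL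
  have htr : ∀ {N : A.left.Modules}, PicF.IsInvertible N → ∀ j,
      Conc ((Scheme.Modules.pullback (trK x).left).obj N) j ↔ Conc N j := fun {N} hN j => by
    have he : ∀ q, Subsingleton (Coh.HH A.left ((Scheme.Modules.pullback (trK x).left).obj N) q) ↔
        Subsingleton (Coh.HH A.left N q) := fun q => by
      obtain ⟨e⟩ := nonempty_HH_pullback_iso (trK x).left A.hom A.hom (Over.w (trK x)) hN q
      exact e.toEquiv.subsingleton_congr
    simp only [Conc, ← not_subsingleton_iff_nontrivial, he]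
  have hcs : Conc Ls i := (htr hL i).2 hc
  have hs : pc Ls (𝟙 A)⁻¹ = PicF.cl Ls := hx
  -- the power of the symmetric translate
  let Ln : A.left.Modules := CohB1.tensorPow Ls m
  have hLn : PicF.IsInvertible Ln := Groth.L18.Ample.isInvertible_tensorPow hLs m
  have hclLn : PicF.cl Ln = PicF.cl Ls ^ m := Groth.L08.Cube.cl_tensorPow _ _
  suffices hgoal : Conc Ln i by
    refine (htr (Groth.L18.Ample.isInvertible_tensorPow hL m) i).1 ((conc_iff_of_cl_eq ?_ i).1 hgoal)
    rw [hclLn]
    show PicF.pullCl (trK x).left (PicF.cl L) ^ m = PicF.pullCl (trK x).left (PicF.cl (CohB1.tensorPow L m))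
    rw [Groth.L08.Cube.cl_tensorPow]
    let φ : PicF.Cl A.left →* PicF.Cl A.left :=
      { toFun := PicF.pullCl (trK x).left, map_one' := Groth.L08.Cube.pullCl_one _,
        map_mul' := Groth.L08.Cube.pullCl_mul _ }
    exact (map_pow φ (PicF.cl L) m).symm
  obtain ⟨g, -, hg⟩ := Groth.L08.GrpDim.exists_dim A
  have hfin : Set.Finite {y : 𝟙_ (Over (Spec (CommRingCat.of k))) ⟶ A |
      Nonempty ((Scheme.Modules.pullback (𝟙 A * (toUnit A ≫ y)).left).obj Ln ≅ Ln)} := by
    by_contra hinf
    have h0 := Groth.Agent.S17505.result k A Ln hLn hinf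
    rw [Groth.Agent.Pic0.EulerHomog.euler_pow hg Ls Ln hLs m hclLn, mul_eq_zero] at h0
    exact h0.elim (fun h => hm.ne' (by exact_mod_cast (pow_eq_zero_iff'.1 h).1)) (euler_ne_zero_of_conc hLs hcs)
  obtain ⟨r, -, hr⟩ := exists_index hg Ln hLn hfin
  have hcn : Conc Ln r := hr
  suffices hri : r = i from hri ▸ hcn
  -- the fourth power
  haveI h2 := Groth.L08.Albanese.geometricallyIntegral_tensor A A
  haveI : IsProper (sq₂ A).hom := h2.1
  haveI : GeometricallyIntegral (sq₂ A).hom := h2.2
  haveI h4 := Groth.L08.Albanese.geometricallyIntegral_tensor (sq₂ A) (sq₂ A)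
  haveI : IsProper (sq₄ A).hom := h4.1
  haveI : GeometricallyIntegral (sq₄ A).hom := h4.2
  haveI : IsCommMonObj (sq₄ A) := isCommMonObj_of_isProper_of_geometricallyIntegral (sq₄ A)
  obtain ⟨a, b, c, d, hm4⟩ := Nat.sum_four_squares m
  let f : sq₄ A ⟶ sq₄ A := quat (a : ℤ) b c d
  have hsum : (a : ℤ) * a + (b : ℤ) * b + (c : ℤ) * c + (d : ℤ) * d = (m : ℤ) := by
    rw [← hm4]; push_cast; ring
  haveI : IsMonHom f := Groth.Agent.AV.isMonHom_of_one f (proj₄_ext fun j => by
    have hη : η[sq₄ A] = (1 : 𝟙_ _ ⟶ sq₄ A) := one_eq_one _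
    obtain ⟨h0, h1, h2, h3⟩ := quat_proj (A := A) (a : ℤ) b c d
    rw [hη, one_comp_proj₄, Category.assoc]
    match j with
    | 0 => simp [f, h0, comp_row, one_comp_proj₄]
    | 1 => simp [f, h1, comp_row, one_comp_proj₄]
    | 2 => simp [f, h2, comp_row, one_comp_proj₄]
    | 3 => simp [f, h3, comp_row, one_comp_proj₄])
  have hker : Set.Finite {y : 𝟙_ (Over (Spec (CommRingCat.of k))) ⟶ sq₄ A | y ≫ f = 1} := by
    have hS := Groth.Agent.Pic0.finite_preimage_pow (A := A) (n := m) hm
      (Set.finite_singleton (1 : 𝟙_ (Over (Spec (CommRingCat.of k))) ⟶ A))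
    refine ((Set.Finite.pi fun _ : Fin 4 => hS).preimage (f := fun y j => y ≫ proj₄ A j)
      (fun y _ z _ h => proj₄_ext fun j => congrFun h j)).subset fun y hy => ?_
    intro j _
    have hq : ∀ l, y ≫ quat (a : ℤ) b c d ≫ proj₄ A l = 1 := fun l => by
      rw [← Category.assoc, show y ≫ quat (a : ℤ) b c d = 1 from hy, one_comp_proj₄]
    have := pow_eq_one_of_quat (a : ℤ) b c d y hq j
    rw [hsum, zpow_natCast] at this
    exact this
  obtain ⟨_, _⟩ := Groth.Agent.Pic0.isFinite_surjective_of_finite_ker f hker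
  -- the class of the pullback
  let q : (sq₄ A ⟶ A) → Additive (PicF.Cl (sq₄ A).left)ˣ := fun φ => Additive.ofMul (u' Ls hLs φ)
  let β : (sq₄ A ⟶ A) → (sq₄ A ⟶ A) → Additive (PicF.Cl (sq₄ A).left)ˣ := fun φ ψ =>
    Additive.ofMul (bil Ls hLs φ ψ)
  let lft : (sq₄ A ⟶ A) → ((sq₄ A ⟶ A) →* (PicF.Cl (sq₄ A).left)ˣ) := fun ψ =>
    MonoidHom.mk' (fun φ => bil Ls hLs φ ψ) fun φ φ' => Groth.Agent.KLMulN.bil_mul_left Ls hLs φ φ' ψ
  have hq := quadratic_quaternion q β
    (fun φ ψ => by
      show Additive.ofMul (u' Ls hLs (φ * ψ)) = Additive.ofMul (u' Ls hLs φ) + Additive.ofMul (u' Ls hLs ψ) +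
        Additive.ofMul (bil Ls hLs φ ψ)
      rw [← ofMul_mul, ← ofMul_mul, bil, mul_comm _ (u' Ls hLs (φ * ψ) * _), inv_mul_cancel_right])
    (fun φ φ' ψ => congrArg Additive.ofMul (Groth.Agent.KLMulN.bil_mul_left Ls hLs φ φ' ψ))
    (fun φ z => congrArg Additive.ofMul (pc_pow_of_symm Ls hLs hs φ z))
    (fun φ ψ z w => by
      show Additive.ofMul (bil Ls hLs (φ ^ z) (ψ ^ w)) = (z * w) • Additive.ofMul (bil Ls hLs φ ψ)
      rw [← ofMul_zpow, mul_comm z w, zpow_mul]
      refine congrArg Additive.ofMul (((lft (ψ ^ w)).map_zpow φ z).trans ?_)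
      show bil Ls hLs φ (ψ ^ w) ^ z = _
      rw [Groth.Agent.KLMulN.bil_comm Ls hLs φ]
      exact congrArg (· ^ z) (((lft φ).map_zpow ψ w).trans
        (congrArg (· ^ w) (Groth.Agent.KLMulN.bil_comm Ls hLs ψ φ))))
    (proj₄ A) a b c d
  simp only [q, hsum, ← ofMul_mul, ← ofMul_zpow, zpow_natCast] at hq
  have hu := congrArg Units.val (Additive.ofMul.injective hq)
  simp only [Units.val_mul, Units.val_pow_eq_pow_val] at hu
  obtain ⟨h0, h1, h2', h3⟩ := quat_proj (A := A) (a : ℤ) b c d
  have hcl : PicF.cl ((Scheme.Modules.pullback f.left).obj (boxQuad Ls)) = PicF.cl (boxQuad Ln) := by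
    have hpc : ∀ p : sq₄ A ⟶ A, pc Ln p = pc Ls p ^ m := fun p => by
      show PicF.pullCl p.left (PicF.cl Ln) = _
      rw [hclLn]
      let φ : PicF.Cl A.left →* PicF.Cl (sq₄ A).left :=
        { toFun := PicF.pullCl p.left, map_one' := Groth.L08.Cube.pullCl_one _,
          map_mul' := Groth.L08.Cube.pullCl_mul _ }
      exact map_pow φ (PicF.cl Ls) m
    show PicF.pullCl f.left (PicF.cl (boxQuad Ls)) = _
    rw [cl_boxQuad, cl_boxQuad, Groth.L08.Cube.pullCl_mul, Groth.L08.Cube.pullCl_mul, Groth.L08.Cube.pullCl_mul,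
      Groth.L08.Cube.pullCl_pc, Groth.L08.Cube.pullCl_pc, Groth.L08.Cube.pullCl_pc, Groth.L08.Cube.pullCl_pc,
      h0, h1, h2', h3, hpc, hpc, hpc, hpc, ← mul_pow, ← mul_pow, ← mul_pow, ← _root_.mul_assoc, ← _root_.mul_assoc]
    exact hu
  have hb : Conc (boxQuad Ln) (2 * (2 * i)) := (conc_iff_of_cl_eq hcl _).1
    (conc_pull f (isInvertible_boxSq (isInvertible_boxSq hLs)) (conc_boxSq (isInvertible_boxSq hLs) (conc_boxSq hLs hcs)))
  have := conc_unique (conc_boxSq (isInvertible_boxSq hLn) (conc_boxSq hLn hcn)) hb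
  omega

end Groth.Agent.L26.Mumford

namespace Groth.Agent.L26.Mumford

attribute [local instance] Groth.L08.Cube.clMonoid

/-- Powers of a module with concentrated cohomology. -/
theorem conc_pow {k : Type u} [Field k] {A : Over (Spec (CommRingCat.of k))} [GrpObj A] [IsProper A.hom]
    [GeometricallyIntegral A.hom] (L : A.left.Modules) (hL : PicF.IsInvertible L) {i : ℕ} (hc : Conc L i) (m : ℕ)
    (hm : 0 < m) : Conc (CohB1.tensorPow L m) i := by
  let K := AlgebraicClosure k
  let σ := Groth.Agent.AV.TateBaseChange.st (k := k) K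
  haveI : Smooth A.hom := Groth.L08.Albanese.smooth_of_geometricallyIntegral A
  haveI : IsProper (bc K A).hom := inferInstanceAs (IsProper (pullback.snd A.hom σ))
  haveI : GeometricallyIntegral (bc K A).hom := inferInstanceAs (GeometricallyIntegral (pullback.snd A.hom σ))
  refine (conc_bcMod_iff K (Groth.L18.Ample.isInvertible_tensorPow hL m) i).1 ?_
  refine (conc_iff_of_cl_eq ?_ i).1
    (conc_pow_closed (bcMod K L) (PicLoc.isInvertible_pullback _ hL) ((conc_bcMod_iff K hL i).2 hc) m hm)
  let φ : PicF.Cl A.left →* PicF.Cl (bc K A).left :=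
    { toFun := PicF.pullCl (pullback.fst A.hom σ), map_one' := Groth.L08.Cube.pullCl_one _,
      map_mul' := Groth.L08.Cube.pullCl_mul _ }
  show PicF.cl (CohB1.tensorPow (bcMod K L) m) = φ (PicF.cl (CohB1.tensorPow L m))
  rw [Groth.L08.Cube.cl_tensorPow, Groth.L08.Cube.cl_tensorPow]
  exact (map_pow φ (PicF.cl L) m).symm

end Groth.Agent.L26.Mumford
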