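import Groth.Agent.L26.Mumford.RootsApp
import Groth.Agent.L16.Existence.AmpleVanish
import Groth.Agent.L03.Euler.Hilb
import Mathlib.Data.Real.Archimedean

/-!
The index is the number of positive roots of the Hilbert polynomial.
-/

set_option autoImplicit false
set_option linter.style.haveILetI false
set_option linter.unusedSectionVars false
set_option maxSynthPendingDepth 3
set_option backward.isDefEq.respectTransparency false
set_option backward.isDefEq.respectTransparency.types false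

universe u

open CategoryTheory CategoryTheory.Limits MonoidalCategory CartesianMonoidalCategory AlgebraicGeometry
open Groth.Agent.L26.Growth (hd)
open Polynomial

noncomputable section

namespace Groth.Agent.L26.Mumford

attribute [local instance] Groth.L08.Cube.clMonoid

section Roots

/-- The roots in an open interval. -/
def between (P : ℝ[X]) (u v : ℝ) : Multiset ℝ := P.roots.filter fun t => u < t ∧ t < v

theorem between_add_le (P : ℝ[X]) {u w v : ℝ} (h₁ : u ≤ w) (h₂ : w ≤ v) :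
    Multiset.card (between P u w) + Multiset.card (between P w v) ≤ Multiset.card (between P u v) := by
  classical
  rw [← Multiset.card_add, between, between, between, Multiset.filter_add_filter]
  rw [show P.roots.filter (fun t => (u < t ∧ t < w) ∧ (w < t ∧ t < v)) = 0 from
    Multiset.filter_eq_nil.2 fun t _ ht => lt_asymm ht.1.2 ht.2.1, add_zero]
  exact Multiset.card_le_card (Multiset.monotone_filter_right _ fun t ht => by
    rcases ht with ⟨a, b⟩ | ⟨a, b⟩ <;> exact ⟨by linarith, by linarith⟩)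

theorem count_le_between (P : ℝ[X]) {u v τ : ℝ} (h₁ : u < τ) (h₂ : τ < v) :
    P.rootMultiplicity τ ≤ Multiset.card (between P u v) := by
  classical
  rw [← Polynomial.count_roots, ← Multiset.count_filter_of_pos (p := fun t => u < t ∧ t < v) ⟨h₁, h₂⟩]
  exact Multiset.count_le_card _ _

/-- The roots of a shift. -/
theorem roots_comp_shift (P : ℝ[X]) (c : ℝ) : (P.comp (X + C c)).roots = P.roots.map fun t => t - c := by
  classical
  ext t
  rw [show t = (t + c) - c by ring,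
    Multiset.count_map_eq_count' (fun s : ℝ => s - c) _ (fun a b h => sub_left_inj.1 h) (t + c),
    Polynomial.count_roots, Polynomial.count_roots]
  have h := Polynomial.rootMultiplicity_comp_C_mul_X_add_C P 1 c (t + c - c) isUnit_one
  rw [map_one, _root_.one_mul] at h
  rw [h]
  ring_nf

end Roots

variable {k : Type u} [Field k] {A : Over (Spec (CommRingCat.of k))} [IsProper A.hom]

variable [GrpObj A] [GeometricallyIntegral A.hom] [IsAlgClosed k]

section Segment

variable {g : ℕ} (hg : topologicalKrullDim ↥A.left = g) {L H : A.left.Modules}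
  (hL : PicF.IsInvertible L) (hH : CohB1.IsAmple H) {Φ : ℚ[X]}
  (hΦ : ∀ n : ℕ, Φ.eval (n : ℚ) =
    (@Curv2.euler k _ A.left ⟨A.hom⟩ (CohB1.tensorMod L (CohB1.tensorPow H n)) : ℚ))

include hg hL hH hΦ

/-- A concentrated twist is not at a root. -/
theorem eval_ne_zero_of_conc {m : ℕ} (hm : 0 < m) {a i : ℕ} (hc : Conc (fam L H m a) i) :
    (Φ.map (algebraMap ℚ ℝ)).eval ((a : ℝ) / m) ≠ 0 := by
  letI : A.left.Over (Spec (CommRingCat.of k)) := ⟨A.hom⟩
  haveI : IsProper (A.left ↘ Spec (CommRingCat.of k)) := ‹IsProper A.hom›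
  haveI := Groth.L21.RR.isNoetherian_of_proper (X := A.left) k
  intro h0
  have h := abs_eval_mul_pow hg hL hH.1 hΦ hm a hc
  rw [h0, abs_zero, mul_zero, eq_comm, Nat.cast_eq_zero] at h
  haveI := Groth.L16.ProperFinite.finite_HH k (Groth.L18.Ample.isCoh_of_isInvertible (isInvertible_fam hL hH.1 m a)) i
  haveI := hc.2
  exact (Module.finrank_pos (R := k) (M := Coh.HH A.left (fam L H m a) i)).ne' h

set_option maxHeartbeats 1600000 in
/-- One root between two twists. -/
theorem index_le_one {m a b i j : ℕ} (hm : 0 < m) (hab : a < b) (hi : Conc (fam L H m a) i)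
    (hj : Conc (fam L H m b) j) {τ : ℝ} (hτ₁ : (a : ℝ) / m < τ) (hτ₂ : τ < (b : ℝ) / m)
    (hτ : (Φ.map (algebraMap ℚ ℝ)).eval τ = 0)
    (huniq : ∀ t : ℝ, (a : ℝ) / m ≤ t → t ≤ (b : ℝ) / m → (Φ.map (algebraMap ℚ ℝ)).eval t = 0 → t = τ) :
    i ≤ j + (Φ.map (algebraMap ℚ ℝ)).rootMultiplicity τ := by
  obtain ⟨l, rfl⟩ : ∃ l, b = a + l := ⟨b - a, by omega⟩
  have hl : 0 < l := by omega
  have hmQ : (m : ℚ) ≠ 0 := Nat.cast_ne_zero.2 hm.ne'
  have hmR : (0 : ℝ) < m := Nat.cast_pos.2 hm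
  have hlR : (0 : ℝ) < l := Nat.cast_pos.2 hl
  let L₁ := fam L H m a
  let H₁ := CohB1.tensorPow H l
  have hL₁ : PicF.IsInvertible L₁ := isInvertible_fam hL hH.1 m a
  have hH₁ : CohB1.IsAmple H₁ := (Groth.L18.Ample.isAmple_pow_iff hH.1 hl).1 hH
  let Φ₁ : ℚ[X] := C ((m : ℚ) ^ g) * Φ.comp (C ((l : ℚ) / m) * X + C ((a : ℚ) / m))
  have hcl : ∀ x n, PicF.cl L₁ ^ x * PicF.cl H₁ ^ n = PicF.cl (fam L H (m * x) (a * x + l * n)) := fun x n => by
    rw [cl_fam, cl_fam, Groth.L08.Cube.cl_tensorPow, mul_pow, ← pow_mul, ← pow_mul, ← pow_mul, _root_.mul_assoc,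
      ← pow_add]
  have hΦ₁ : ∀ n : ℕ, Φ₁.eval (n : ℚ) =
      (@Curv2.euler k _ A.left ⟨A.hom⟩ (CohB1.tensorMod L₁ (CohB1.tensorPow H₁ n)) : ℚ) := fun n => by
    letI : A.left.Over (Spec (CommRingCat.of k)) := ⟨A.hom⟩
    obtain ⟨e⟩ : Nonempty (CohB1.tensorMod L₁ (CohB1.tensorPow H₁ n) ≅ fam L H m (a + l * n)) := by
      refine (PicGrp.cl_eq_cl_iff _ _).1 ?_
      have h := hcl 1 n
      rw [pow_one, Nat.mul_one, Nat.mul_one] at h
      show PicF.cl L₁ * PicF.cl (CohB1.tensorPow H₁ n) = _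
      rw [Groth.L08.Cube.cl_tensorPow]
      exact h
    rw [Groth.L03.Euler.euler_iso e, euler_fam hg hL hH.1 hΦ hm (a + l * n)]
    simp only [Φ₁, Polynomial.eval_mul, Polynomial.eval_C, Polynomial.eval_comp, Polynomial.eval_add,
      Polynomial.eval_X]
    congr 2
    push_cast
    field_simp
    ring
  set P := Φ.map (algebraMap ℚ ℝ)
  have hP₁ : Φ₁.map (algebraMap ℚ ℝ) = C ((m : ℝ) ^ g) * P.comp (C ((l : ℝ) / m) * X + C ((a : ℝ) / m)) := by
    simp [Φ₁, P, Polynomial.map_comp]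
  have hev : ∀ s : ℝ, (Φ₁.map (algebraMap ℚ ℝ)).eval s = (m : ℝ) ^ g * P.eval ((l : ℝ) / m * s + (a : ℝ) / m) :=
    fun s => by simp [hP₁]
  let τ₁ := ((m : ℝ) * τ - a) / l
  have hτ' : (l : ℝ) / m * τ₁ + (a : ℝ) / m = τ := by simp only [τ₁]; field_simp; ring
  rw [div_lt_iff₀ hmR] at hτ₁
  rw [lt_div_iff₀ hmR, Nat.cast_add] at hτ₂
  have hP0 : P ≠ 0 := fun h => eval_ne_zero_of_conc hg hL hH hΦ hm hi (by
    show P.eval _ = 0
    rw [h, Polynomial.eval_zero])
  have hmult : (Φ₁.map (algebraMap ℚ ℝ)).rootMultiplicity τ₁ = P.rootMultiplicity τ := by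
    have hu : IsUnit ((l : ℝ) / m) := isUnit_iff_ne_zero.2 (div_ne_zero hlR.ne' hmR.ne')
    rw [hP₁, Polynomial.rootMultiplicity_mul, Polynomial.rootMultiplicity_C, Nat.zero_add,
      Polynomial.rootMultiplicity_comp_C_mul_X_add_C _ _ _ _ hu, hτ']
    refine mul_ne_zero (by simp [hm.ne']) fun h => ?_
    have h' := congrArg (fun q => Polynomial.comp q (C ((m : ℝ) / l) * X - C ((a : ℝ) / l))) h
    simp only [Polynomial.comp_assoc, Polynomial.zero_comp, Polynomial.add_comp, Polynomial.mul_comp,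
      Polynomial.C_comp, Polynomial.X_comp] at h'
    rw [show C ((l : ℝ) / m) * (C ((m : ℝ) / l) * X - C ((a : ℝ) / l)) + C ((a : ℝ) / m) = (X : ℝ[X]) by
      rw [mul_sub, ← _root_.mul_assoc, ← map_mul, ← map_mul, show (l : ℝ) / m * (m / l) = 1 by field_simp,
        show (l : ℝ) / m * (a / l) = a / m by field_simp, map_one, _root_.one_mul, sub_add_cancel],
      Polynomial.comp_X] at h'
    exact hP0 h'
  have hc₀ : Conc (fam L₁ H₁ 1 0) i := (conc_iff_of_cl_eq (by
    rw [cl_fam, hcl, Nat.mul_one, Nat.mul_one, Nat.mul_zero, Nat.add_zero]) i).2 hi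
  have hc₁ : Conc (fam L₁ H₁ 1 1) j := (conc_iff_of_cl_eq (by
    rw [cl_fam, hcl, Nat.mul_one, Nat.mul_one, Nat.mul_one]) j).2 hj
  rw [← hmult]
  refine index_le_add hg hL₁ hH₁ hΦ₁ hc₀ hc₁ (div_pos (by linarith) hlR) ((div_lt_one hlR).2 (by linarith))
    (by rw [hev, hτ', hτ, mul_zero]) fun s hs₁ hs₂ hs => ?_
  rw [hev, mul_eq_zero] at hs
  have h := huniq _ (by
      have : (0 : ℝ) ≤ (l : ℝ) / m * s := by positivity
      linarith) (by
      have : (l : ℝ) / m * s ≤ (l : ℝ) / m := mul_le_of_le_one_right (by positivity) hs₂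
      push_cast
      rw [add_div]
      linarith) (hs.resolve_left (pow_ne_zero _ hmR.ne'))
  rw [← hτ'] at h
  exact mul_left_cancel₀ (div_ne_zero hlR.ne' hmR.ne') (add_right_cancel h)

set_option maxHeartbeats 800000 in
/-- The index drops at most by the number of roots in between. -/
theorem index_le_between {m a b i j : ℕ} (hm : 0 < m) (hab : a ≤ b) (hi : Conc (fam L H m a) i)
    (hj : Conc (fam L H m b) j) :
    i ≤ j + Multiset.card (between (Φ.map (algebraMap ℚ ℝ)) ((a : ℝ) / m) ((b : ℝ) / m)) := by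
  classical
  set P := Φ.map (algebraMap ℚ ℝ) with hP
  suffices ∀ n : ℕ, ∀ m a b i j : ℕ, 0 < m → a ≤ b → Conc (fam L H m a) i → Conc (fam L H m b) j →
      (between P ((a : ℝ) / m) ((b : ℝ) / m)).toFinset.card ≤ n →
      i ≤ j + Multiset.card (between P ((a : ℝ) / m) ((b : ℝ) / m)) from this _ m a b i j hm hab hi hj le_rfl
  intro n
  induction n using Nat.strong_induction_on with
  | _ n ih =>
    intro m a b i j hm hab hi hj hn
    have hu := eval_ne_zero_of_conc hg hL hH hΦ hm hi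
    have hv := eval_ne_zero_of_conc hg hL hH hΦ hm hj
    have hP0 : P ≠ 0 := fun h => hu (by rw [← hP, h, Polynomial.eval_zero])
    set u := (a : ℝ) / m with hu'
    set v := (b : ℝ) / m with hv'
    set S := (between P u v).toFinset with hS
    have hmem : ∀ t, t ∈ S ↔ P.eval t = 0 ∧ u < t ∧ t < v := fun t => by
      simp [hS, between, Polynomial.mem_roots hP0]
    have hin : ∀ t, u ≤ t → t ≤ v → P.eval t = 0 → t ∈ S := fun t h₁ h₂ h =>
      (hmem t).2 ⟨h, lt_of_le_of_ne h₁ fun e => hu (e ▸ h), lt_of_le_of_ne h₂ fun e => hv (e ▸ h)⟩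
    rcases S.eq_empty_or_nonempty with hempty | hne
    · have := index_segment hg hL hH hΦ hm hab (fun t h₁ h₂ h => by
        have := hin t h₁ h₂ h
        simp [hempty] at this) hi
      rw [conc_unique this hj]
      exact Nat.le_add_right _ _
    obtain ⟨τ, hτS, hτmin⟩ : ∃ τ ∈ S, ∀ s ∈ S, τ ≤ s := ⟨_, S.min'_mem hne, fun s hs => S.min'_le s hs⟩
    obtain ⟨hτ, hτ₁, hτ₂⟩ := (hmem τ).1 hτS
    have hab' : a < b := by
      rcases lt_or_eq_of_le hab with h | h
      · exact h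
      · exfalso
        have : u = v := by rw [hu', hv', h]
        linarith
    rcases (S.erase τ).eq_empty_or_nonempty with hone | htwo
    · refine (index_le_one hg hL hH hΦ hm hab' hi hj hτ₁ hτ₂ hτ fun t h₁ h₂ h => ?_).trans
        (Nat.add_le_add_left (count_le_between P hτ₁ hτ₂) _)
      by_contra hne'
      have := Finset.mem_erase.2 ⟨hne', hin t h₁ h₂ h⟩
      simp [hone] at this
    obtain ⟨τ', hτ'S, hτ'min⟩ : ∃ τ' ∈ S.erase τ, ∀ s ∈ S.erase τ, τ' ≤ s :=
      ⟨_, (S.erase τ).min'_mem htwo, fun s hs => (S.erase τ).min'_le s hs⟩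
    obtain ⟨hne'', hτ'S'⟩ := Finset.mem_erase.1 hτ'S
    obtain ⟨hτ'0, hτ'₁, hτ'₂⟩ := (hmem τ').1 hτ'S'
    have hττ' : τ < τ' := lt_of_le_of_ne (hτmin _ hτ'S') (Ne.symm hne'')
    obtain ⟨w, hw₁, hw₂⟩ := exists_rat_btwn hττ'
    have hw0 : 0 ≤ w := by
      have h0 : (0 : ℝ) ≤ u := by rw [hu']; positivity
      exact_mod_cast (show (0 : ℝ) ≤ (w : ℝ) by linarith)
    obtain ⟨c, q, hq, hwc⟩ : ∃ c q : ℕ, 0 < q ∧ (w : ℝ) = (c : ℝ) / q := by
      refine ⟨w.num.toNat, w.den, w.den_pos, ?_⟩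
      have h1 : ((w.num.toNat : ℕ) : ℤ) = w.num := Int.toNat_of_nonneg (Rat.num_nonneg.2 hw0)
      have h2 : ((w.num.toNat : ℕ) : ℝ) = ((w.num : ℤ) : ℝ) := by exact_mod_cast congrArg (Int.cast : ℤ → ℝ) h1
      rw [h2, Rat.cast_def]
    have hmq : 0 < m * q := Nat.mul_pos hm hq
    have hqR : (0 : ℝ) < q := Nat.cast_pos.2 hq
    have hmR : (0 : ℝ) < m := Nat.cast_pos.2 hm
    have ea : ((a * q : ℕ) : ℝ) / ((m * q : ℕ) : ℝ) = u := by
      rw [hu']; push_cast; rw [mul_div_mul_right _ _ hqR.ne']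
    have eb : ((b * q : ℕ) : ℝ) / ((m * q : ℕ) : ℝ) = v := by
      rw [hv']; push_cast; rw [mul_div_mul_right _ _ hqR.ne']
    have ec : ((c * m : ℕ) : ℝ) / ((m * q : ℕ) : ℝ) = (w : ℝ) := by
      rw [hwc]; push_cast; rw [mul_comm (c : ℝ), mul_div_mul_left _ _ hmR.ne']
    have hwne : P.eval (w : ℝ) ≠ 0 := fun h => by
      have hm' := hin _ (by linarith) (by linarith) h
      have := hτ'min _ (Finset.mem_erase.2 ⟨hw₁.ne', hm'⟩)
      linarith
    obtain ⟨l, -, hl⟩ := exists_conc_fam hg hL hH.1 hΦ hmq (c * m) (by rw [ec]; exact hwne)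
    have hac : a * q ≤ c * m := by
      have : ((a * q : ℕ) : ℝ) / ((m * q : ℕ) : ℝ) ≤ ((c * m : ℕ) : ℝ) / ((m * q : ℕ) : ℝ) := by
        rw [ea, ec]; linarith
      exact_mod_cast (div_le_div_iff_of_pos_right (Nat.cast_pos.2 hmq)).1 this
    have hcb : c * m ≤ b * q := by
      have : ((c * m : ℕ) : ℝ) / ((m * q : ℕ) : ℝ) ≤ ((b * q : ℕ) : ℝ) / ((m * q : ℕ) : ℝ) := by
        rw [eb, ec]; linarith
      exact_mod_cast (div_le_div_iff_of_pos_right (Nat.cast_pos.2 hmq)).1 this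
    have hcard : ∀ u' v' : ℝ, u ≤ u' → v' ≤ v → (∃ s ∈ S, ¬(u' < s ∧ s < v')) →
        (between P u' v').toFinset.card < n := fun u' v' h₁ h₂ ⟨s, hs, hs'⟩ => by
      refine lt_of_lt_of_le (Finset.card_lt_card (Finset.ssubset_iff_subset_ne.2 ⟨fun t ht => ?_, fun h => ?_⟩)) hn
      · simp only [between, Multiset.mem_toFinset, Multiset.mem_filter, Polynomial.mem_roots hP0] at ht
        exact (hmem t).2 ⟨ht.1, by linarith [ht.2.1], by linarith [ht.2.2]⟩
      · rw [show S = (between P u' v').toFinset from h.symm] at hs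
        simp only [between, Multiset.mem_toFinset, Multiset.mem_filter] at hs
        exact hs' hs.2
    have h₁ := ih _ (hcard u w le_rfl (by linarith) ⟨τ', hτ'S', fun h => by linarith [h.2]⟩) (m * q) (a * q) (c * m) i l
      hmq hac (conc_fam_mul hL hH.1 hi hq) hl (by rw [ea, ec])
    have h₂ := ih _ (hcard w v (by linarith) le_rfl ⟨τ, hτS, fun h => by linarith [h.1]⟩) (m * q) (c * m) (b * q) l j
      hmq hcb hl (conc_fam_mul hL hH.1 hj hq) (by rw [eb, ec])
    rw [ea, ec] at h₁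
    rw [eb, ec] at h₂
    have h₃ := between_add_le P (u := u) (w := (w : ℝ)) (v := v) (by linarith) (by linarith)
    omega

end Segment

end Groth.Agent.L26.Mumford
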