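import Groth.Agent.L08.Cube.LocalTriv
import Groth.Agent.L08.Cube.Inverse
import Groth.Agent.L17.BC.Model

/-!
A line bundle on a first order deformation, trivial on the closed fibre and with a free module of rank one of
sections, is trivial.
-/

set_option autoImplicit false
set_option linter.style.haveILetI false
set_option linter.unusedSectionVars false
set_option maxSynthPendingDepth 3
set_option backward.isDefEq.respectTransparency false
set_option backward.isDefEq.respectTransparency.types false

universe u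

open CategoryTheory CategoryTheory.Limits AlgebraicGeometry TopologicalSpace Opposite
open Groth.L01.FlatCx (Cyc' cls' cls'_surjective)
open Groth.L17.BC (C dL Ub Sec act)
open Groth.L18.Frame (ro)

noncomputable section

namespace Groth.Agent.L26.Mumford

open Groth.L08.Cube

variable {B k : Type u} [CommRing B] [Field k] [Algebra B k] (hk : Function.Surjective (algebraMap B k))
  (hsq : RingHom.ker (algebraMap B k) * RingHom.ker (algebraMap B k) = ⊥)
  {P P₀ : Scheme.{u}} (f : P ⟶ Spec (CommRingCat.of B)) (f₀ : P₀ ⟶ Spec (CommRingCat.of k)) (g₀ : P₀ ⟶ P)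
  (sq : IsPullback g₀ f₀ f (Spec.map (CommRingCat.ofHom (algebraMap B k))))
  (hΓ : Function.Bijective (Coh.toGlobal f₀))

include hk hsq sq in
/-- The closed fibre is the whole space. -/
theorem surjective_closed : Function.Surjective g₀ := by
  haveI : Surjective (Spec.map (CommRingCat.ofHom (algebraMap B k))) := ⟨fun p => ⟨(⊥ : PrimeSpectrum k), by
    refine PrimeSpectrum.ext ?_
    show Ideal.comap (algebraMap B k) ⊥ = p.asIdeal
    haveI hmax : (RingHom.ker (algebraMap B k)).IsMaximal := RingHom.ker_isMaximal_of_surjective _ hk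
    refine hmax.eq_of_le p.2.ne_top ?_
    intro a ha
    have h2 : a * a ∈ p.asIdeal := by
      have h := Ideal.mul_mem_mul ha ha
      rw [hsq] at h
      rw [(Submodule.mem_bot B).1 h]
      exact p.asIdeal.zero_mem
    exact (p.2.mem_or_mem h2).elim id id⟩⟩
  haveI : Surjective g₀ := MorphismProperty.of_isPullback (P := @Surjective) sq.flip inferInstance
  exact g₀.surjective

include hk hsq sq hΓ in
/-- A line bundle with free sections of rank one is trivial. -/
theorem trivial_of_free [IsProper f] [Flat f] [IsNoetherianRing B] {L : P.Modules} (hL : PicF.IsInvertible L)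
    (θ : (Scheme.Modules.pullback g₀).obj L ≅ Coh.structureModule P₀)
    (hH : letI : Module B (Coh.HH P L 0) := Module.compHom _ (Coh.toGlobal f)
      Nonempty (Coh.HH P L 0 ≃ₗ[B] B)) :
    RingHom.ker (algebraMap B k) = ⊥ ∨ Nonempty (L ≅ Coh.structureModule P) := by
  letI : Module B (Coh.HH P L 0) := Module.compHom _ (Coh.toGlobal f)
  haveI : Coh.IsQCoh L := Groth.L21.Extend.isQCoh_of_isInvertible hL
  haveI : CompactSpace P := QuasiCompact.compactSpace_of_compactSpace f
  haveI : P.IsSeparated := ⟨by rw [← terminal.comp_from f]; infer_instance⟩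
  obtain ⟨t, U, hcov, haff⟩ := Groth.L17.BC.exists_affine_cover (X := P)
  obtain ⟨e⟩ := Groth.L17.BC.exists_homology_equiv (Coh.toGlobal f) L U hcov haff 0
  obtain ⟨eB⟩ := hH
  obtain ⟨x, hx⟩ := cls'_surjective (Groth.L17.BC.K (Coh.toGlobal f) L U) 0 ((e.trans eB).symm 1)
  have hxd : dL (Coh.toGlobal f) L U 0 x.1 = 0 := by
    have := x.2
    rw [LinearMap.mem_ker] at this
    have h1 : (ComplexShape.up ℤ).next (0 : ℤ) = 0 + 1 := CochainComplex.next _ _
    rw [h1] at this
    exact (Groth.L17.BC.K_d (Coh.toGlobal f) L U 0 x.1).symm.trans this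
  by_cases hmem : x.1 ∈ RingHom.ker (algebraMap B k) • (⊤ : Submodule B (C (Coh.toGlobal f) L U 0))
  · left
    rw [eq_bot_iff]
    intro a ha
    have hax : a • x.1 = 0 := by
      refine Submodule.smul_induction_on hmem (fun r hr y _ => ?_) fun y z hy hz => by rw [smul_add, hy, hz, add_zero]
      have har : a * r = 0 := by
        have h := Ideal.mul_mem_mul ha hr
        rwa [hsq, Submodule.mem_bot] at h
      rw [smul_smul, har, zero_smul]
    have h0 : a • x = 0 := Subtype.ext hax
    have h1 : a • ((e.trans eB).symm 1) = 0 :=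
      (congrArg (a • ·) hx.symm).trans ((map_smul _ a x).symm.trans ((congrArg _ h0).trans (map_zero _)))
    rw [← map_smul] at h1
    simpa using congrArg (e.trans eB) h1
  · right
    have hcm := Groth.L17.BC.compat_of_isPullback f f₀ g₀ sq
    let tr := Triv.ofIso g₀ L θ
    let y := EC (ρ := Coh.toGlobal f) (Coh.toGlobal f₀) U tr 0 x.1
    have hy : dL (Coh.toGlobal f₀) (Coh.structureModule P₀) (Ub g₀ U) 0 y = 0 := by
      rw [← EC_d, hxd, map_zero]
    have hcov₀ : ⨆ i, Ub g₀ U i = ⊤ := top_unique fun z _ => by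
      obtain ⟨i, hi⟩ := Opens.mem_iSup.1 (hcov.ge (Opens.mem_top (g₀ z)))
      exact Opens.mem_iSup.2 ⟨i, hi⟩
    obtain ⟨σ, hσ⟩ := exists_glue _ _ _ y hy hcov₀
    obtain ⟨r, hr⟩ := hΓ.surjective σ
    have hr0 : r ≠ 0 := fun h => hmem (mem_smul_of_EC_eq_zero U sq hk haff hL θ tr 0 x.1 (funext fun a => by
      show y a = 0
      rw [← hσ a, ← hr, h, map_zero]
      exact map_zero _))
    obtain ⟨b, hb⟩ := hk r⁻¹
    obtain ⟨σ', O, hO, hfr⟩ := exists_frame_of_unit_cycle U hL tr (Coh.toGlobal f) (Coh.toGlobal f₀) hcov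
      (b • x.1) (by rw [map_smul, hxd, smul_zero]) (funext fun a => by
        rw [EC_apply]
        show ro _ (tr.E _ (act (Coh.toGlobal f) (Groth.L17.BC.opn U a.1) b •
          (show Γ(L, Groth.L17.BC.opn U a.1) from x.1 a))) = (1 : Γ(P₀, _))
        rw [tr.smul, Groth.L18.Frame.ro_mul,
          Groth.L17.BC.app_act g₀ _ (Coh.toGlobal f₀) (Groth.L17.BC.preimage_opn g₀ U a.1).ge b _ (hcm b), hb]
        show act (Coh.toGlobal f₀) (Groth.L17.BC.opn (Ub g₀ U) a.1) r⁻¹ *
          (show Γ(P₀, Groth.L17.BC.opn (Ub g₀ U) a.1) from y a) = 1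
        have hya : (show Γ(P₀, Groth.L17.BC.opn (Ub g₀ U) a.1) from y a) = act (Coh.toGlobal f₀) _ r :=
          (hσ a).symm.trans (by rw [← hr]; rfl)
        rw [hya, ← map_mul, inv_mul_cancel₀ hr0, map_one])
    have hOtop : O = ⊤ := top_unique fun p _ => by
      obtain ⟨q, rfl⟩ := surjective_closed hk hsq f f₀ g₀ sq p
      exact hO q
    subst hOtop
    rw [Groth.L18.Frame.rs_self] at hfr
    exact nonempty_iso_of_frame_top hfr

end Groth.Agent.L26.Mumford
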