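import Groth.Agent.L00.TransIsog
import Groth.Agent.L26.AbDual.Bilinear
import Groth.Agent.L26.Pic0.MumfordQuot
import Groth.Agent.L26.AV.Degree
import Groth.Agent.L08.Albanese.ChowImage
import Groth.Agent.S7804

/-!
Families of classes on an abelian variety behaving like a Poincaré class, and the vanishing of the cohomology of
their nontrivial geometric members.
-/

set_option autoImplicit false
set_option linter.style.haveILetI false
set_option linter.unusedSectionVars false
set_option maxSynthPendingDepth 3
set_option backward.isDefEq.respectTransparency false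
set_option backward.isDefEq.respectTransparency.types false

universe u

open CategoryTheory CategoryTheory.Limits MonoidalCategory CartesianMonoidalCategory MonObj GrpObj AlgebraicGeometry
open Groth.Agent.AbDualLib

noncomputable section

namespace Groth.Agent.L26.Mumford

attribute [local instance] Groth.L08.Cube.clMonoid

variable {k : Type u} [Field k]

/-- An abelian variety over a field is geometrically integral. -/
theorem geometricallyIntegral_av (A : Over (Spec (CommRingCat.of k))) [GrpObj A] [Smooth A.hom]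
    [GeometricallyConnected A.hom] : GeometricallyIntegral A.hom := by
  haveI : Subsingleton ↥(Spec (CommRingCat.of k)) := inferInstanceAs (Subsingleton (PrimeSpectrum k))
  haveI : ConnectedSpace A.left := GeometricallyConnected.connectedSpace_of_subsingleton A.hom
  exact Groth.L08.Albanese.geometricallyIntegral_of_smooth A

/-- The properties of a Poincaré class used for the computation of its cohomology: it is a family of nontrivial
primitive classes, parametrised injectively. -/
structure PoincareLike (A Q : Over (Spec (CommRingCat.of k))) [GrpObj A] [GrpObj Q]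
    (c : PicF.Cl (PicF.XT A.hom Q)) : Prop where
  inv : PicF.IsInvertibleCl c
  one : PicF.pullCl (PicF.XTmap A.hom η[Q]) c = oneCl _
  inj : ∀ (T : Over (Spec (CommRingCat.of k))) (t : T ⟶ Q), PicF.pullCl (PicF.XTmap A.hom t) c = oneCl _ → t = 1
  prim : ∀ (K : Type u) [Field K] [IsAlgClosed K] (σ : Spec (CommRingCat.of K) ⟶ Spec (CommRingCat.of k))
    (y : Over.mk σ ⟶ Q) {V : Over (Spec (CommRingCat.of k))} (a b : V ⟶ A) (h : V ⟶ Over.mk σ),
    bil c (a * b) (h ≫ y) = PicGrp.mulCl (bil c a (h ≫ y)) (bil c b (h ≫ y))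

variable {A Q : Over (Spec (CommRingCat.of k))} [GrpObj A] [GrpObj Q] [IsProper A.hom] [Smooth A.hom]
  [GeometricallyConnected A.hom]

/-- A Poincaré class is Poincaré-like. -/
theorem poincareLike_of_isDualAV {φ : ∀ T : Over (Spec (CommRingCat.of k)), PicF.Cl (PicF.XT A.hom T) → (T ⟶ Q)}
    (hQ : AbDual.IsDualAV Scheme.fppfPrecoverage A Q φ) {c : PicF.Cl (PicF.XT A.hom Q)}
    (hc : AbDual.IsPoincareCl A Q φ c) : PoincareLike A Q c := by
  have hp : ∀ {T : Over (Spec (CommRingCat.of k))} (t : T ⟶ Q), φ T (PicF.pullCl (PicF.XTmap A.hom t) c) = t :=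
    fun t => by rw [hQ.relPic.natural Q _ t c hc.1, hc.2.1, Category.comp_id]
  have hr : PicF.pullCl (PicF.secT A.hom η[A].left (Over.w η[A]) Q) c = oneCl _ := hc.2.2
  refine ⟨isInvertibleCl_of_isPicZeroCl hc.1, ?_, fun T t ht => ?_, fun K _ _ σ y V a b h => bil_mul_left hQ hc _ _ _⟩
  · refine eq_of_map_eq hQ (isPicZeroCl_XTmap _ _ hc.1) (isPicZeroCl_oneCl A.hom _) ?_ ?_ ?_
    · exact rig_pullCl _ _ ((congrArg _ hr).trans (pullCl_oneCl _))
    · exact pullCl_oneCl _
    · rw [hp, map_oneCl hQ, Hom.one_def, toUnit_unit, Category.id_comp]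
  · rw [← hp t, ht, map_oneCl hQ]

open Groth.Agent.MumfordQuot in
/-- An abelian variety has a quotient isogeny carrying a Poincaré-like class. -/
theorem exists_poincareLike [IsAlgClosed k] : ∃ (Q : Over (Spec (CommRingCat.of k))) (_ : GrpObj Q) (q : A ⟶ Q)
    (c : PicF.Cl (PicF.XT A.hom Q)), IsProper Q.hom ∧ Smooth Q.hom ∧ GeometricallyConnected Q.hom ∧ IsMonHom q ∧
      IsFinite q.left ∧ Surjective q.left ∧ PoincareLike A Q c := by
  haveI := geometricallyIntegral_av A
  haveI : IsCommMonObj A := isCommMonObj_of_isProper_of_geometricallyIntegral A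
  obtain ⟨L, hLa⟩ := Groth.Agent.AV.Degree.exists_isAmple A
  obtain ⟨Q, _, q, c, _, hp, hgi, hmon, hfin, hflat, hsurj, hc, hcq, hker⟩ :=
    exists_quotient_poincare (A := A) L hLa.1 hLa
  haveI := hp
  haveI := hgi
  haveI := hmon
  haveI := hsurj
  haveI := hflat
  haveI := hfin
  haveI : Smooth Q.hom := Groth.L08.Albanese.smooth_of_geometricallyIntegral Q
  refine ⟨Q, inferInstance, q, c, hp, inferInstance, AV.Isogeny.geometricallyConnected Q.hom, hmon, hfin, hsurj, ?_⟩
  have hbil : ∀ {V : Over (Spec (CommRingCat.of k))} (a b : V ⟶ A),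
      bil c a (b ≫ q) = ((Groth.Agent.KLMulN.bil L hLa.1 a b : (PicF.Cl V.left)ˣ) : PicF.Cl V.left) := fun a b => by
    have h := congrArg (PicF.pullCl (lift a b).left) hcq
    rw [Groth.Agent.MumfordQuot.pullCl_bil, lift_fst, lift_snd] at h
    erw [pullCl_left_comp (lift a b) (A ◁ q)] at h
    rw [lift_whiskerLeft] at h
    exact h
  refine ⟨hc, ?_, fun T t ht => ?_, fun K _ _ σ y V a b h => ?_⟩
  · rw [bil_whiskerLeft, show snd A (𝟙_ _) ≫ η[Q] = (snd A (𝟙_ _) ≫ η[A]) ≫ q by
        rw [Category.assoc, IsMonHom.one_hom], hbil,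
      show snd A (𝟙_ (Over (Spec (CommRingCat.of k)))) ≫ η[A] = 1 by
        rw [Hom.one_def]; exact congrArg (· ≫ η[A]) (toUnit_unique _ _),
      Groth.Agent.MumfordQuot.bil_one_right]
    rfl
  · -- lift along the isogeny
    let T' : Over (Spec (CommRingCat.of k)) := AbDual.ovr T (pullback.fst t.left q.left)
    let j : T' ⟶ T := AbDual.ovrHom T (pullback.fst t.left q.left)
    let z : T' ⟶ A := Over.homMk (pullback.snd t.left q.left) (by
      show pullback.snd t.left q.left ≫ A.hom = pullback.fst t.left q.left ≫ T.hom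
      rw [← Over.w q, ← pullback.condition_assoc, Over.w t])
    have hz : z ≫ q = j ≫ t := Over.OverMorphism.ext pullback.condition.symm
    have h1 : z ≫ q = 1 := by
      refine hker z (Units.ext ?_)
      rw [← hbil, Category.assoc, hz, ← bil_whiskerLeft, XTmap_comp, PicLoc.pullCl_comp, ht]
      exact pullCl_oneCl _
    haveI : Flat (pullback.fst t.left q.left) := inferInstance
    haveI : Surjective (pullback.fst t.left q.left) := inferInstance
    haveI : QuasiCompact (pullback.fst t.left q.left) := inferInstance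
    haveI : Epi (pullback.fst t.left q.left) := by
      haveI := Flat.epi_of_flat_of_surjective (pullback.fst t.left q.left)
      infer_instance
    refine Over.OverMorphism.ext ((cancel_epi (pullback.fst t.left q.left)).1 ?_)
    have h2 : j ≫ t = j ≫ 1 := by rw [← hz, h1, MonObj.comp_one]
    exact congrArg CommaMorphism.left h2
  · haveI : Nonempty ↥(Spec (CommRingCat.of K)) := inferInstanceAs (Nonempty (PrimeSpectrum K))
    haveI : Surjective (pullback.snd q.left y.left) := inferInstance
    haveI : IsFinite (pullback.snd q.left y.left) := inferInstance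
    haveI : Nonempty ↥(Over.mk σ).left := inferInstanceAs (Nonempty (PrimeSpectrum K))
    haveI : Nonempty ↥(pullback q.left y.left) :=
      ⟨((pullback.snd q.left y.left).surjective (Classical.arbitrary _)).choose⟩
    obtain ⟨s, hs⟩ := Groth.L00.TransIsog.exists_point (pullback.snd q.left y.left)
    let z : Over.mk σ ⟶ A := Over.homMk (s ≫ pullback.fst q.left y.left) (by
      show (s ≫ pullback.fst q.left y.left) ≫ A.hom = σ
      rw [← Over.w q, Category.assoc, pullback.condition_assoc, Over.w y, ← Category.assoc, hs]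
      exact Category.id_comp _)
    have hz : z ≫ q = y := Over.OverMorphism.ext (by
      show (s ≫ pullback.fst q.left y.left) ≫ q.left = y.left
      rw [Category.assoc, pullback.condition, ← Category.assoc, hs, Category.id_comp])
    rw [← hz, ← Category.assoc, hbil, hbil, hbil, Groth.Agent.KLMulN.bil_mul_left]
    rfl

/-- The cohomology of a nontrivial primitive geometric member of a family vanishes. -/
theorem vanish_member {c : PicF.Cl (PicF.XT A.hom Q)} (P : (PicF.XT A.hom Q).Modules) (hP : PicF.cl P = c)
    (hPi : PicF.IsInvertible P) {K : Type u} [Field K] [IsAlgClosed K]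
    (σ : Spec (CommRingCat.of K) ⟶ Spec (CommRingCat.of k)) (y : Over.mk σ ⟶ Q)
    (hprim : ∀ {V : Over (Spec (CommRingCat.of k))} (a b : V ⟶ A) (h : V ⟶ Over.mk σ),
      bil c (a * b) (h ≫ y) = PicGrp.mulCl (bil c a (h ≫ y)) (bil c b (h ≫ y)))
    (hy : PicF.pullCl (PicF.XTmap A.hom y) c ≠ oneCl _) (i : ℕ) :
    Subsingleton (Coh.HH (PicF.XT A.hom (Over.mk σ)) ((Scheme.Modules.pullback (PicF.XTmap A.hom y)).obj P) i) := by
  haveI := geometricallyIntegral_av A
  let X := Red.bc σ A
  haveI : IsProper X.hom := inferInstanceAs (IsProper (pullback.snd A.hom σ))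
  haveI : GeometricallyIntegral X.hom := inferInstanceAs (GeometricallyIntegral (pullback.snd A.hom σ))
  let L : X.left.Modules := (Scheme.Modules.pullback (PicF.XTmap A.hom y)).obj P
  have hLi : PicF.IsInvertible L := PicLoc.isInvertible_pullback _ hPi
  have hLc : PicF.cl L = bil c (fst A (Over.mk σ)) (snd A (Over.mk σ) ≫ y) := by
    rw [← bil_whiskerLeft, ← hP]
    rfl
  have hΛ : Nonempty ((Scheme.Modules.pullback μ[X].left).obj L ≅
      CohB1.tensorMod ((Scheme.Modules.pullback (fst X X).left).obj L) ((Scheme.Modules.pullback (snd X X).left).obj L)) := by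
    refine (PicGrp.cl_eq_cl_iff _ _).1 ?_
    show PicF.pullCl μ[X].left (PicF.cl L) =
      PicGrp.mulCl (PicF.pullCl (fst X X).left (PicF.cl L)) (PicF.pullCl (snd X X).left (PicF.cl L))
    let W := Over.mk ((X ⊗ X).hom ≫ σ)
    let h : W ⟶ Over.mk σ := Over.homMk (X ⊗ X).hom rfl
    have key : ∀ a : X ⊗ X ⟶ X, PicF.pullCl a.left (PicF.cl L) = bil c (KLFinite.down σ a) (h ≫ y) := fun a => by
      have e : a.left = (lift (KLFinite.down σ a) h).left := by
        apply pullback.hom_ext
        · show a.left ≫ pullback.fst A.hom σ = (lift (KLFinite.down σ a) h ≫ fst A (Over.mk σ)).left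
          rw [lift_fst]
          rfl
        · show a.left ≫ pullback.snd A.hom σ = (lift (KLFinite.down σ a) h ≫ snd A (Over.mk σ)).left
          rw [lift_snd]
          exact Over.w a
      rw [e, hLc]
      refine (AbDualLib.pullCl_bil c (lift (KLFinite.down σ a) h) _ _).trans ?_
      rw [lift_fst, lift_snd_assoc]
    rw [key, key, key, MonObj.mul_eq_mul (M := X), KLFinite.down_mul]
    exact hprim _ _ _
  refine (Groth.Agent.S7804.result K X L hLi hΛ).1 (fun hL => hy ?_) i
  exact (bil_whiskerLeft c y).trans (hLc.symm.trans ((PicGrp.cl_eq_cl_iff _ _).2 hL))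

/-- The cohomology of a nontrivial geometric member of a Poincaré-like family vanishes. -/
theorem vanish_fibre {c : PicF.Cl (PicF.XT A.hom Q)} (hc : PoincareLike A Q c)
    (P : (PicF.XT A.hom Q).Modules) (hP : PicF.cl P = c) (hPi : PicF.IsInvertible P) {K : Type u} [Field K]
    [IsAlgClosed K] (σ : Spec (CommRingCat.of K) ⟶ Spec (CommRingCat.of k)) (y : Over.mk σ ⟶ Q) (hy : y ≠ 1) (i : ℕ) :
    Subsingleton (Coh.HH (PicF.XT A.hom (Over.mk σ)) ((Scheme.Modules.pullback (PicF.XTmap A.hom y)).obj P) i) :=
  vanish_member P hP hPi σ y (fun a b h => hc.prim K σ y a b h) (fun h => hy (hc.inj _ y h)) i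

end Groth.Agent.L26.Mumford
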