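import Groth.Agent.L26.Mumford.Local
import Groth.Agent.L26.Mumford.Fibre
import Groth.Agent.L26.Mumford.Deform
import Groth.Agent.L26.Mumford.Bridge
import Groth.Agent.L26.PicSm.Smooth
import Groth.Agent.L21.Smooth.Scheme
import Groth.Agent.L08.GrpDim
import Groth.Agent.L22.Inter.Fga
import Groth.Agent.L08.Cube.FibreFun

/-!
The local computation of the higher direct images of a Poincaré-like class at the origin, and the Betti numbers
of the structure sheaf of an abelian variety.
-/

set_option autoImplicit false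
set_option linter.style.haveILetI false
set_option linter.unusedSectionVars false
set_option maxSynthPendingDepth 3
set_option backward.isDefEq.respectTransparency false
set_option backward.isDefEq.respectTransparency.types false

universe u

open CategoryTheory CategoryTheory.Limits MonoidalCategory CartesianMonoidalCategory MonObj GrpObj AlgebraicGeometry
open IsLocalRing
open Groth.Agent.AbDualLib (oneCl)
open Groth.L01.FlatCx (bc dd unitEquiv)

noncomputable section

namespace Groth.Agent.L26.Mumford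

/-- Linear equivalences over a ring surjecting onto the scalars are linear over the scalars. -/
theorem nonempty_equiv_of_surjective {R B : Type u} [CommRing R] [CommRing B] [Algebra R B]
    (hs : Function.Surjective (algebraMap R B)) {M N : Type u} [AddCommGroup M] [Module B M] [AddCommGroup N]
    [Module B N] (e : M ≃+ N) (he : ∀ (a : R) (x : M), e (algebraMap R B a • x) = algebraMap R B a • e x) :
    Nonempty (M ≃ₗ[B] N) :=
  ⟨{ e with map_smul' := fun b x => by obtain ⟨a, rfl⟩ := hs b; exact he a x }⟩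

/-- Cohomology of isomorphic modules, linearly over the functions of the base. -/
theorem nonempty_HH_congr {B : Type u} [CommRing B] {Z : Scheme.{u}} (f : Z ⟶ Spec (CommRingCat.of B))
    {M N : Z.Modules} (e : M ≅ N) (i : ℕ) :
    letI : Module B (Coh.HH Z M i) := Module.compHom _ (Coh.toGlobal f)
    letI : Module B (Coh.HH Z N i) := Module.compHom _ (Coh.toGlobal f)
    Nonempty (Coh.HH Z M i ≃ₗ[B] Coh.HH Z N i) := by
  letI : Module B (Coh.HH Z M i) := Module.compHom _ (Coh.toGlobal f)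
  letI : Module B (Coh.HH Z N i) := Module.compHom _ (Coh.toGlobal f)
  exact ⟨{ (Groth.L17.BC.HHequiv e i).toAddEquiv with
    map_smul' := fun a x => (Groth.L17.BC.HHequiv e i).map_smul (Coh.toGlobal f a) x }⟩

variable {k : Type u} [Field k] {A Q : Over (Spec (CommRingCat.of k))}

section Members

variable (P : (PicF.XT A.hom Q).Modules)

/-- The member of the family at a point. -/
abbrev PMod {T : Over (Spec (CommRingCat.of k))} (y : T ⟶ Q) : (PicF.XT A.hom T).Modules :=
  (Scheme.Modules.pullback (PicF.XTmap A.hom y)).obj P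

theorem nonempty_pullback_PMod {T T' : Over (Spec (CommRingCat.of k))} (h : T' ⟶ T) (y : T ⟶ Q) :
    Nonempty ((Scheme.Modules.pullback (PicF.XTmap A.hom h)).obj (PMod P y) ≅ PMod P (h ≫ y)) :=
  ⟨(Scheme.Modules.pullbackComp _ _).app P ≪≫
    (Scheme.Modules.pullbackCongr (Groth.Agent.AbDualLib.XTmap_comp A.hom h y).symm).app P⟩

/-- The model computes the cohomology of the members over affine schemes over the base. -/
theorem nonempty_model_equiv {R B : CommRingCat.{u}} [IsNoetherianRing R] [Algebra R B]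
    (τ : Spec R ⟶ Spec (CommRingCat.of k)) (τ' : Spec B ⟶ Spec (CommRingCat.of k))
    (h : Over.mk τ' ⟶ Over.mk τ) (hh : h.left = Spec.map (CommRingCat.ofHom (algebraMap R B)))
    [IsProper (PicF.XTproj A.hom (Over.mk τ))] (y : Over.mk τ ⟶ Q) [Coh.IsQCoh (PMod P y)]
    (m : Groth.L17.BC.Model (A := R) (PicF.XTproj A.hom (Over.mk τ)) (PMod P y)) (p : ℕ) :
    letI : Module B (Coh.HH (PicF.XT A.hom (Over.mk τ')) (PMod P (h ≫ y)) p) :=
      Module.compHom _ (Coh.toGlobal (A := B) (PicF.XTproj A.hom (Over.mk τ')))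
    Nonempty (((bc B m.L).homology (p : ℤ) : Type u) ≃ₗ[B] Coh.HH (PicF.XT A.hom (Over.mk τ')) (PMod P (h ≫ y)) p) := by
  have sq := Groth.Agent.L26.PicSm.isPullback_XTmap A.hom h
  rw [hh] at sq
  obtain ⟨e⟩ := m.exists_equiv (B := B) (PicF.XTproj A.hom (Over.mk τ')) (PicF.XTmap A.hom h) sq p
  obtain ⟨θ⟩ := nonempty_pullback_PMod P h y
  obtain ⟨e'⟩ := nonempty_HH_congr (B := B) (PicF.XTproj A.hom (Over.mk τ')) θ p
  letI : Module B (Coh.HH (PicF.XT A.hom (Over.mk τ')) (PMod P (h ≫ y)) p) :=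
    Module.compHom _ (Coh.toGlobal (A := B) (PicF.XTproj A.hom (Over.mk τ')))
  letI : Module B (Coh.HH (PicF.XT A.hom (Over.mk τ')) ((Scheme.Modules.pullback (PicF.XTmap A.hom h)).obj (PMod P y)) p) :=
    Module.compHom _ (Coh.toGlobal (A := B) (PicF.XTproj A.hom (Over.mk τ')))
  exact ⟨e ≪≫ₗ e'⟩

end Members

section Origin

variable [GrpObj Q] [IsProper Q.hom] [Smooth Q.hom]

variable (Q) in
/-- The origin. -/
abbrev orig : Q.left := η[Q].left (closedPoint k)

variable (Q) in
/-- The local ring at the origin. -/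
abbrev oRing : CommRingCat.{u} := Q.left.presheaf.stalk (orig Q)

variable (Q) in
/-- The structure map of the local scheme at the origin. -/
abbrev oMap : Spec (oRing Q) ⟶ Spec (CommRingCat.of k) := Q.left.fromSpecStalk (orig Q) ≫ Q.hom

variable (Q) in
/-- The inclusion of the local scheme at the origin. -/
abbrev oPt : Over.mk (oMap Q) ⟶ Q := Over.homMk (Q.left.fromSpecStalk (orig Q)) rfl

variable (Q) in
/-- Evaluation at the origin. -/
theorem exists_ev : ∃ ev : oRing Q ⟶ CommRingCat.of k, Spec.map ev ≫ Q.left.fromSpecStalk (orig Q) = η[Q].left ∧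
    Function.Surjective ev.hom ∧ RingHom.ker ev.hom = maximalIdeal (oRing Q) := by
  let ev : oRing Q ⟶ CommRingCat.of k := Scheme.stalkClosedPointTo η[Q].left
  have hev : Spec.map ev ≫ Q.left.fromSpecStalk (orig Q) = η[Q].left :=
    Scheme.Spec_stalkClosedPointTo_fromSpecStalk η[Q].left
  have hs : Function.Surjective ev.hom := fun c => by
    refine ⟨(Spec.preimage (oMap Q)).hom c, ?_⟩
    have h : Spec.preimage (oMap Q) ≫ ev = 𝟙 (CommRingCat.of k) := by
      apply Spec.map_injective
      rw [Spec.map_comp, Spec.map_preimage, Spec.map_id, ← Category.assoc, hev]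
      exact Over.w η[Q]
    exact ConcreteCategory.congr_hom h c
  exact ⟨ev, hev, hs, eq_maximalIdeal (RingHom.ker_isMaximal_of_surjective _ hs)⟩

theorem isClosed_orig : IsClosed ({orig Q} : Set Q.left) := by
  haveI : IsClosedImmersion η[Q].left := by
    haveI : IsClosedImmersion (η[Q].left ≫ Q.hom) := by
      rw [Over.w η[Q]]
      exact inferInstanceAs (IsClosedImmersion (𝟙 _))
    exact IsClosedImmersion.of_comp η[Q].left Q.hom
  have : ({orig Q} : Set Q.left) = Set.range η[Q].left := by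
    haveI : Subsingleton ↥(Spec (CommRingCat.of k)) := inferInstanceAs (Subsingleton (PrimeSpectrum k))
    haveI : Subsingleton ↥(𝟙_ (Over (Spec (CommRingCat.of k)))).left := inferInstanceAs (Subsingleton (PrimeSpectrum k))
    ext z
    exact ⟨fun h => ⟨_, h.symm⟩, fun ⟨w, hw⟩ => by rw [← hw, orig, Subsingleton.elim w (closedPoint k)]; rfl⟩
  rw [this]
  exact η[Q].left.isClosedEmbedding.isClosed_range

end Origin

variable [GrpObj A] [IsProper A.hom] [Smooth A.hom] [GeometricallyConnected A.hom]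
  [GrpObj Q] [IsProper Q.hom] [Smooth Q.hom]

/-- A member of the family at a trivial point has the trivial class. -/
theorem cl_PMod_eq_one {c : PicF.Cl (PicF.XT A.hom Q)} (hc : PoincareLike A Q c) (P : (PicF.XT A.hom Q).Modules)
    (hP : PicF.cl P = c) {T : Over (Spec (CommRingCat.of k))} (y : T ⟶ Q) (hy : y = 1) :
    Nonempty (PMod P y ≅ Coh.structureModule (PicF.XT A.hom T)) := by
  refine (PicGrp.cl_eq_cl_iff _ _).1 ?_
  show PicF.pullCl _ (PicF.cl P) = oneCl _
  rw [hP, hy, Hom.one_def, Groth.Agent.AbDualLib.XTmap_comp, PicLoc.pullCl_comp, hc.one]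
  exact Groth.Agent.AbDualLib.pullCl_oneCl _

/-- The functions on a base change of the abelian variety to a point. -/
theorem bijective_toGlobal_point {K : Type u} [Field K] (τ : Spec (CommRingCat.of K) ⟶ Spec (CommRingCat.of k)) :
    Nonempty ↥(PicF.XT A.hom (Over.mk τ)) ∧
      Function.Bijective (Coh.toGlobal (A := K) (PicF.XTproj A.hom (Over.mk τ))) := by
  haveI := geometricallyIntegral_av A
  haveI : IsProper (PicF.XTproj A.hom (Over.mk τ)) := inferInstanceAs (IsProper (pullback.snd A.hom τ))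
  haveI : GeometricallyIntegral (PicF.XTproj A.hom (Over.mk τ)) :=
    inferInstanceAs (GeometricallyIntegral (pullback.snd A.hom τ))
  haveI : Nonempty ↥(PicF.XT A.hom (Over.mk τ)) := by
    haveI : IsIntegral (PicF.XT A.hom (Over.mk τ)) :=
      haveI : Subsingleton ↥(Over.mk τ).left := inferInstanceAs (Subsingleton (PrimeSpectrum K))
      haveI : IsIntegral (Over.mk τ).left := inferInstanceAs (IsIntegral (Spec (CommRingCat.of K)))
      GeometricallyIntegral.isIntegral_of_subsingleton (PicF.XTproj A.hom (Over.mk τ))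
    infer_instance
  exact ⟨inferInstance, Groth.L08.Cube.bijective_toGlobal_of_geometric (PicF.XTproj A.hom (Over.mk τ))⟩

variable {c : PicF.Cl (PicF.XT A.hom Q)} (hc : PoincareLike A Q c) (P : (PicF.XT A.hom Q).Modules)
  (hP : PicF.cl P = c) (hPi : PicF.IsInvertible P) (g : ℕ) (hgA : topologicalKrullDim ↥A.left = g)
  (hgQ : topologicalKrullDim ↥Q.left = g)

include hc hP hPi hgA hgQ

set_option maxHeartbeats 1600000 in
set_option synthInstance.maxHeartbeats 200000 in
/-- The cohomology of the family over the local scheme at the origin, and of the structure sheaf. -/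
theorem local_main :
    ∃ (_ : IsNoetherianRing (oRing Q)) (_ : IsProper (PicF.XTproj A.hom (Over.mk (oMap Q))))
      (m : Groth.L17.BC.Model (A := oRing Q) (PicF.XTproj A.hom (Over.mk (oMap Q))) (PMod P (oPt Q))),
      (∀ i : ℤ, i ≠ g → Subsingleton (m.L.homology i : Type u)) ∧
      Nonempty ((m.L.homology (g : ℤ) : Type u) ≃ₗ[oRing Q] oRing Q ⧸ maximalIdeal (oRing Q)) ∧
      ∀ i : ℕ,
        letI : Module k (Coh.HH (PicF.XT A.hom (Over.mk (𝟙 (Spec (CommRingCat.of k)))))
            (Coh.structureModule _) i) :=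
          Module.compHom _ (Coh.toGlobal (A := k) (PicF.XTproj A.hom (Over.mk (𝟙 _))))
        Module.finrank k (Coh.HH (PicF.XT A.hom (Over.mk (𝟙 (Spec (CommRingCat.of k)))))
          (Coh.structureModule _) i) = g.choose i := by
  haveI : IsLocallyNoetherian Q.left := LocallyOfFiniteType.isLocallyNoetherian Q.hom
  haveI hN : IsNoetherianRing (oRing Q) := inferInstanceAs (IsNoetherianRing (Q.left.presheaf.stalk (orig Q)))
  haveI hprop : IsProper (PicF.XTproj A.hom (Over.mk (oMap Q))) := inferInstanceAs (IsProper (pullback.snd A.hom _))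
  haveI : Flat (PicF.XTproj A.hom (Over.mk (oMap Q))) := inferInstanceAs (Flat (pullback.snd A.hom _))
  haveI : IsLocallyNoetherian (Over.mk (oMap Q)).left := inferInstanceAs (IsLocallyNoetherian (Spec (oRing Q)))
  haveI : IsLocallyNoetherian (PicF.XT A.hom (Over.mk (oMap Q))) :=
    LocallyOfFiniteType.isLocallyNoetherian (PicF.XTproj A.hom (Over.mk (oMap Q)))
  have hPi' : PicF.IsInvertible (PMod P (oPt Q)) := PicLoc.isInvertible_pullback _ hPi
  haveI : Coh.IsQCoh (PMod P (oPt Q)) := Groth.L21.Extend.isQCoh_of_isInvertible hPi'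
  obtain ⟨m⟩ := Groth.L17.BC.nonempty_model (A := oRing Q) (PicF.XTproj A.hom (Over.mk (oMap Q))) (PMod P (oPt Q))
    (Groth.L16.ProperFinite.isCoh_of_isInvertible hPi')
    (fun V hV => Groth.L08.Cube.flat_sections (PicF.XTproj A.hom (Over.mk (oMap Q))) hPi' V hV)
  refine ⟨hN, hprop, m, ?_⟩
  haveI hreg : IsRegularLocalRing (oRing Q) := Groth.L21.Smooth.regular_stalk Q.hom _
  have hgR : ringKrullDim (oRing Q) = g := (Groth.L08.GrpDim.ringKrullDim_stalk Q _ isClosed_orig).trans hgQ
  obtain ⟨ev, hev, hevs, hevk⟩ := exists_ev Q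
  letI algk : Algebra (oRing Q) k := ev.hom.toAlgebra
  -- the closed fibre
  let τk : Spec (CommRingCat.of k) ⟶ Spec (CommRingCat.of k) := 𝟙 _
  let hk : Over.mk τk ⟶ Over.mk (oMap Q) := Over.homMk (Spec.map ev) (by
    show Spec.map ev ≫ Q.left.fromSpecStalk (orig Q) ≫ Q.hom = 𝟙 _
    rw [← Category.assoc, hev]
    exact Over.w η[Q])
  have hk1 : hk ≫ oPt Q = 1 := Over.OverMorphism.ext (by
    show Spec.map ev ≫ Q.left.fromSpecStalk (orig Q) = (toUnit (Over.mk τk) ≫ η[Q]).left
    rw [Over.comp_left, Over.toUnit_left]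
    exact hev.trans (Category.id_comp _).symm)
  obtain ⟨θk⟩ := cl_PMod_eq_one hc P hP (hk ≫ oPt Q) hk1
  obtain ⟨_, hΓk⟩ := bijective_toGlobal_point (A := A) τk
  have hclosed : PrimeSpectrum.comap (algebraMap (oRing Q) k) ⊥ = closedPoint (oRing Q) :=
    PrimeSpectrum.ext hevk
  letI : ∀ i : ℕ, Module k (Coh.HH (PicF.XT A.hom (Over.mk τk)) (Coh.structureModule _) i) := fun i =>
    Module.compHom _ (Coh.toGlobal (A := k) (PicF.XTproj A.hom (Over.mk τk)))
  have hbck : ∀ i : ℕ, Nonempty (((bc k m.L).homology (i : ℤ) : Type u) ≃ₗ[k]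
      Coh.HH (PicF.XT A.hom (Over.mk τk)) (Coh.structureModule _) i) := fun i => by
    obtain ⟨e⟩ := nonempty_model_equiv (B := CommRingCat.of k) P (oMap Q) τk hk rfl (oPt Q) m i
    obtain ⟨e'⟩ := nonempty_HH_congr (B := CommRingCat.of k) (PicF.XTproj A.hom (Over.mk τk)) θk i
    exact ⟨e ≪≫ₗ e'⟩
  -- the other fibres
  have hfib : ∀ p : PrimeSpectrum (oRing Q), p ≠ closedPoint (oRing Q) → ∀ i : ℕ, CohIII.dRank m.L i p = 0 := by
    intro p hp i
    let K := AlgebraicClosure p.asIdeal.ResidueField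
    letI : Algebra (oRing Q) K :=
      ((algebraMap p.asIdeal.ResidueField K).comp (algebraMap (oRing Q) p.asIdeal.ResidueField)).toAlgebra
    have hcomap : PrimeSpectrum.comap (algebraMap (oRing Q) K) ⊥ = p := by
      refine PrimeSpectrum.ext ?_
      show RingHom.ker ((algebraMap p.asIdeal.ResidueField K).comp (algebraMap (oRing Q) p.asIdeal.ResidueField)) = _
      rw [RingHom.ker_comp_of_injective _ (RingHom.injective _)]
      exact Ideal.ker_algebraMap_residueField p.asIdeal
    let h : Over.mk (Spec.map (CommRingCat.ofHom (algebraMap (oRing Q) K)) ≫ oMap Q) ⟶ Over.mk (oMap Q) :=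
      Over.homMk (Spec.map (CommRingCat.ofHom (algebraMap (oRing Q) K))) rfl
    have hne : h ≫ oPt Q ≠ 1 := fun e => hp (by
      haveI : Subsingleton ↥(Spec (CommRingCat.of k)) := inferInstanceAs (Subsingleton (PrimeSpectrum k))
      haveI : Subsingleton ↥(𝟙_ (Over (Spec (CommRingCat.of k)))).left := inferInstanceAs (Subsingleton (PrimeSpectrum k))
      have e1 := congrArg (fun u : Over.mk (Spec.map (CommRingCat.ofHom (algebraMap (oRing Q) K)) ≫ oMap Q) ⟶ Q =>
        u.left (⊥ : PrimeSpectrum K)) e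
      simp only [Hom.one_def, Over.comp_left, Over.toUnit_left, Scheme.Hom.comp_apply] at e1
      have e2 : Q.left.fromSpecStalk (orig Q) p = Q.left.fromSpecStalk (orig Q) (closedPoint (oRing Q)) := by
        rw [Scheme.fromSpecStalk_closedPoint, ← hcomap]
        refine e1.trans ?_
        exact congrArg η[Q].left (Subsingleton.elim _ _)
      exact (Q.left.fromSpecStalk (orig Q)).isEmbedding.injective e2)
    haveI := vanish_fibre hc P hP hPi _ (h ≫ oPt Q) hne i
    obtain ⟨e⟩ := nonempty_model_equiv (B := CommRingCat.of K) P (oMap Q) _ h rfl (oPt Q) m i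
    rw [← hcomap, ← Groth.L17.BC.finrank_homology_bc m.L K (i : ℤ)]
    haveI : Subsingleton ((bc K m.L).homology (i : ℤ) : Type u) := e.toEquiv.subsingleton
    exact Module.finrank_zero_of_subsingleton
  -- the amplitude
  have hfin : ∀ i, Module.Finite (oRing Q) (m.L.X i) := fun i => (m.finiteFree i).1
  have hneg : ∀ (p : PrimeSpectrum (oRing Q)) (i : ℤ), i < 0 → CohIII.dRank m.L i p = 0 := fun p i hi =>
    (dRank_eq_zero_iff m.L hfin i p).2 (ModuleCat.subsingleton_of_isZero (m.isZero_T_of_neg _ hi))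
  haveI : CompactSpace ↥(Over.mk τk).left := inferInstanceAs (CompactSpace (PrimeSpectrum k))
  haveI : IsLocallyNoetherian (Over.mk τk).left := inferInstanceAs (IsLocallyNoetherian (Spec (CommRingCat.of k)))
  haveI : CompactSpace ↥(PicF.XT A.hom (Over.mk τk)) :=
    haveI : IsProper (PicF.XTproj A.hom (Over.mk τk)) := inferInstanceAs (IsProper (pullback.snd A.hom τk))
    QuasiCompact.compactSpace_of_compactSpace (PicF.XTproj A.hom (Over.mk τk))
  haveI : IsLocallyNoetherian (PicF.XT A.hom (Over.mk τk)) :=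
    haveI : IsProper (PicF.XTproj A.hom (Over.mk τk)) := inferInstanceAs (IsProper (pullback.snd A.hom τk))
    LocallyOfFiniteType.isLocallyNoetherian (PicF.XTproj A.hom (Over.mk τk))
  haveI : IsNoetherian (PicF.XT A.hom (Over.mk τk)) := {}
  haveI : IsIso (pullback.fst A.hom τk) := inferInstance
  have hdimk : topologicalKrullDim ↥(PicF.XT A.hom (Over.mk τk)) = g :=
    (IsHomeomorph.topologicalKrullDim_eq _ (pullback.fst A.hom τk).homeomorph.isHomeomorph).trans hgA
  have hbig : ∀ i : ℕ, g < i → CohIII.dRank m.L i (closedPoint (oRing Q)) = 0 := fun i hi => by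
    obtain ⟨e⟩ := hbck i
    haveI := Groth.L22.Inter.subsingleton_HH_of_dim hdimk.le (Coh.structureModule (PicF.XT A.hom (Over.mk τk))) hi
    haveI : Subsingleton ((bc k m.L).homology (i : ℤ) : Type u) := e.toEquiv.subsingleton
    rw [← hclosed, ← Groth.L17.BC.finrank_homology_bc m.L k (i : ℤ)]
    exact Module.finrank_zero_of_subsingleton
  have hfib' : ∀ p : PrimeSpectrum (oRing Q), p ≠ closedPoint (oRing Q) → ∀ i : ℤ, CohIII.dRank m.L i p = 0 := by
    intro p hp i
    by_cases hi : i < 0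
    · exact hneg p i hi
    · obtain ⟨n, rfl⟩ : ∃ n : ℕ, i = n := ⟨i.toNat, (Int.toNat_of_nonneg (by omega)).symm⟩
      exact hfib p hp n
  obtain ⟨L, hL, hLz, hT⟩ := exists_bounded m.L m.finiteFree m.top m.isZero_above g fun p i hi => by
    rcases hi with hi | hi
    · exact hneg p i hi
    · obtain ⟨n, rfl⟩ : ∃ n : ℕ, i = n := ⟨i.toNat, (Int.toNat_of_nonneg (by omega)).symm⟩
      by_cases hp : p = closedPoint (oRing Q)
      · exact hp ▸ hbig n (by omega)
      · exact hfib p hp n
  have hLfib : ∀ p : PrimeSpectrum (oRing Q), p ≠ closedPoint (oRing Q) → ∀ i : ℤ, CohIII.dRank L i p = 0 :=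
    fun p hp i => by
      haveI := (dRank_eq_zero_iff m.L hfin i p).1 (hfib' p hp i)
      obtain ⟨e⟩ := hT (ModuleCat.of (oRing Q) p.asIdeal.ResidueField) i
      exact (dRank_eq_zero_iff L (fun i => (hL i).1) i p).2 e.toLinearEquiv.symm.toEquiv.subsingleton
  have hker : ∀ (M : Type u) [AddCommGroup M] [Module (oRing Q) M],
      Nonempty ((CohIII.T m.L 0 (ModuleCat.of (oRing Q) M) : Type u) ≃ₗ[oRing Q]
        LinearMap.ker ((dd L 0 1).lTensor M)) := fun M _ _ => by
    obtain ⟨e⟩ := hT (ModuleCat.of (oRing Q) M) 0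
    obtain ⟨e'⟩ := nonempty_T_zero L (hLz _ (Or.inl (by norm_num))) M
    exact ⟨e.toLinearEquiv ≪≫ₗ e'⟩
  let em : (oRing Q ⧸ maximalIdeal (oRing Q)) ≃ₗ[oRing Q] k :=
    Submodule.quotEquivOfEq _ _ hevk.symm ≪≫ₗ (Algebra.linearMap (oRing Q) k).quotKerEquivOfSurjective hevs
  -- the sections on the closed fibre
  have hm : Nonempty (LinearMap.ker ((dd L 0 1).lTensor (oRing Q ⧸ maximalIdeal (oRing Q))) ≃ₗ[oRing Q]
      oRing Q ⧸ maximalIdeal (oRing Q)) := by
    obtain ⟨e⟩ := hbck 0
    have h1 := Groth.L08.Cube.finrank_HH_zero_structure (PicF.XTproj A.hom (Over.mk τk)) hΓk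
    haveI := Module.finite_of_finrank_eq_succ h1
    obtain ⟨e'⟩ := FiniteDimensional.nonempty_linearEquiv_of_finrank_eq (R := k)
      (M' := k) (h1.trans (Module.finrank_self k).symm)
    obtain ⟨eT⟩ := nonempty_T_equiv m.L 0 k k (e.trans e').toAddEquiv fun a x =>
      ((e.trans e').map_smul (algebraMap (oRing Q) k a) x).trans (Algebra.smul_def a _).symm
    obtain ⟨e0⟩ := hker k
    obtain ⟨e1⟩ := nonempty_ker_congr (dd L 0 1) em
    exact ⟨e1 ≪≫ₗ e0.symm ≪≫ₗ eT ≪≫ₗ em.symm⟩
  -- no deformation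
  have hB : ∀ I : Ideal (oRing Q), maximalIdeal (oRing Q) ^ 2 ≤ I → I ≤ maximalIdeal (oRing Q) →
      Nonempty (LinearMap.ker ((dd L 0 1).lTensor (oRing Q ⧸ I)) ≃ₗ[oRing Q] oRing Q ⧸ I) →
        I = maximalIdeal (oRing Q) := by
    intro I hI2 hIm ⟨eI⟩
    refine le_antisymm hIm ?_
    let B : CommRingCat.{u} := CommRingCat.of (oRing Q ⧸ I)
    letI : Module (oRing Q) ((bc (oRing Q ⧸ I) m.L).homology (0 : ℤ) : Type u) :=
      Module.compHom _ (algebraMap (oRing Q) (oRing Q ⧸ I))
    obtain ⟨eT⟩ := nonempty_T_equiv m.L 0 (oRing Q ⧸ I) ((bc (oRing Q ⧸ I) m.L).homology (0 : ℤ) : Type u)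
      (AddEquiv.refl _) fun a x => rfl
    obtain ⟨e0⟩ := hker (oRing Q ⧸ I)
    obtain ⟨eB⟩ := nonempty_equiv_of_surjective (R := oRing Q) (B := oRing Q ⧸ I) Ideal.Quotient.mk_surjective
      (eT.symm ≪≫ₗ e0 ≪≫ₗ eI).toAddEquiv fun a x =>
        ((eT.symm ≪≫ₗ e0 ≪≫ₗ eI).map_smul a x).trans (Algebra.smul_def a _)
    let evB : B ⟶ CommRingCat.of k := CommRingCat.ofHom (Ideal.Quotient.lift I ev.hom fun a ha =>
      RingHom.mem_ker.1 (hevk.symm ▸ hIm ha : a ∈ RingHom.ker ev.hom))
    letI : Algebra B k := evB.hom.toAlgebra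
    let τB := Spec.map (CommRingCat.ofHom (algebraMap (oRing Q) B)) ≫ oMap Q
    let hBR : Over.mk τB ⟶ Over.mk (oMap Q) :=
      Over.homMk (Spec.map (CommRingCat.ofHom (algebraMap (oRing Q) B))) rfl
    have hfac : CommRingCat.ofHom (algebraMap (oRing Q) B) ≫ evB = ev := rfl
    let hkB : Over.mk τk ⟶ Over.mk τB := Over.homMk (Spec.map evB) (by
      show Spec.map evB ≫ Spec.map _ ≫ oMap Q = 𝟙 _
      rw [← Category.assoc, ← Spec.map_comp, hfac]
      exact Over.w hk)
    have hcomp : hkB ≫ hBR = hk := Over.OverMorphism.ext (by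
      show Spec.map evB ≫ Spec.map _ = Spec.map ev
      rw [← Spec.map_comp, hfac])
    haveI : IsProper (PicF.XTproj A.hom (Over.mk τB)) := inferInstanceAs (IsProper (pullback.snd A.hom τB))
    haveI : Flat (PicF.XTproj A.hom (Over.mk τB)) := inferInstanceAs (Flat (pullback.snd A.hom τB))
    obtain ⟨θB⟩ := nonempty_pullback_PMod P hkB (hBR ≫ oPt Q)
    have hy : hkB ≫ hBR ≫ oPt Q = 1 := by rw [← Category.assoc, hcomp, hk1]
    obtain ⟨θ1⟩ := cl_PMod_eq_one hc P hP (hkB ≫ hBR ≫ oPt Q) hy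
    obtain ⟨eM⟩ := nonempty_model_equiv (B := B) P (oMap Q) τB hBR rfl (oPt Q) m 0
    have sq : IsPullback (PicF.XTmap A.hom hkB) (PicF.XTproj A.hom (Over.mk τk)) (PicF.XTproj A.hom (Over.mk τB))
        (Spec.map (CommRingCat.ofHom (algebraMap B k))) := Groth.Agent.L26.PicSm.isPullback_XTmap A.hom hkB
    rcases trivial_of_free (B := B) (k := k) (fun x => by
          obtain ⟨a, rfl⟩ := hevs x
          exact ⟨Ideal.Quotient.mk I a, rfl⟩) (by
          rw [← le_bot_iff, Ideal.mul_le]
          intro x hx y hy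
          obtain ⟨a, rfl⟩ := Ideal.Quotient.mk_surjective x
          obtain ⟨b, rfl⟩ := Ideal.Quotient.mk_surjective y
          show Ideal.Quotient.mk I a * Ideal.Quotient.mk I b ∈ (⊥ : Ideal B)
          rw [← map_mul, Submodule.mem_bot, Ideal.Quotient.eq_zero_iff_mem]
          refine hI2 ?_
          rw [pow_two, ← hevk]
          exact Ideal.mul_mem_mul (RingHom.mem_ker.2 (RingHom.mem_ker.1 hx)) (RingHom.mem_ker.2 (RingHom.mem_ker.1 hy)))
        (PicF.XTproj A.hom (Over.mk τB)) (PicF.XTproj A.hom (Over.mk τk)) (PicF.XTmap A.hom hkB) sq hΓk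
        (L := PMod P (hBR ≫ oPt Q)) (PicLoc.isInvertible_pullback _ hPi) (θB ≪≫ θ1) ⟨eM.symm ≪≫ₗ eB⟩ with hbot | θ
    · intro a ha
      rw [← Ideal.Quotient.eq_zero_iff_mem]
      have hmem : Ideal.Quotient.mk I a ∈ RingHom.ker (algebraMap B k) :=
        RingHom.mem_ker.1 (hevk.symm ▸ ha : a ∈ RingHom.ker ev.hom)
      rw [hbot] at hmem
      exact (Submodule.mem_bot B).1 hmem
    · have h1 : hBR ≫ oPt Q = 1 := hc.inj _ _ (by
        rw [← hP]
        exact (PicGrp.cl_eq_cl_iff _ _).2 θ)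
      have h2 : Spec.map (CommRingCat.ofHom (algebraMap (oRing Q) B)) ≫ Q.left.fromSpecStalk (orig Q) =
          Spec.map (ev ≫ Spec.preimage (oMap Q) ≫ CommRingCat.ofHom (algebraMap (oRing Q) B)) ≫
            Q.left.fromSpecStalk (orig Q) := by
        refine (congrArg Over.Hom.left h1).trans ?_
        rw [Hom.one_def, Over.comp_left, Over.toUnit_left, Spec.map_comp, Spec.map_comp, Spec.map_preimage]
        simp only [Category.assoc, hev]
        rfl
      have h3 := Spec.map_injective ((cancel_mono (Q.left.fromSpecStalk (orig Q))).1 h2)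
      intro a ha
      rw [← Ideal.Quotient.eq_zero_iff_mem]
      have h0 : ev.hom a = 0 := RingHom.mem_ker.1 (hevk.symm ▸ ha : a ∈ RingHom.ker ev.hom)
      refine (ConcreteCategory.congr_hom h3 a).trans ?_
      show algebraMap (oRing Q) B ((Spec.preimage (oMap Q)).hom (ev.hom a)) = 0
      rw [h0, map_zero, map_zero]
  -- conclusion
  have hhom : ∀ i, Nonempty ((m.L.homology i : Type u) ≃ₗ[oRing Q] (L.homology i : Type u)) := fun i => by
    obtain ⟨e⟩ := hT (ModuleCat.of (oRing Q) (oRing Q)) i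
    exact ⟨(unitEquiv m.L i).symm ≪≫ₗ e.toLinearEquiv ≪≫ₗ unitEquiv L i⟩
  refine ⟨fun i hi => ?_, ?_, fun i => ?_⟩
  · obtain ⟨e⟩ := hhom i
    haveI : Subsingleton (L.homology i : Type u) := by
      refine ModuleCat.subsingleton_of_isZero ((HomologicalComplex.exactAt_iff_isZero_homology _ _).1 ?_)
      rcases lt_or_gt_of_ne hi with hlt | hgt
      · exact exactAt_lt L g hgR hL hLz hLfib i hlt
      · exact ShortComplex.exact_of_isZero_X₂ _ (@ModuleCat.isZero_of_subsingleton _ _ _ (hLz i (Or.inr hgt)))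
    exact e.toEquiv.subsingleton
  · obtain ⟨e⟩ := hhom g
    obtain ⟨e'⟩ := nonempty_homology_top L g hgR hL hLz hLfib hm hB
    exact ⟨e ≪≫ₗ e'⟩
  · obtain ⟨e⟩ := hbck i
    rw [← e.finrank_eq]
    by_cases hi : i ≤ g
    · rw [← finrank_closed L g hgR hL hLz hLfib hm hB k hevs i hi]
      obtain ⟨eT⟩ := hT (ModuleCat.of (oRing Q) k) (i : ℤ)
      letI : Module (oRing Q) ((bc k m.L).homology (i : ℤ) : Type u) := Module.compHom _ (algebraMap (oRing Q) k)
      letI : Module (oRing Q) ((bc k L).homology (i : ℤ) : Type u) := Module.compHom _ (algebraMap (oRing Q) k)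
      obtain ⟨e1⟩ := nonempty_T_equiv m.L (i : ℤ) k ((bc k m.L).homology (i : ℤ) : Type u) (AddEquiv.refl _) fun a x => rfl
      obtain ⟨e2⟩ := nonempty_T_equiv L (i : ℤ) k ((bc k L).homology (i : ℤ) : Type u) (AddEquiv.refl _) fun a x => rfl
      obtain ⟨ek⟩ := nonempty_equiv_of_surjective (R := oRing Q) (B := k) hevs
        (e1.symm ≪≫ₗ eT.toLinearEquiv ≪≫ₗ e2).toAddEquiv (e1.symm ≪≫ₗ eT.toLinearEquiv ≪≫ₗ e2).map_smul
      exact ek.finrank_eq
    · rw [Nat.choose_eq_zero_of_lt (not_le.1 hi), Groth.L17.BC.finrank_homology_bc m.L k (i : ℤ), hclosed]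
      exact hbig i (not_le.1 hi)

end Groth.Agent.L26.Mumford
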