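import Groth.Agent.L01.FlatCx.BC
import Groth.Agent.L04.Depth2
import Groth.Agent.L05.Kosz.Tor
import Groth.Agent.L22.PDual.RegVanish
import Groth.Agent.S2064

/-!
Bounded complexes of finite free modules over a regular local ring with homology killed by powers
of the maximal ideal: null homotopies, duals, acyclicity.
-/

set_option autoImplicit false
set_option linter.style.haveILetI false
set_option linter.unusedSectionVars false
set_option backward.isDefEq.respectTransparency false
set_option backward.isDefEq.respectTransparency.types false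

universe u

open CategoryTheory CategoryTheory.Limits IsLocalRing
open Groth.L01.FlatCx (dd dd_dd Cyc' cls' cls'_surjective cls'_eq_zero_iff)

noncomputable section

namespace Groth.Agent.L26.Mumford

variable {R : Type u} [CommRing R]

/-- Exactness at `j` on elements. -/
def Ex (K : CochainComplex (ModuleCat.{u} R) ℤ) (i j k : ℤ) : Prop :=
  ∀ x : K.X j, dd K j k x = 0 → ∃ y : K.X i, dd K i j y = x

/-- Multiplication by `a` is null homotopic on a complex of projectives, exact below the top, on whose top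
homology it vanishes. -/
theorem exists_htpy (K : CochainComplex (ModuleCat.{u} R) ℤ) (hP : ∀ i, Module.Projective R (K.X i)) (t : ℤ)
    (hz : ∀ i, t < i → Subsingleton (K.X i))
    (hex : ∀ i j k, i + 1 = j → j + 1 = k → j < t → Ex K i j k) (a : R)
    (ha : ∀ i, i + 1 = t → ∀ x : K.X t, ∃ y : K.X i, dd K i t y = a • x) :
    ∀ i j k, i + 1 = j → j + 1 = k → j ≤ t →
      ∃ (h : (K.X j : Type u) →ₗ[R] K.X i) (h' : (K.X k : Type u) →ₗ[R] K.X j),
        ∀ x, dd K i j (h x) + h' (dd K j k x) = a • x := by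
  suffices H : ∀ (n : ℕ) (i j k : ℤ), i + 1 = j → j + 1 = k → j + n = t →
      ∃ (h : (K.X j : Type u) →ₗ[R] K.X i) (h' : (K.X k : Type u) →ₗ[R] K.X j),
        ∀ x, dd K i j (h x) + h' (dd K j k x) = a • x from
    fun i j k hij hjk hj => H (t - j).toNat i j k hij hjk (by omega)
  intro n
  induction n with
  | zero =>
    intro i j k hij hjk hn
    obtain rfl : j = t := by simpa using hn
    haveI := hP j
    haveI := hz k (by omega)
    obtain ⟨h, hh⟩ := Module.projective_lifting_property (dd K i j).rangeRestrict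
      (LinearMap.codRestrict (LinearMap.range (dd K i j)) (a • LinearMap.id) fun x => ha i hij x)
      (LinearMap.surjective_rangeRestrict _)
    refine ⟨h, 0, fun x => ?_⟩
    rw [LinearMap.zero_apply, add_zero]
    exact congrArg Subtype.val (LinearMap.congr_fun hh x)
  | succ n ih =>
    intro i j k hij hjk hn
    obtain ⟨h, h', hh⟩ := ih j k (k + 1) hjk rfl (by push_cast at hn; omega)
    haveI := hP j
    have hmem : ∀ x : K.X j, (a • (LinearMap.id : (K.X j : Type u) →ₗ[R] K.X j) - h.comp (dd K j k)) x ∈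
        LinearMap.range (dd K i j) := fun x => by
      refine hex i j k hij hjk (by push_cast at hn; omega) _ ?_
      simp only [LinearMap.sub_apply, LinearMap.smul_apply, LinearMap.id_apply, LinearMap.comp_apply, map_sub,
        map_smul]
      have := hh (dd K j k x)
      rw [dd_dd, map_zero, add_zero] at this
      rw [this, sub_self]
    obtain ⟨u, hu⟩ := Module.projective_lifting_property (dd K i j).rangeRestrict
      (LinearMap.codRestrict (LinearMap.range (dd K i j))
        (a • (LinearMap.id : (K.X j : Type u) →ₗ[R] K.X j) - h.comp (dd K j k)) hmem)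
      (LinearMap.surjective_rangeRestrict _)
    refine ⟨u, h, fun x => ?_⟩
    rw [show dd K i j (u x) = _ from congrArg Subtype.val (LinearMap.congr_fun hu x)]
    simp [LinearMap.codRestrict]

/-- The dual complex: the dual of `K^{-i}` in degree `i`. -/
def dualCx (K : CochainComplex (ModuleCat.{u} R) ℤ) : CochainComplex (ModuleCat.{u} R) ℤ where
  X i := ModuleCat.of R (Module.Dual R (K.X (-i)))
  d i j := ModuleCat.ofHom (dd K (-j) (-i)).dualMap
  shape i j hij := by
    have h : ¬ (ComplexShape.up ℤ).Rel (-j) (-i) := fun h => hij (by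
      show i + 1 = j
      have : -j + 1 = -i := h
      omega)
    refine ModuleCat.hom_ext (LinearMap.ext fun φ => LinearMap.ext fun x => ?_)
    show φ ((K.d (-j) (-i)).hom x) = 0
    rw [K.shape _ _ h]
    exact map_zero φ
  d_comp_d' i j k _ _ := by
    refine ModuleCat.hom_ext (LinearMap.ext fun φ => LinearMap.ext fun x => ?_)
    show φ (dd K (-j) (-i) (dd K (-k) (-j) x)) = 0
    rw [dd_dd, map_zero]

theorem dd_dualCx (K : CochainComplex (ModuleCat.{u} R) ℤ) (i j : ℤ) (φ : Module.Dual R (K.X (-i)))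
    (x : K.X (-j)) : (show Module.Dual R (K.X (-j)) from dd (dualCx K) i j φ) x = φ (dd K (-j) (-i) x) := rfl

/-- A null homotopy of `a` kills the homology of the dual complex. -/
theorem dual_killed (K : CochainComplex (ModuleCat.{u} R) ℤ) (a : R) (i j k : ℤ)
    (h : (K.X (-j) : Type u) →ₗ[R] K.X (-k)) (h' : (K.X (-i) : Type u) →ₗ[R] K.X (-j))
    (hh : ∀ x, dd K (-k) (-j) (h x) + h' (dd K (-j) (-i) x) = a • x)
    (φ : (dualCx K).X j) (hφ : dd (dualCx K) j k φ = 0) :
    ∃ ψ : (dualCx K).X i, dd (dualCx K) i j ψ = a • φ := by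
  let φ' : Module.Dual R (K.X (-j)) := φ
  refine ⟨(φ'.comp h' : Module.Dual R (K.X (-i))), LinearMap.ext fun x => ?_⟩
  show φ' (h' (dd K (-j) (-i) x)) = (a • φ') x
  have h0 : φ' (dd K (-k) (-j) (h x)) = 0 :=
    (dd_dualCx K j k φ' (h x)).symm.trans (LinearMap.congr_fun hφ (h x))
  rw [LinearMap.smul_apply, ← map_smul, ← hh x, map_add, h0, zero_add]

theorem finite_dualCx (K : CochainComplex (ModuleCat.{u} R) ℤ)
    (hK : ∀ i, Module.Finite R (K.X i) ∧ Module.Free R (K.X i)) (i : ℤ) :
    Module.Finite R ((dualCx K).X i) ∧ Module.Free R ((dualCx K).X i) := by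
  haveI := (hK (-i)).1
  haveI := (hK (-i)).2
  exact ⟨inferInstanceAs (Module.Finite R (Module.Dual R (K.X (-i)))),
    inferInstanceAs (Module.Free R (Module.Dual R (K.X (-i))))⟩

/-- The complex shifted by `t`, with unchanged differentials. -/
def reindex (K : CochainComplex (ModuleCat.{u} R) ℤ) (t : ℤ) : CochainComplex (ModuleCat.{u} R) ℤ where
  X i := K.X (t + i)
  d i j := K.d (t + i) (t + j)
  shape i j hij := K.shape _ _ fun h => hij (by
    show i + 1 = j
    have : t + i + 1 = t + j := h
    omega)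
  d_comp_d' i j k _ _ := K.d_comp_d _ _ _

section Local

variable [IsRegularLocalRing R]

/-- Acyclicity. -/
theorem ex_of_killed (K : CochainComplex (ModuleCat.{u} R) ℤ)
    (hK : ∀ i, Module.Finite R (K.X i) ∧ Module.Free R (K.X i)) (t : ℤ) (g : ℕ) (hg : ringKrullDim R = g)
    (hz : ∀ i, t < i ∨ i < t - g → Subsingleton (K.X i))
    (hk : ∀ a ∈ maximalIdeal R, ∀ i j k, i + 1 = j → j + 1 = k → ∀ x : K.X j, dd K j k x = 0 →
      ∃ (n : ℕ) (y : K.X i), dd K i j y = a ^ n • x) :
    ∀ i j k, i + 1 = j → j + 1 = k → j < t → Ex K i j k := by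
  classical
  let C := Groth.L05.Kosz.chainOf (reindex K t)
  have hCex : ∀ m : ℕ, ¬ Ex K (t + -((m + 2 : ℕ) : ℤ)) (t + -((m + 1 : ℕ) : ℤ)) (t + -(m : ℤ)) → ¬ C.ExactAt (m + 1) := by
    intro m hm hex
    refine hm fun x hx => ?_
    have h := (Groth.L28.HomElt.exactAt_iff (K := C) (i := m + 2) (j := m + 1) (k := m)
      ((ComplexShape.down ℕ).prev_eq' rfl) ((ComplexShape.down ℕ).next_eq' rfl)).1 hex x
        (by rw [Groth.L05.Kosz.chainOf_d]; exact hx)
    rw [Groth.L05.Kosz.chainOf_d] at h
    exact h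
  have hall : ∀ m : ℕ, C.ExactAt (m + 1) := by
    have hbig : ∀ j, g < j → IsZero (C.X j) := fun j hj => @ModuleCat.isZero_of_subsingleton _ _ _
      (hz (t + -(j : ℤ)) (Or.inr (by omega)))
    by_contra hne
    obtain ⟨m₀, hm₀⟩ := not_forall.1 hne
    let P : ℕ → Prop := fun j => 0 < j ∧ ¬ C.ExactAt j
    have hPg : ∀ j, P j → j ≤ g := fun j hj => by
      by_contra hc
      exact hj.2 (HomologicalComplex.ExactAt.of_isZero (hbig j (not_le.1 hc)))
    have hfg : P (Nat.findGreatest P g) := Nat.findGreatest_spec (hPg (m₀ + 1) ⟨m₀.succ_pos, hm₀⟩) ⟨m₀.succ_pos, hm₀⟩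
    have habove : ∀ j, Nat.findGreatest P g < j → C.ExactAt j := fun j hj => by
      by_contra hc
      have hPj : P j := ⟨by omega, hc⟩
      exact Nat.findGreatest_is_greatest hj (hPg j hPj) hPj
    obtain ⟨hpos, hnot⟩ := hfg
    haveI hfin : ∀ j, Module.Finite R (C.X j) := fun j => (hK _).1
    have hdepth : ∀ j, j ≤ g → (j : ℕ∞) ≤ LocCoh.depth R (C.X j) := fun j hj => by
      haveI : Module.Finite R (C.X j) := (hK _).1
      haveI : Module.Free R (C.X j) := (hK _).2
      refine le_trans (by exact_mod_cast hj) (Groth.L04.le_idealDepth_free _ (C.X j) (n := g) ?_)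
      exact (Groth.L22.PDual.depth_eq_dim hg).ge
    have h1 := Groth.Agent.S2064.result C g hbig hfin hdepth _ hpos hnot habove
    obtain ⟨m, hm⟩ : ∃ m, Nat.findGreatest P g = m + 1 := ⟨Nat.findGreatest P g - 1, by omega⟩
    rw [hm] at h1 hnot
    haveI : Module.Finite R (C.homology (m + 1)) := by
      haveI := hfin (m + 1)
      haveI := isNoetherian_of_isNoetherianRing_of_finite R (C.X (m + 1))
      haveI : Module.Finite R (Groth.L01.FlatCx.Cyc' C (m + 1)) := Module.Finite.iff_fg.2 (IsNoetherian.noetherian _)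
      exact Module.Finite.of_surjective _ (cls'_surjective C (m + 1))
    refine hnot ((HomologicalComplex.exactAt_iff_isZero_homology _ _).2 (@ModuleCat.isZero_of_subsingleton _ _ _ ?_))
    have hker : ∀ a ∈ maximalIdeal R, ∀ z : C.homology (m + 1), ∃ n : ℕ, a ^ n • z = 0 := by
      intro a ha z
      obtain ⟨x, rfl⟩ := cls'_surjective C (m + 1) z
      have hx : dd C (m + 1) m x.1 = 0 := by
        have h := x.2
        rw [LinearMap.mem_ker, (ComplexShape.down ℕ).next_eq' (rfl : m + 1 = m + 1)] at h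
        exact h
      obtain ⟨n, y, hy⟩ := hk a ha (t + -((m + 2 : ℕ) : ℤ)) (t + -((m + 1 : ℕ) : ℤ)) (t + -(m : ℤ))
        (by push_cast; ring) (by push_cast; ring) x.1 (by
          rw [show dd C (m + 1) m = _ from congrArg ModuleCat.Hom.hom (Groth.L05.Kosz.chainOf_d (reindex K t) m)] at hx
          exact hx)
      refine ⟨n, ?_⟩
      rw [← map_smul, cls'_eq_zero_iff C ((ComplexShape.down ℕ).prev_eq' (rfl : m + 1 + 1 = m + 1 + 1))]
      refine ⟨y, ?_⟩
      rw [show dd C (m + 1 + 1) (m + 1) = _ from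
        congrArg ModuleCat.Hom.hom (Groth.L05.Kosz.chainOf_d (reindex K t) (m + 1))]
      exact hy
    refine subsingleton_of_forall_eq 0 fun z => ?_
    rcases Groth.L04.exists_regular_or_killed (maximalIdeal R) (C.homology (m + 1) : Type u) with
      ⟨r, hr, hreg⟩ | ⟨w, hw, hwk⟩
    · obtain ⟨n, hn⟩ := hker r hr z
      exact (hreg.pow n) (hn.trans (smul_zero _).symm)
    · exact absurd (Groth.L04.hom_zero_of_one_le (I := maximalIdeal R) h1 hwk) hw
  intro i j k hij hjk hj
  obtain ⟨m, rfl⟩ : ∃ m : ℕ, j = t + -((m + 1 : ℕ) : ℤ) := ⟨(t - j - 1).toNat, by omega⟩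
  obtain rfl : i = t + -((m + 2 : ℕ) : ℤ) := by push_cast at hij ⊢; omega
  obtain rfl : k = t + -(m : ℤ) := by push_cast at hjk ⊢; omega
  by_contra hc
  exact hCex m hc (hall m)

end Local

end Groth.Agent.L26.Mumford
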