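import Groth.Agent.L26.Mumford.Sky
import Groth.Agent.L10.FMBC.Point
import Groth.Agent.L07.BvdB.Transfer
import Groth.Agent.L07.StrongGen.Bound
import Groth.Agent.L10.RDerTri
import Groth.Agent.L12.StabLimit
import Groth.Agent.L05.OmegaRank.Free
import Groth.Agent.L02.PicEtale.Basic
import Groth.Agent.L26.FMInv.Generic

/-!
The cohomology of a module with index, read off the transform at the origin.
-/

set_option autoImplicit false
set_option linter.style.haveILetI false
set_option linter.unusedSectionVars false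
set_option maxSynthPendingDepth 3
set_option backward.isDefEq.respectTransparency false
set_option backward.isDefEq.respectTransparency.types false

universe u

open CategoryTheory CategoryTheory.Limits MonoidalCategory CartesianMonoidalCategory MonObj GrpObj AlgebraicGeometry
attribute [local instance] HasDerivedCategory.standard

noncomputable section

namespace Groth.Agent.L26.Mumford

open Groth.L29.DC

/-- Sections of a module of constant rank over the spectrum of a field. -/
theorem finrank_Γ_of_rank {k : Type u} [Field k] {M : (Spec (CommRingCat.of k)).Modules} {n : ℕ}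
    (hM : FlatMod.IsFinLocFreeOfRank n M) :
    Module.finrank k ((moduleSpecΓFunctor (R := CommRingCat.of k)).obj M) = n := by
  obtain ⟨U, hxU, ⟨e⟩⟩ := hM (IsLocalRing.closedPoint k)
  have hU : U = ⊤ := top_unique fun x _ => by
    haveI : Subsingleton ↥(Spec (CommRingCat.of k)) := inferInstanceAs (Subsingleton (PrimeSpectrum k))
    rwa [Subsingleton.elim x (IsLocalRing.closedPoint k)]
  subst hU
  let t : (⊤ : (Spec (CommRingCat.of k)).Opens).toScheme ≅ Spec (CommRingCat.of k) := Scheme.topIso _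
  have ht : t.inv ≫ (⊤ : (Spec (CommRingCat.of k)).Opens).ι = 𝟙 _ := t.inv_hom_id
  let eM : M ≅ FlatMod.freeMod (Spec (CommRingCat.of k)) n :=
    ((Scheme.Modules.pullbackId _).app M).symm ≪≫ (Scheme.Modules.pullbackCongr ht.symm).app M ≪≫
      ((Scheme.Modules.pullbackComp _ _).app M).symm ≪≫
      (Scheme.Modules.pullback t.inv).mapIso (((Scheme.Modules.restrictFunctorIsoPullback _).app M).symm ≪≫ e) ≪≫
      Groth.L29.LocFree.pullbackFreeIso _ n
  haveI : Coh.IsQCoh M := Groth.L29.DC.PCQCoh.isQCoh_of_isFinLocFree (fun x =>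
    let ⟨U, hU, h⟩ := hM x; ⟨U, n, hU, h⟩)
  obtain ⟨b⟩ := (Groth.L05.OmegaRank.tilde_free_iff ((moduleSpecΓFunctor (R := CommRingCat.of k)).obj M) n).1
    ⟨Groth.L18.TildeF.counitIso M ≪≫ eM⟩
  rw [Module.finrank_eq_card_basis b, Fintype.card_fin]

variable {k : Type u} [Field k] {A At : Over (Spec (CommRingCat.of k))}
  [GrpObj A] [IsProper A.hom] [Smooth A.hom] [GeometricallyConnected A.hom]
  [GrpObj At] [IsProper At.hom] [Smooth At.hom] [GeometricallyConnected At.hom]
  {φ : ∀ T : Over (Spec (CommRingCat.of k)), PicF.Cl (PicF.XT A.hom T) → (T ⟶ At)}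

/-- A Poincaré module is trivial on the fibre over the origin. -/
theorem nonempty_fibre_orig (hφ : AbDual.IsDualAV Scheme.fppfPrecoverage A At φ)
    (P : (pullback A.hom At.hom).Modules) (hPξ : AbDual.IsPoincareCl A At φ (PicF.cl P)) (j : A.left ⟶ pullback A.hom At.hom)
    (hj : j ≫ pullback.fst A.hom At.hom = 𝟙 A.left) (hj' : j ≫ pullback.snd A.hom At.hom = A.hom ≫ η[At].left) :
    Nonempty ((Scheme.Modules.pullback j).obj P ≅ Coh.structureModule A.left) := by
  let T := 𝟙_ (Over (Spec (CommRingCat.of k)))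
  obtain ⟨e⟩ := Groth.L02.PicEtale.nonempty_iso_of_cl_eq
    (show PicF.cl ((Scheme.Modules.pullback (PicF.XTmap A.hom η[At])).obj P) = PicF.cl (Coh.structureModule _) from
      (poincareLike_of_isDualAV hφ hPξ).one)
  let σ : A.left ⟶ PicF.XT A.hom T := pullback.lift (𝟙 A.left) A.hom (by
    show 𝟙 A.left ≫ A.hom = A.hom ≫ 𝟙 _
    rw [Category.id_comp, Category.comp_id])
  have hσ : σ ≫ PicF.XTmap A.hom η[At] = j := by
    refine pullback.hom_ext ?_ ?_
    · rw [hj, Category.assoc, PicF.XTmap, pullback.lift_fst, Category.comp_id, pullback.lift_fst]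
    · rw [hj', Category.assoc, PicF.XTmap, pullback.lift_snd, pullback.lift_snd_assoc]
  exact ⟨(Scheme.Modules.pullbackCongr hσ.symm).app P ≪≫ ((Scheme.Modules.pullbackComp σ _).app P).symm ≪≫
    (Scheme.Modules.pullback σ).mapIso e ≪≫ Groth.L29.LocFree.pullbackUnitIso σ⟩

set_option maxHeartbeats 1600000 in
set_option synthInstance.maxHeartbeats 200000 in
/-- The cohomology of a module whose transform is locally free in one degree. -/
theorem finrank_HH_of_index (hφ : AbDual.IsDualAV Scheme.fppfPrecoverage A At φ)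
    (P : (pullback A.hom At.hom).Modules) (hP : PicF.IsInvertible P)
    (hPξ : AbDual.IsPoincareCl A At φ (PicF.cl P))
    [DCoh.HasLpull (pullback.fst A.hom At.hom)] [DCoh.HasLTensorMod P] [DCoh.HasRpush (pullback.snd A.hom At.hom)]
    (F : A.left.Modules) [Coh.IsQCoh F] (i n : ℕ)
    (hvan : ∀ j : ℤ, j ≠ (i : ℤ) →
      IsZero (DCoh.HD ((DCoh.Lpull (pullback.fst A.hom At.hom) ⋙ DCoh.LTensorMod P ⋙
        DCoh.Rpush (pullback.snd A.hom At.hom)).obj (DCoh.inD A.left F)) j))
    (hfree : FlatMod.IsFinLocFreeOfRank n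
      (DCoh.HD ((DCoh.Lpull (pullback.fst A.hom At.hom) ⋙ DCoh.LTensorMod P ⋙
        DCoh.Rpush (pullback.snd A.hom At.hom)).obj (DCoh.inD A.left F)) (i : ℤ))) (p : ℕ) :
    @Module.finrank k (Coh.HH A.left F p) _ _ (@Coh.moduleOver k _ A.left ⟨A.hom⟩ F p) = if p = i then n else 0 := by
  haveI := fun {V W : Scheme.{u}} (f : V ⟶ W) => RpushQC.hasRpush f
  haveI := fun {V W : Scheme.{u}} (f : V ⟶ W) => Groth.L00.KFlat.hasLpull f
  haveI := fun {V : Scheme.{u}} (E : CochainComplex V.Modules ℤ) => Groth.L00.KFlat.hasLTensorCx E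
  haveI := fun {V : Scheme.{u}} (M : V.Modules) => Groth.L00.DerivedApi.hasLTensorMod M
  haveI := Groth.L17.PushQCoh.hasInjectiveResolutions A.left
  let p₁ := pullback.fst A.hom At.hom
  let p₂ := pullback.snd A.hom At.hom
  let x : Spec (CommRingCat.of k) ⟶ At.left := η[At].left
  have hx : x ≫ At.hom = 𝟙 _ := Over.w η[At]
  let j : A.left ⟶ pullback A.hom At.hom := pullback.lift (𝟙 A.left) (A.hom ≫ x) (by
    rw [Category.id_comp, Category.assoc, hx, Category.comp_id])
  have hj : j ≫ p₁ = 𝟙 A.left := pullback.lift_fst _ _ _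
  have hj' : j ≫ p₂ = A.hom ≫ x := pullback.lift_snd _ _ _
  have hc : IsPullback j A.hom p₂ x := by
    refine IsPullback.of_right (h₁₂ := p₁) (v₁₃ := A.hom) (h₂₂ := At.hom) ?_ hj'
      (IsPullback.of_hasPullback A.hom At.hom).flip.flip
    rw [hj, hx]
    exact IsPullback.of_horiz_isIso ⟨by rw [Category.id_comp, Category.comp_id]⟩
  obtain ⟨t⟩ := nonempty_fibre_orig hφ P hPξ j hj hj'
  -- evaluation at the origin
  obtain ⟨ev⟩ := Groth.L10.FMBC.nonempty_point hj hc P hP
  let F' : (DCoh.IsQCohD (X := A.left)).FullSubcategory := ⟨DCoh.inD A.left F, Groth.Lead.LTMod.isQCohD_inD_of ‹_›⟩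
  let E := (DCoh.Lpull p₁ ⋙ DCoh.LTensorMod P ⋙ DCoh.Rpush p₂).obj (DCoh.inD A.left F)
  let H := DCoh.HD E (i : ℤ)
  haveI : E.IsGE (i : ℤ) := (DerivedCategory.isGE_iff _ _).2 fun l hl => hvan l hl.ne
  haveI : E.IsLE (i : ℤ) := (DerivedCategory.isLE_iff _ _).2 fun l hl => hvan l hl.ne'
  obtain ⟨eE⟩ := Groth.L10.exists_iso_single_H E (i : ℤ)
  have hH : FlatMod.IsFinLocFree H := fun y => let ⟨U, hU, h⟩ := hfree y; ⟨U, n, hU, h⟩
  obtain ⟨eH⟩ := Groth.L07.BvdB.nonempty_Lpull_inD x H hH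
  -- the module itself at the fibre
  obtain ⟨c⟩ := Groth.L10.FMBC.nonempty_ltm_congr t
  obtain ⟨lt⟩ := Groth.L07.StrongGen.nonempty_lt_sgl F (Coh.structureModule A.left)
    (Groth.L10.FMBC.isKFlat_S0 (Groth.L18.Ample.isInvertible_structureModule A.left))
  let H₀ := (Scheme.Modules.pullback x).obj H
  letI := Groth.L29.BC.commShiftLpull x
  let e₀ : (DCoh.Rpush A.hom).obj (DCoh.inD A.left F) ≅ (DCoh.inD _ H₀)⟦-(i : ℤ)⟧ :=
    (DCoh.Rpush A.hom).mapIso ((DerivedCategory.singleFunctor A.left.Modules 0).mapIso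
      (Groth.L00.Tensor.tensorUnitRight F).symm ≪≫ lt.symm ≪≫ c.symm.app _) ≪≫ ev.app F' ≪≫
    (DCoh.Lpull x).mapIso (eE ≪≫
      ((((DerivedCategory.singleFunctors At.left.Modules).shiftIso (-(i : ℤ)) (i : ℤ) 0 (by omega)).app H)).symm) ≪≫
    ((DCoh.Lpull x).commShiftIso (-(i : ℤ))).app _ ≪≫ (shiftFunctor _ (-(i : ℤ))).mapIso eH
  let e₁ : (DCoh.Rpush A.hom).obj (DCoh.inD A.left F) ≅
      (DerivedCategory.singleFunctor _ (i : ℤ)).obj H₀ :=
    e₀ ≪≫ ((DerivedCategory.singleFunctors _).shiftIso (-(i : ℤ)) (i : ℤ) 0 (by omega)).app H₀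
  -- cohomology
  haveI := Groth.L17.PushQCoh.additive_push A.hom
  haveI : EnoughInjectives A.left.Modules := (Groth.L10.ModRDer.insts A.left.sheaf).1
  haveI := QRlim.enoughKInj A.left
  obtain ⟨-, hp⟩ := Groth.L10.RDerTri.isGE_single ((DCoh.pushKh A.hom).totalRightDerivedUnit DerivedCategory.Qh
    (HomotopyCategory.quasiIso A.left.Modules (ComplexShape.up ℤ))) F
  let u : (Coh.Rpush A.hom p).obj F ≅ DCoh.HD ((DerivedCategory.singleFunctor _ (i : ℤ)).obj H₀) (p : ℤ) :=
    (hp p).some.symm ≪≫ (DerivedCategory.homologyFunctor _ (p : ℤ)).mapIso e₁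
  letI : Module k (Coh.HH A.left F p) := Module.compHom _ (Coh.toGlobal (A := k) A.hom)
  obtain ⟨θ⟩ := Groth.L17.ProperCoh.nonempty_Γ_Rpush_equiv (R := CommRingCat.of k) A.hom F p
  show Module.finrank k (Coh.HH A.left F p) = _
  rw [(θ ≪≫ₗ ((moduleSpecΓFunctor (R := CommRingCat.of k)).mapIso u).toLinearEquiv).finrank_eq]
  split_ifs with hpi
  · subst hpi
    refine ((moduleSpecΓFunctor (R := CommRingCat.of k)).mapIso
      ((DerivedCategory.singleFunctorCompHomologyFunctorIso _ (p : ℤ)).app H₀)).toLinearEquiv.finrank_eq.trans ?_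
    exact finrank_Γ_of_rank (Groth.L12.StabLimit.isFinLocFreeOfRank_pullback x hfree)
  · haveI : (moduleSpecΓFunctor (R := CommRingCat.of k)).Additive := tilde.adjunction.right_adjoint_additive
    haveI : Subsingleton ((moduleSpecΓFunctor (R := CommRingCat.of k)).obj
        (DCoh.HD ((DerivedCategory.singleFunctor _ (i : ℤ)).obj H₀) (p : ℤ))) :=
      ModuleCat.subsingleton_of_isZero ((moduleSpecΓFunctor (R := CommRingCat.of k)).map_isZero (by
        rcases lt_or_gt_of_ne hpi with h | h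
        · exact DerivedCategory.isZero_of_isGE _ (i : ℤ) (p : ℤ) (by exact_mod_cast h)
        · exact DerivedCategory.isZero_of_isLE _ (i : ℤ) (p : ℤ) (by exact_mod_cast h)))
    exact Module.finrank_zero_of_subsingleton

end Groth.Agent.L26.Mumford
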