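import Groth.Agent.L26.Mumford.Concentrated
import Groth.Agent.L08.Cube.NPull

/-!
The index of a square power.
-/

set_option autoImplicit false
set_option linter.style.haveILetI false
set_option linter.unusedSectionVars false
set_option maxSynthPendingDepth 3
set_option backward.isDefEq.respectTransparency false
set_option backward.isDefEq.respectTransparency.types false

universe u

open CategoryTheory CategoryTheory.Limits MonoidalCategory CartesianMonoidalCategory MonObj GrpObj AlgebraicGeometry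
open Groth.L08.Cube (pc trK)
open Groth.Agent.KLMulN (u')

noncomputable section

namespace Groth.Agent.L26.Mumford

attribute [local instance] Groth.L08.Cube.clMonoid

variable {k : Type u} [Field k] {A : Over (Spec (CommRingCat.of k))} [GrpObj A] [IsCommMonObj A]
  [IsProper A.hom] [GeometricallyIntegral A.hom]

/-- The pairing of the cube is even. -/
theorem bil_inv_inv (L : A.left.Modules) (hL : PicF.IsInvertible L) {V : Over (Spec (CommRingCat.of k))}
    (a b : V ⟶ A) : Groth.Agent.KLMulN.bil L hL a⁻¹ b⁻¹ = Groth.Agent.KLMulN.bil L hL a b := by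
  have h1 : ∀ x y : V ⟶ A, Groth.Agent.KLMulN.bil L hL x⁻¹ y = (Groth.Agent.KLMulN.bil L hL x y)⁻¹ := fun x y =>
    eq_inv_of_mul_eq_one_left
      (by rw [← Groth.Agent.KLMulN.bil_mul_left, inv_mul_cancel, Groth.Agent.KLMulN.bil_one_left])
  rw [h1, Groth.Agent.KLMulN.bil_comm L hL a b⁻¹, h1, _root_.inv_inv, Groth.Agent.KLMulN.bil_comm]

/-- The translates of the antisymmetric part. -/
theorem u'_odd_translate (L : A.left.Modules) (hL : PicF.IsInvertible L)
    (x : 𝟙_ (Over (Spec (CommRingCat.of k))) ⟶ A) [IsAlgClosed k] :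
    u' L hL (trK x) * (u' L hL (trK x)⁻¹)⁻¹ = u' L hL (𝟙 A) * (u' L hL (𝟙 A)⁻¹)⁻¹ := by
  let ψ := toUnit A ≫ x
  have hψ : ∀ y : 𝟙_ (Over (Spec (CommRingCat.of k))) ⟶ A, u' L hL (toUnit A ≫ y) = 1 := fun y =>
    Units.ext (Groth.Agent.Pic0.pc_const L hL y)
  have h : ∀ a b : A ⟶ A, u' L hL (a * b) = Groth.Agent.KLMulN.bil L hL a b * (u' L hL a * u' L hL b) := fun a b => by
    rw [Groth.Agent.KLMulN.bil, inv_mul_cancel_right]
  rw [show trK x = 𝟙 A * ψ from rfl, _root_.mul_inv, h, h, bil_inv_inv, hψ,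
    show ψ⁻¹ = toUnit A ≫ x⁻¹ from (GrpObj.comp_inv _ _).symm, hψ, _root_.mul_one, _root_.mul_one,
    _root_.mul_inv, _root_.mul_mul_mul_comm, mul_inv_cancel, _root_.one_mul]

set_option maxHeartbeats 1600000 in
/-- The index of a square power. -/
theorem index_pow_sq [IsAlgClosed k] [Smooth A.hom] [GeometricallyConnected A.hom] (L : A.left.Modules)
    (hL : PicF.IsInvertible L)
    (hnd : Set.Finite {x : 𝟙_ (Over (Spec (CommRingCat.of k))) ⟶ A |
      Nonempty ((Scheme.Modules.pullback (𝟙 A * (toUnit A ≫ x)).left).obj L ≅ L)}) (m : ℕ) (hm : 1 ≤ m) (j : ℕ) :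
    Subsingleton (Coh.HH A.left L j) ↔ Subsingleton (Coh.HH A.left (CohB1.tensorPow L (m ^ 2)) j) := by
  obtain ⟨_, _, _, _⟩ := Groth.Agent.AV.Degree.isogeny_pow (A := A) hm
  haveI : IsMonHom (𝟙 A ^ m) := Groth.Agent.AV.Isogeny.isMonHom_pow m
  obtain ⟨hfix, hidx⟩ := index_pull (𝟙 A ^ m) L hL hnd
  let L₀ := (Scheme.Modules.pullback (𝟙 A ^ m).left).obj L
  let t := m * (m - 1) / 2
  let v : (PicF.Cl A.left)ˣ := u' L hL (𝟙 A) * (u' L hL (𝟙 A)⁻¹)⁻¹
  have hv : PicF.IsInvertibleCl ((v ^ t : (PicF.Cl A.left)ˣ) : PicF.Cl A.left) := by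
    have h1 : PicF.IsInvertibleCl (((u' L hL (𝟙 A)⁻¹)⁻¹ : (PicF.Cl A.left)ˣ) : PicF.Cl A.left) :=
      (Groth.L08.Cube.exists_inverseCl (Groth.L08.Cube.isInvertibleCl_pc L hL _)).choose_spec.1
    have h2 : PicF.IsInvertibleCl (v : PicF.Cl A.left) :=
      Groth.Agent.AbDualLib.isInvertibleCl_mulCl (Groth.L08.Cube.isInvertibleCl_pc L hL _) h1
    clear_value t
    induction t with
    | zero => exact ⟨_, rfl, Groth.L18.Ample.isInvertible_structureModule _⟩
    | succ t ih =>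
      rw [pow_succ, Units.val_mul]
      exact Groth.Agent.AbDualLib.isInvertibleCl_mulCl ih h2
  obtain ⟨M, hM, hMi⟩ := hv
  have hM0 : ∀ x, pc M (trK x) = PicF.cl M := fun x => by
    show PicF.pullCl (trK x).left (PicF.cl M) = PicF.cl M
    rw [hM]
    let φ : PicF.Cl A.left →* PicF.Cl A.left :=
      { toFun := PicF.pullCl (trK x).left
        map_one' := Groth.L08.Cube.pullCl_one _
        map_mul' := Groth.L08.Cube.pullCl_mul _ }
    have hφ : ∀ a : A ⟶ A, Units.map φ (u' L hL a) = u' L hL (trK x ≫ a) := fun a =>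
      Units.ext (Groth.L08.Cube.pullCl_pc L (trK x) a)
    have : Units.map φ (v ^ t) = v ^ t := by
      rw [map_pow, map_mul, map_inv, hφ, hφ, Category.comp_id, GrpObj.comp_inv, Category.comp_id,
        u'_odd_translate L hL x]
    exact congrArg Units.val this
  have hfix' : Set.Finite {a : 𝟙_ (Over (Spec (CommRingCat.of k))) ⟶ A | pc L₀ (trK a) = PicF.cl L₀} :=
    hfix.subset fun a h => (PicGrp.cl_eq_cl_iff _ _).1 h
  obtain ⟨a, ha⟩ := Groth.Agent.Pic0.exists_translate_of_nondegenerate L₀ (PicLoc.isInvertible_pullback _ hL) hfix' M hMi hM0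
  have hcl : PicF.cl M * PicF.cl L₀ = PicF.cl (CohB1.tensorPow L (m ^ 2)) := by
    rw [Groth.L08.Cube.cl_tensorPow, hM]
    show ((v ^ t : (PicF.Cl A.left)ˣ) : PicF.Cl A.left) * pc L (𝟙 A ^ m) = _
    rw [Groth.L08.Cube.pc_pow L hL m hm]
    show ((v ^ t * (u' L hL (𝟙 A) ^ (m * (m + 1) / 2) * u' L hL (𝟙 A)⁻¹ ^ t) : (PicF.Cl A.left)ˣ) :
      PicF.Cl A.left) = _
    rw [mul_pow, inv_pow, _root_.mul_assoc, _root_.mul_left_comm ((u' L hL (𝟙 A)⁻¹ ^ t)⁻¹), inv_mul_cancel,
      _root_.mul_one, ← pow_add, Units.val_pow_eq_pow_val, show t + m * (m + 1) / 2 = m ^ 2 by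
        obtain ⟨l, rfl⟩ : ∃ l, m = l + 1 := ⟨m - 1, by omega⟩
        have h1 : 2 ∣ (l + 1) * l := by
          rw [Nat.mul_comm]; exact (Nat.even_mul_succ_self l).two_dvd
        have h2 : 2 ∣ (l + 1) * (l + 1 + 1) := (Nat.even_mul_succ_self (l + 1)).two_dvd
        obtain ⟨c, hc⟩ := h1
        obtain ⟨d, hd⟩ := h2
        simp only [t, Nat.add_sub_cancel, hc, hd, Nat.mul_div_cancel_left _ (by norm_num : 0 < 2)]
        nlinarith]
    show pc L (𝟙 A) ^ (m ^ 2) = _
    rw [Groth.Agent.Pic0.pc_id]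
  rw [hidx]
  haveI := Groth.L08.Cube.isIso_trK a
  obtain ⟨e⟩ : Nonempty ((Scheme.Modules.pullback (trK a).left).obj L₀ ≅ CohB1.tensorPow L (m ^ 2)) :=
    (PicGrp.cl_eq_cl_iff _ _).1 (ha.trans hcl)
  obtain ⟨e'⟩ := nonempty_HH_pullback_iso (trK a).left A.hom A.hom (Over.w (trK a))
    (PicLoc.isInvertible_pullback (𝟙 A ^ m).left hL) j
  exact e'.toEquiv.subsingleton_congr.symm.trans (Groth.L17.BC.HHequiv e j).toEquiv.subsingleton_congr

end Groth.Agent.L26.Mumford
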