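import Groth.Agent.L26.Mumford.Index
import Groth.Agent.L26.Pic0.NonDeg
import Groth.Agent.L26.Poincare.Reducibility
import Groth.Agent.L26.AbDual.Bidual

/-!
The index of a non-degenerate invertible module is invariant under isogenies.
-/

set_option autoImplicit false
set_option linter.style.haveILetI false
set_option linter.unusedSectionVars false
set_option maxSynthPendingDepth 3
set_option backward.isDefEq.respectTransparency false
set_option backward.isDefEq.respectTransparency.types false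

universe u

open CategoryTheory CategoryTheory.Limits MonoidalCategory CartesianMonoidalCategory MonObj GrpObj AlgebraicGeometry
open Groth.Agent.AbDualLib (oneCl bil bil_whiskerLeft)
open scoped TensorProduct

noncomputable section

namespace Groth.Agent.L26.Mumford

attribute [local instance] Groth.L08.Cube.clMonoid

variable {k : Type u} [Field k] [IsAlgClosed k] {A B : Over (Spec (CommRingCat.of k))}
  [GrpObj A] [IsCommMonObj A] [IsProper A.hom] [Smooth A.hom] [GeometricallyConnected A.hom]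
  [GeometricallyIntegral A.hom]
  [GrpObj B] [IsCommMonObj B] [IsProper B.hom] [Smooth B.hom] [GeometricallyConnected B.hom]
  [GeometricallyIntegral B.hom]
  (f : A ⟶ B) [IsMonHom f] [IsFinite f.left] [Surjective f.left]
  (L : B.left.Modules) (hL : PicF.IsInvertible L)

/-- A multiple of the pullback of a translation class is the translation class of a multiple. -/
theorem exists_bil_pull : ∃ n : ℕ, 1 ≤ n ∧ ∀ {T : Over (Spec (CommRingCat.of k))} (u : T ⟶ B),
    Groth.Agent.KLMulN.bil L hL (fst A T ≫ f) (snd A T ≫ u) = 1 →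
      Groth.Agent.KLMulN.bil L hL (fst B T) (snd B T ≫ u ^ n) = 1 := by
  obtain ⟨g, n, -, hn, -, hgf⟩ := Groth.Agent.Poincare.Reducibility.exists_inverse f
  refine ⟨n, hn, fun {T} u hu => ?_⟩
  have h := congrArg (PicF.pullCl (g ▷ T).left) (congrArg (fun z : (PicF.Cl (A ⊗ T).left)ˣ => z.1) hu)
  rw [Groth.Agent.MumfordQuot.pullCl_bil, ← Category.assoc, whiskerRight_fst, whiskerRight_snd_assoc,
    Category.assoc, hgf, MonObj.comp_pow, Category.comp_id, Groth.Agent.KLMulN.bil_pow_left] at h
  rw [MonObj.comp_pow, Groth.Agent.KLMulN.bil_pow_right]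
  refine Units.ext (h.trans ?_)
  exact Groth.L08.Cube.pullCl_one _

variable (hnd : Set.Finite {x : 𝟙_ (Over (Spec (CommRingCat.of k))) ⟶ B |
  Nonempty ((Scheme.Modules.pullback (𝟙 B * (toUnit B ≫ x)).left).obj L ≅ L)})

include hL hnd in
/-- The points parametrising trivial pulled back members are closed. -/
theorem isClosed_of_inv_pull {K : Type u} [Field K] (σ : Spec (CommRingCat.of K) ⟶ Spec (CommRingCat.of k))
    (u : Over.mk σ ⟶ B)
    (h : Groth.Agent.KLMulN.bil L hL (fst A (Over.mk σ) ≫ f) (snd A (Over.mk σ) ≫ u) = 1) :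
    IsClosed ({u.left (⊥ : PrimeSpectrum K)} : Set B.left) := by
  obtain ⟨n, hn, hb⟩ := exists_bil_pull f L hL
  have hc := isClosed_of_inv L hL hnd σ (u ^ n) (hb u h)
  obtain ⟨_, _, _, _⟩ := Groth.Agent.AV.Degree.isogeny_pow (A := B) hn
  let m := (𝟙 B ^ n : B ⟶ B).left
  let y := u.left (⊥ : PrimeSpectrum K)
  have hy : (u ^ n).left (⊥ : PrimeSpectrum K) = m y := by
    rw [show u ^ n = u ≫ (𝟙 B ^ n) by rw [MonObj.comp_pow, Category.comp_id], Over.comp_left, Scheme.Hom.comp_apply]
  rw [hy] at hc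
  refine isClosed_of_closure_subset fun z hz => ?_
  have h1 : m z = m y := by
    have h2 : z ∈ m ⁻¹' {m y} := (hc.preimage m.continuous).closure_subset_iff.2 (Set.singleton_subset_iff.2 rfl) hz
    exact h2
  exact (Groth.L19.eq_of_specializes_of_isIntegralHom m (specializes_iff_mem_closure.2 hz) h1.symm).symm

/-- The coordinates `(b + f a, a)`. -/
abbrev pullCoord : A ⊗ B ⟶ B ⊗ A := lift ((fst A B ≫ f) * snd A B) (fst A B)

instance : IsIso (pullCoord f) := by
  refine ⟨⟨lift (snd B A) ((snd B A ≫ f)⁻¹ * fst B A), ?_, ?_⟩⟩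
  · apply CartesianMonoidalCategory.hom_ext
    · rw [Category.assoc, lift_fst, lift_snd, Category.id_comp]
    · rw [Category.assoc, lift_snd, MonObj.comp_mul, GrpObj.comp_inv, lift_fst, lift_snd_assoc, Category.id_comp,
        inv_mul_cancel_left]
  · apply CartesianMonoidalCategory.hom_ext
    · rw [Category.assoc, lift_fst, MonObj.comp_mul, lift_fst_assoc, lift_snd, Category.id_comp, mul_inv_cancel_left]
    · rw [Category.assoc, lift_snd, lift_fst, Category.id_comp]

variable {L' : B.left.Modules} (hLL : PicF.cl L * PicF.cl L' = 1) {G : (PicF.XT A.hom B).Modules}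
  (hG : PicF.cl G = Groth.L08.Cube.pc L ((fst A B ≫ f) * snd A B) * Groth.L08.Cube.pc L' (fst A B ≫ f))

include hLL hG hL in
/-- The members of the pulled back family. -/
theorem cl_member_pull {K : Type u} [Field K] (σ : Spec (CommRingCat.of K) ⟶ Spec (CommRingCat.of k))
    (u : Over.mk σ ⟶ B) : PicF.pullCl (PicF.XTmap A.hom u) (PicF.cl G) =
      ((Groth.Agent.KLMulN.bil L hL (fst A (Over.mk σ) ≫ f) (snd A (Over.mk σ) ≫ u) :
        (PicF.Cl (A ⊗ Over.mk σ).left)ˣ) : PicF.Cl (A ⊗ Over.mk σ).left) := by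
  rw [bil_whiskerLeft, hG]
  show PicF.pullCl (lift (fst A (Over.mk σ)) (snd A (Over.mk σ) ≫ u)).left _ = _
  rw [Groth.L08.Cube.pullCl_mul, Groth.L08.Cube.pullCl_pc, Groth.L08.Cube.pullCl_pc, MonObj.comp_mul, lift_fst_assoc,
    lift_snd]
  let a := fst A (Over.mk σ) ≫ f
  let b := snd A (Over.mk σ) ≫ u
  have h1 : Groth.L08.Cube.pc L (a * b) =
      ((Groth.Agent.KLMulN.bil L hL a b : (PicF.Cl (A ⊗ Over.mk σ).left)ˣ) : PicF.Cl (A ⊗ Over.mk σ).left) *
        (Groth.L08.Cube.pc L a * Groth.L08.Cube.pc L b) := by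
    show _ = ((Groth.Agent.KLMulN.u' L hL (a * b) * (Groth.Agent.KLMulN.u' L hL a * Groth.Agent.KLMulN.u' L hL b)⁻¹ *
      (Groth.Agent.KLMulN.u' L hL a * Groth.Agent.KLMulN.u' L hL b) :
        (PicF.Cl (A ⊗ Over.mk σ).left)ˣ) : PicF.Cl (A ⊗ Over.mk σ).left)
    rw [inv_mul_cancel_right]
    rfl
  have h2 : Groth.L08.Cube.pc L a * Groth.L08.Cube.pc L' a = 1 := by
    show PicF.pullCl _ _ * PicF.pullCl _ _ = _
    rw [← Groth.L08.Cube.pullCl_mul, hLL, Groth.L08.Cube.pullCl_one]
  have h3 : Groth.L08.Cube.pc L b = 1 := by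
    haveI : Subsingleton ↥(Over.mk σ).left := inferInstanceAs (Subsingleton (PrimeSpectrum K))
    rw [← Groth.L08.Cube.pullCl_pc L (snd A (Over.mk σ)) u, show Groth.L08.Cube.pc L u = 1 from
      Groth.Agent.AbDualLib.eq_oneCl_of_subsingleton (PicLoc.isInvertibleCl_pullCl _ ⟨L, rfl, hL⟩),
      Groth.L08.Cube.pullCl_one]
  rw [h1, h3, _root_.mul_one, _root_.mul_assoc, h2, _root_.mul_one]

include hLL hG hL in
/-- A nontrivial geometric member of the pulled back family is acyclic. -/
theorem subsingleton_HH_member_pull {K : Type u} [Field K] [IsAlgClosed K]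
    (σ : Spec (CommRingCat.of K) ⟶ Spec (CommRingCat.of k)) (u : Over.mk σ ⟶ B)
    (hne : Groth.Agent.KLMulN.bil L hL (fst A (Over.mk σ) ≫ f) (snd A (Over.mk σ) ≫ u) ≠ 1) (i : ℕ) :
    Subsingleton (Coh.HH (PicF.XT A.hom (Over.mk σ)) (PMod G u) i) := by
  obtain ⟨P, hP, hPi⟩ := Groth.Agent.MumfordQuot.isInvertibleCl_bil L hL (fst A B ≫ f) (snd A B)
  have hbil : ∀ {V : Over (Spec (CommRingCat.of k))} (a : V ⟶ A) (b : V ⟶ B),
      bil (PicF.cl P) a b = ((Groth.Agent.KLMulN.bil L hL (a ≫ f) b : (PicF.Cl V.left)ˣ) : PicF.Cl V.left) :=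
    fun a b => by
      rw [hP]
      refine (Groth.Agent.MumfordQuot.pullCl_bil L hL (lift a b) (fst A B ≫ f) (snd A B)).trans ?_
      rw [lift_fst_assoc, lift_snd]
  have hPu : PicF.pullCl (PicF.XTmap A.hom u) (PicF.cl P) =
      ((Groth.Agent.KLMulN.bil L hL (fst A (Over.mk σ) ≫ f) (snd A (Over.mk σ) ≫ u) :
        (PicF.Cl (A ⊗ Over.mk σ).left)ˣ) : PicF.Cl (A ⊗ Over.mk σ).left) := by
    rw [bil_whiskerLeft, hbil]
  haveI := vanish_member P rfl hPi σ u (fun a b h => by
    rw [hbil, hbil, hbil, MonObj.mul_comp, Groth.Agent.KLMulN.bil_mul_left]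
    rfl) (fun h => hne (Units.ext (hPu.symm.trans h))) i
  obtain ⟨e⟩ : Nonempty (PMod G u ≅ PMod P u) := (PicGrp.cl_eq_cl_iff _ _).1
    (((cl_member_pull f L hL hLL hG σ u).trans hPu.symm))
  exact (Groth.L17.BC.HHequiv e i).toEquiv.subsingleton

include hLL hG hL hnd in
/-- The cohomology of the pulled back family vanishes above the dimension. -/
theorem subsingleton_HH_G_pull (hGi : PicF.IsInvertible G) [HasInjectiveResolutions (PicF.XT A.hom B).Modules]
    (g : ℕ) (hg : topologicalKrullDim ↥A.left = g) (i : ℕ) (hi : g < i) :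
    Subsingleton (Coh.HH (PicF.XT A.hom B) G i) := by
  let p := PicF.XTproj A.hom B
  letI : Module k (Coh.HH (PicF.XT A.hom B) G i) := Module.compHom _ (Coh.toGlobal (A := k) (p ≫ B.hom))
  haveI : IsLocallyNoetherian B.left := LocallyOfFiniteType.isLocallyNoetherian B.hom
  haveI : CompactSpace ↥(Spec (CommRingCat.of k)) := inferInstanceAs (CompactSpace (PrimeSpectrum k))
  haveI : CompactSpace ↥B.left := QuasiCompact.compactSpace_of_compactSpace B.hom
  haveI : AlgebraicGeometry.IsNoetherian B.left := {}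
  haveI : IsProper p := inferInstanceAs (IsProper (pullback.snd A.hom B.hom))
  haveI : Coh.IsQCoh G := Groth.L21.Extend.isQCoh_of_isInvertible hGi
  have hs : ∀ j, Groth.L21.RR.SuppClosed ((Coh.Rpush p j).obj G) := fun j y hy =>
    subsingleton_stalk_of_member G hGi y j fun K _ _ σ u hu =>
      subsingleton_HH_member_pull f L hL hLL hG σ u
        (fun h => hy (hu ▸ isClosed_of_inv_pull f L hL hnd σ u h)) j
  haveI := isIso_lerayEdgeOut_of_suppClosed p B.hom G hs i
  obtain ⟨e⟩ := Groth.L17.ProperCoh.nonempty_Γ_Rpush_equiv (R := CommRingCat.of k) (p ≫ B.hom) G i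
  let E := e ≪≫ₗ ((moduleSpecΓFunctor (R := CommRingCat.of k)).mapIso
    (asIso (CohBC.lerayEdgeOut p B.hom i G))).toLinearEquiv
  haveI : (Scheme.Modules.pushforward B.hom).Additive := Groth.L17.PushQCoh.additive_push _
  haveI : Subsingleton ↑((moduleSpecΓFunctor (R := CommRingCat.of k)).obj
      ((Scheme.Modules.pushforward B.hom).obj ((Coh.Rpush p i).obj G))) :=
    Groth.Agent.Pic0.subsingleton_Γ_of_isZero ((Scheme.Modules.pushforward B.hom).map_isZero
      ((Groth.L21.Mod.isZero_iff_stalk_subsingleton _).2 fun y =>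
        subsingleton_stalk_of_member G hGi y i fun _ _ _ σ u _ => subsingleton_HH_big g hg σ (PMod G u) i hi)) _
  exact E.toEquiv.subsingleton

omit hLL hG

set_option synthInstance.maxHeartbeats 400000 in
set_option maxHeartbeats 1600000 in
include hnd hL in
/-- The cohomology of a module and of the pullback of its inverse have complementary supports. -/
theorem mul_finrank_pull_eq_zero (hLL : PicF.cl L * PicF.cl L' = 1) (hL' : PicF.IsInvertible L')
    (g : ℕ) (hg : topologicalKrullDim ↥A.left = g) (p q : ℕ) (hpq : g < p + q) :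
    @Module.finrank k (Coh.HH B.left L p) _ _ (@Coh.moduleOver k _ B.left ⟨B.hom⟩ L p) *
      @Module.finrank k (Coh.HH A.left ((Scheme.Modules.pullback f.left).obj L') q) _ _
        (@Coh.moduleOver k _ A.left ⟨A.hom⟩ _ q) = 0 := by
  letI : A.left.Over (Spec (CommRingCat.of k)) := ⟨A.hom⟩
  letI : B.left.Over (Spec (CommRingCat.of k)) := ⟨B.hom⟩
  letI : (pullback (B.left ↘ Spec (CommRingCat.of k)) (A.left ↘ Spec (CommRingCat.of k))).Over
      (Spec (CommRingCat.of k)) := ⟨pullback.fst (B.left ↘ Spec (CommRingCat.of k)) (A.left ↘ Spec (CommRingCat.of k)) ≫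
        B.left ↘ Spec (CommRingCat.of k)⟩
  haveI : IsProper (A.left ↘ Spec (CommRingCat.of k)) := ‹IsProper A.hom›
  haveI : IsProper (B.left ↘ Spec (CommRingCat.of k)) := ‹IsProper B.hom›
  haveI : CompactSpace ↥(Spec (CommRingCat.of k)) := inferInstanceAs (CompactSpace (PrimeSpectrum k))
  haveI : CompactSpace ↥A.left := QuasiCompact.compactSpace_of_compactSpace A.hom
  haveI : CompactSpace ↥B.left := QuasiCompact.compactSpace_of_compactSpace B.hom
  haveI : IsLocallyNoetherian A.left := LocallyOfFiniteType.isLocallyNoetherian A.hom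
  haveI : IsLocallyNoetherian B.left := LocallyOfFiniteType.isLocallyNoetherian B.hom
  haveI : IsAffineHom (pullback.diagonal (A.left ↘ Spec (CommRingCat.of k))) := inferInstance
  haveI : IsAffineHom (pullback.diagonal (B.left ↘ Spec (CommRingCat.of k))) := inferInstance
  let M := (Scheme.Modules.pullback f.left).obj L'
  have hM : PicF.IsInvertible M := PicLoc.isInvertible_pullback _ hL'
  haveI : IsIso (pullCoord f).left := inferInstanceAs (IsIso ((Over.forget _).map (pullCoord f)))
  let C : (pullback B.hom A.hom).Modules := CohB1.tensorMod ((Scheme.Modules.pullback (pullback.fst B.hom A.hom)).obj L)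
    ((Scheme.Modules.pullback (pullback.snd B.hom A.hom)).obj M)
  have hC : PicF.IsInvertible C :=
    Groth.L18.GenLoc.isInvertible_tensor (PicLoc.isInvertible_pullback _ hL) (PicLoc.isInvertible_pullback _ hM)
  let G : (PicF.XT A.hom B).Modules := (Scheme.Modules.pullback (pullCoord f).left).obj C
  have hGi : PicF.IsInvertible G := PicLoc.isInvertible_pullback _ hC
  haveI := Groth.L17.PushQCoh.hasInjectiveResolutions (PicF.XT A.hom B)
  have hG : PicF.cl G = Groth.L08.Cube.pc L ((fst A B ≫ f) * snd A B) * Groth.L08.Cube.pc L' (fst A B ≫ f) := by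
    show PicF.pullCl (pullCoord f).left (PicF.pullCl (fst B A).left (PicF.cl L) *
      PicF.pullCl (snd B A).left (PicF.pullCl f.left (PicF.cl L'))) = _
    rw [Groth.L08.Cube.pullCl_mul, ← PicLoc.pullCl_comp, ← PicLoc.pullCl_comp, ← PicLoc.pullCl_comp,
      ← Over.comp_left, ← Over.comp_left, ← Over.comp_left, lift_fst, lift_snd]
  haveI : IsProper (pullback.fst B.hom A.hom ≫ B.hom) := inferInstance
  haveI : Flat (pullback.fst B.hom A.hom ≫ B.hom) := inferInstance
  obtain ⟨e1⟩ := Groth.Agent.S7635.result k B.left A.left L (Groth.L21.Extend.isQCoh_of_isInvertible hL) M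
    (Groth.L21.Extend.isQCoh_of_isInvertible hM) (p + q)
  obtain ⟨e2⟩ := nonempty_HH_pullback_iso (pullCoord f).left (pullback.fst B.hom A.hom ≫ B.hom)
    (pullback.fst A.hom B.hom ≫ A.hom) (Over.w (pullCoord f)) hC (p + q)
  haveI := subsingleton_HH_G_pull f L hL hnd hLL hG hGi g hg (p + q) hpq
  haveI : Subsingleton (Coh.HH (A ⊗ B).left ((Scheme.Modules.pullback (pullCoord f).left).obj C) (p + q)) :=
    subsingleton_HH_G_pull f L hL hnd hLL hG hGi g hg (p + q) hpq
  haveI := (e1.toEquiv.trans e2.symm.toEquiv).subsingleton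
  haveI := fun j => Groth.L16.ProperFinite.finite_HH k (Groth.L18.Ample.isCoh_of_isInvertible hL) j
  haveI := fun j => Groth.L16.ProperFinite.finite_HH k (Groth.L18.Ample.isCoh_of_isInvertible hM) j
  have h : Module.finrank k (Π x : Fin (p + q + 1), Coh.HH B.left L (x : ℕ) ⊗[k] Coh.HH A.left M (p + q - (x : ℕ))) = 0 :=
    Module.finrank_zero_of_subsingleton
  rw [Module.finrank_pi_fintype, Finset.sum_eq_zero_iff] at h
  have h1 := h ⟨p, by omega⟩ (Finset.mem_univ _)
  rw [Module.finrank_tensorProduct, Nat.add_sub_cancel_left] at h1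
  exact h1

include hL hnd in
/-- Pullbacks of non-degenerate modules along isogenies are non-degenerate. -/
theorem finite_fixed_pull : Set.Finite {x : 𝟙_ (Over (Spec (CommRingCat.of k))) ⟶ A |
    Nonempty ((Scheme.Modules.pullback (𝟙 A * (toUnit A ≫ x)).left).obj ((Scheme.Modules.pullback f.left).obj L) ≅
      (Scheme.Modules.pullback f.left).obj L)} := by
  obtain ⟨g, n, -, hn, -, hgf⟩ := Groth.Agent.Poincare.Reducibility.exists_inverse f
  have h1 := (Groth.Agent.Pic0.finite_preimage_pow (A := B) hn hnd)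
  refine ((((h1.image Groth.L08.Cube.kpt).biUnion fun y _ => f.left.finite_preimage_singleton y)).preimage
    (Groth.L08.Cube.kpt_injective (A := A)).injOn).subset fun x hx => ?_
  let b := x ≫ f
  refine Set.mem_iUnion₂.2 ⟨_, ⟨b, ?_, rfl⟩, ?_⟩
  · show Nonempty _
    refine (PicGrp.cl_eq_cl_iff _ _).1 ?_
    have h := (PicGrp.cl_eq_cl_iff _ _).2 hx
    change PicF.pullCl _ (PicF.pullCl f.left (PicF.cl L)) = PicF.pullCl f.left (PicF.cl L) at h
    rw [← PicLoc.pullCl_comp, ← Over.comp_left, MonObj.mul_comp, Category.id_comp, Category.assoc] at h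
    have hb : Groth.Agent.KLMulN.bil L hL f (toUnit A ≫ b) = 1 := by
      refine (Groth.Agent.KLMulN.bil_eq_one_iff L hL _ _).2 ?_
      show Groth.L08.Cube.pc L (f * (toUnit A ≫ b)) = Groth.L08.Cube.pc L f * Groth.L08.Cube.pc L (toUnit A ≫ b)
      rw [show Groth.L08.Cube.pc L (toUnit A ≫ b) = 1 from Groth.Agent.Pic0.pc_const L hL b, _root_.mul_one]
      exact h
    have h2 := congrArg (PicF.pullCl g.left) (congrArg (fun z : (PicF.Cl A.left)ˣ => z.1) hb)
    rw [Groth.Agent.MumfordQuot.pullCl_bil, hgf, ← Category.assoc, comp_toUnit, Groth.Agent.KLMulN.bil_pow_left] at h2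
    have h3 : Groth.Agent.KLMulN.bil L hL (𝟙 B) (toUnit B ≫ b ^ n) = 1 := by
      rw [MonObj.comp_pow, Groth.Agent.KLMulN.bil_pow_right]
      exact Units.ext (h2.trans (Groth.L08.Cube.pullCl_one _))
    have h4 := (Groth.Agent.KLMulN.bil_eq_one_iff L hL _ _).1 h3
    show PicF.pullCl (𝟙 B * (toUnit B ≫ b ^ n)).left (PicF.cl L) = PicF.cl L
    refine h4.trans ?_
    show Groth.L08.Cube.pc L (𝟙 B) * Groth.L08.Cube.pc L (toUnit B ≫ b ^ n) = _
    rw [show Groth.L08.Cube.pc L (toUnit B ≫ b ^ n) = 1 from Groth.Agent.Pic0.pc_const L hL (b ^ n), _root_.mul_one,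
      Groth.Agent.Pic0.pc_id]
  · show f.left (Groth.L08.Cube.kpt x) = Groth.L08.Cube.kpt b
    exact (Scheme.Hom.comp_apply x.left f.left _).symm

end Groth.Agent.L26.Mumford

namespace Groth.Agent.L26.Mumford

attribute [local instance] Groth.L08.Cube.clMonoid

section Index

variable {k : Type u} [Field k] [IsAlgClosed k] {A B : Over (Spec (CommRingCat.of k))}
  [GrpObj A] [IsProper A.hom] [Smooth A.hom] [GeometricallyConnected A.hom]
  [GrpObj B] [IsProper B.hom] [Smooth B.hom] [GeometricallyConnected B.hom]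
  (f : A ⟶ B) [IsMonHom f] [IsFinite f.left] [Surjective f.left]

set_option maxHeartbeats 1600000 in
/-- An isogeny preserves the index. -/
theorem index_pull (L : B.left.Modules) (hL : PicF.IsInvertible L)
    (hnd : Set.Finite {x : 𝟙_ (Over (Spec (CommRingCat.of k))) ⟶ B |
      Nonempty ((Scheme.Modules.pullback (𝟙 B * (toUnit B ≫ x)).left).obj L ≅ L)}) :
    Set.Finite {x : 𝟙_ (Over (Spec (CommRingCat.of k))) ⟶ A |
      Nonempty ((Scheme.Modules.pullback (𝟙 A * (toUnit A ≫ x)).left).obj ((Scheme.Modules.pullback f.left).obj L) ≅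
        (Scheme.Modules.pullback f.left).obj L)} ∧
    ∀ j : ℕ, Subsingleton (Coh.HH B.left L j) ↔
      Subsingleton (Coh.HH A.left ((Scheme.Modules.pullback f.left).obj L) j) := by
  haveI : GeometricallyIntegral A.hom := geometricallyIntegral_av A
  haveI : GeometricallyIntegral B.hom := geometricallyIntegral_av B
  haveI : IsCommMonObj A := isCommMonObj_of_isProper_of_geometricallyIntegral A
  haveI : IsCommMonObj B := isCommMonObj_of_isProper_of_geometricallyIntegral B
  letI : A.left.Over (Spec (CommRingCat.of k)) := ⟨A.hom⟩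
  letI : B.left.Over (Spec (CommRingCat.of k)) := ⟨B.hom⟩
  haveI : IsProper (A.left ↘ Spec (CommRingCat.of k)) := ‹IsProper A.hom›
  haveI : IsProper (B.left ↘ Spec (CommRingCat.of k)) := ‹IsProper B.hom›
  obtain ⟨g, -, hg⟩ := Groth.L08.GrpDim.exists_dim B
  have hgA : topologicalKrullDim ↥A.left = g := (Groth.Agent.Bidual.dim_eq_of_finite f).trans hg
  obtain ⟨L', hL', ⟨e⟩⟩ := Groth.L08.Cube.exists_inverse hL
  have hLL : PicF.cl L * PicF.cl L' = 1 := Groth.Agent.AbDualLib.cl_congr e
  have hLL' : PicF.cl L' * PicF.cl L = 1 := (_root_.mul_comm _ _).trans hLL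
  have hnd' : Set.Finite {x : 𝟙_ (Over (Spec (CommRingCat.of k))) ⟶ B |
      Nonempty ((Scheme.Modules.pullback (𝟙 B * (toUnit B ≫ x)).left).obj L' ≅ L')} := hnd.subset fun x hx => by
    refine (PicGrp.cl_eq_cl_iff _ _).1 ?_
    show PicF.pullCl (𝟙 B * (toUnit B ≫ x)).left (PicF.cl L) = PicF.cl L
    have h : PicF.pullCl (𝟙 B * (toUnit B ≫ x)).left (PicF.cl L') = PicF.cl L' := (PicGrp.cl_eq_cl_iff _ _).2 hx
    have h' := congrArg (PicF.pullCl (𝟙 B * (toUnit B ≫ x)).left) hLL
    rw [Groth.L08.Cube.pullCl_mul, h, Groth.L08.Cube.pullCl_one] at h'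
    exact (left_inv_eq_right_inv h' hLL').trans rfl
  let M := (Scheme.Modules.pullback f.left).obj L
  let M' := (Scheme.Modules.pullback f.left).obj L'
  have hM : PicF.IsInvertible M := PicLoc.isInvertible_pullback _ hL
  have hfix := finite_fixed_pull f L hL hnd
  refine ⟨hfix, ?_⟩
  obtain ⟨i, hig, hvan, hne⟩ := exists_index hg L hL hnd
  obtain ⟨r, hrg, hvanr, hner⟩ := exists_index hgA M hM hfix
  haveI := fun j => Groth.L16.ProperFinite.finite_HH k (Groth.L18.Ample.isCoh_of_isInvertible hL) j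
  haveI := fun j => Groth.L16.ProperFinite.finite_HH k (Groth.L18.Ample.isCoh_of_isInvertible hM) j
  have hi0 : Module.finrank k (Coh.HH B.left L i) ≠ 0 := (Module.finrank_pos (R := k)).ne'
  have hr0 : Module.finrank k (Coh.HH A.left M r) ≠ 0 := (Module.finrank_pos (R := k)).ne'
  have eM : CohB1.tensorMod M M' ≅ Coh.structureModule A.left :=
    Groth.L29.DC.PullTensor.pullTensor f.left L L' ≪≫ (Scheme.Modules.pullback f.left).mapIso e ≪≫
      Groth.L29.LocFree.pullbackUnitIso f.left
  have h1 : i ≤ r := by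
    by_contra hcon
    rcases mul_eq_zero.1 (mul_finrank_pull_eq_zero f L hL hnd hLL hL' g hgA i (g - r) (by omega)) with h | h
    · exact hi0 h
    · exact hr0 ((finrank_HH_inverse hgA hM eM r hrg).trans h)
  have h2 : r ≤ i := by
    by_contra hcon
    rcases mul_eq_zero.1 (mul_finrank_pull_eq_zero f L' hL' hnd' hLL' hL g hgA (g - i) r (by omega)) with h | h
    · exact hi0 ((finrank_HH_inverse hg hL e i hig).trans h)
    · exact hr0 h
  obtain rfl : i = r := le_antisymm h1 h2
  intro j
  by_cases hj : j = i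
  · subst hj
    exact iff_of_false (not_subsingleton_iff_nontrivial.2 hne) (not_subsingleton_iff_nontrivial.2 hner)
  · exact iff_of_true (hvan j hj) (hvanr j hj)

end Index

end Groth.Agent.L26.Mumford
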