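import Groth.Agent.L26.Mumford.Box
import Groth.Agent.L26.Poincare.Reducibility
import Groth.Agent.L26.AbDual.LamPull

/-!
The index of a tensor product.
-/

set_option autoImplicit false
set_option linter.style.haveILetI false
set_option linter.unusedSectionVars false
set_option maxSynthPendingDepth 3
set_option backward.isDefEq.respectTransparency false
set_option backward.isDefEq.respectTransparency.types false

universe u

open CategoryTheory CategoryTheory.Limits MonoidalCategory CartesianMonoidalCategory MonObj GrpObj AlgebraicGeometry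
open Groth.L08.Cube (pc trK)
open Groth.Agent.AV.TateBaseChange (bc)
open Groth.Agent.Poincare (Orth.bil Orth.pair)
open Groth.Agent.AV (DegreeForm.F Isogeny.geomPt)

noncomputable section

namespace Groth.Agent.L26.Mumford

attribute [local instance] Groth.L08.Cube.clMonoid Groth.Agent.AV.InterPic.picLaw

variable {k : Type u} [Field k]

section Closed

variable [IsAlgClosed k] {B Y : Over (Spec (CommRingCat.of k))} [GrpObj B] [IsCommMonObj B] [IsProper B.hom]
  [GeometricallyIntegral B.hom] [GrpObj Y] [IsCommMonObj Y] [IsProper Y.hom] [GeometricallyIntegral Y.hom]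

set_option maxHeartbeats 1600000 in
/-- A subvariety with non-degenerate restriction meets its orthogonal finitely. -/
theorem finite_orth_of_finite_fixed (L : Y.left.Modules) (hL : PicF.IsInvertible L) (i : B ⟶ Y) [IsMonHom i]
    (hfix : Set.Finite {x : 𝟙_ (Over (Spec (CommRingCat.of k))) ⟶ B |
      Nonempty ((Scheme.Modules.pullback (𝟙 B * (toUnit B ≫ x)).left).obj ((Scheme.Modules.pullback i.left).obj L) ≅
        (Scheme.Modules.pullback i.left).obj L)}) :
    Set.Finite {b : Isogeny.geomPt k (AlgebraicClosure k) ⟶ B | Orth.pair L hL i (b ≫ i) = 0} := by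
  let T := Isogeny.geomPt k (AlgebraicClosure k)
  let M := (Scheme.Modules.pullback i.left).obj L
  have hM : PicF.IsInvertible M := PicLoc.isInvertible_pullback _ hL
  haveI : IsIso (CommRingCat.ofHom (algebraMap k (AlgebraicClosure k))) :=
    (ConcreteCategory.isIso_iff_bijective _).2
      ⟨(algebraMap k (AlgebraicClosure k)).injective, IsAlgClosed.algebraMap_bijective_of_isIntegral.2⟩
  haveI hTh : IsIso T.hom := by
    show IsIso (Spec.map (CommRingCat.ofHom (algebraMap k (AlgebraicClosure k))))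
    infer_instance
  haveI : IsIso (toUnit T) := by
    haveI : IsIso ((Over.forget (Spec (CommRingCat.of k))).map (toUnit T)) := hTh
    exact isIso_of_reflects_iso _ (Over.forget _)
  refine Set.Finite.subset (hfix.preimage (f := fun b : T ⟶ B => inv (toUnit T) ≫ b)
    fun x _ y _ h => (cancel_epi (inv (toUnit T))).1 h) fun b hb => ?_
  let x := inv (toUnit T) ≫ b
  refine (PicGrp.cl_eq_cl_iff _ _).1 ?_
  let s : B ⟶ B ⊗ T := lift (𝟙 B) (toUnit B ≫ inv (toUnit T))
  have h1 : Orth.bil M hM (𝟙 B) (toUnit B ≫ x) = 0 := by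
    have h : Groth.Agent.Poincare.Orth.pb s (Orth.pair L hL i (b ≫ i)) = 0 := by rw [show Orth.pair L hL i (b ≫ i) = 0 from hb, map_zero]
    rw [Orth.pair, Groth.Agent.Poincare.Orth.pb_bil, lift_fst_assoc, lift_snd_assoc, Category.id_comp] at h
    rw [Groth.Agent.LamPull.bil_pullback i L hL hM (𝟙 B) (toUnit B ≫ x), Category.id_comp]
    simpa only [x, Category.assoc] using h
  have h2 : DegreeForm.F M hM (𝟙 B * (toUnit B ≫ x)) = DegreeForm.F M hM (𝟙 B) := by
    rw [Groth.Agent.Poincare.Rosati.F_translate, h1, add_zero]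
  have h3 := congrArg (fun z => (Additive.toMul z).1) h2
  exact h3.trans (Groth.Agent.Poincare.Rosati.val_F_id (L := M) (hL := hM))

set_option synthInstance.maxHeartbeats 400000 in
set_option maxHeartbeats 3200000 in
/-- The index is subadditive, over an algebraically closed field. -/
theorem index_le_add_closed {L₁ L₂ M : B.left.Modules} (hL₁ : PicF.IsInvertible L₁) (hL₂ : PicF.IsInvertible L₂)
    (hM : PicF.IsInvertible M) (hcl : PicF.cl M = PicF.cl L₁ * PicF.cl L₂) {i₁ i₂ i : ℕ} (h₁ : Conc L₁ i₁)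
    (h₂ : Conc L₂ i₂) (h : Conc M i) : i ≤ i₁ + i₂ := by
  obtain ⟨hp, hgi⟩ := Groth.L08.Albanese.geometricallyIntegral_tensor B B
  haveI := hp
  haveI := hgi
  haveI : IsCommMonObj (B ⊗ B) := isCommMonObj_of_isProper_of_geometricallyIntegral (B ⊗ B)
  let δ : B ⟶ B ⊗ B := lift (𝟙 B) (𝟙 B)
  haveI : IsMonHom δ := Groth.Agent.AV.isMonHom_of_one δ (by
    refine CartesianMonoidalCategory.hom_ext _ _ ?_ ?_ <;> simp [δ, one_eq_one, one_comp_fst_snd.1, one_comp_fst_snd.2])
  haveI : IsSeparated (fst B B).left :=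
    MorphismProperty.of_isPullback (Groth.L08.Cube.isPullback_prod B B).flip (inferInstance : IsSeparated B.hom)
  haveI : IsClosedImmersion δ.left := by
    haveI : IsClosedImmersion (δ.left ≫ (fst B B).left) := by
      rw [← Over.comp_left, lift_fst, Over.id_left]
      infer_instance
    exact IsClosedImmersion.of_comp δ.left (fst B B).left
  let L := box L₁ L₂
  have hL : PicF.IsInvertible L := isInvertible_box hL₁ hL₂
  have hδL : PicF.cl ((Scheme.Modules.pullback δ.left).obj L) = PicF.cl M := by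
    show PicF.pullCl δ.left (PicF.pullCl (fst B B).left (PicF.cl L₁) * PicF.pullCl (snd B B).left (PicF.cl L₂)) = _
    rw [Groth.L08.Cube.pullCl_mul, ← PicLoc.pullCl_comp, ← PicLoc.pullCl_comp, ← Over.comp_left, ← Over.comp_left,
      lift_fst, lift_snd, Over.id_left, PicLoc.pullCl_id, PicLoc.pullCl_id, hcl]
  have hfix := finite_fixed_of_conc (PicLoc.isInvertible_pullback δ.left hL) ((conc_iff_of_cl_eq hδL i).2 h)
  obtain ⟨C, gC, j, hCp, hCg, hjm, hjc, hsurj, hfin, N, hN, hpair⟩ :=
    Groth.Agent.Poincare.Reducibility.exists_complement_of_finite L δ hL (finite_orth_of_finite_fixed L hL δ hfix)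
  letI := gC
  haveI := hCp
  haveI := hCg
  haveI := hjm
  haveI := hjc
  haveI := hsurj
  haveI := hfin
  haveI : IsCommMonObj C := isCommMonObj_of_isProper_of_geometricallyIntegral C
  obtain ⟨hp', hgi'⟩ := Groth.L08.Albanese.geometricallyIntegral_tensor B C
  haveI := hp'
  haveI := hgi'
  obtain ⟨hNf, _, hNs, _⟩ := Groth.Agent.AV.Degree.isogeny_pow (A := C) hN
  haveI : IsFinite (B ◁ (𝟙 C ^ N)).left :=
    MorphismProperty.of_isPullback (Groth.L08.Cube.isPullback_whiskerLeft B (𝟙 C ^ N)).flip hNf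
  haveI : Surjective (B ◁ (𝟙 C ^ N)).left :=
    MorphismProperty.of_isPullback (Groth.L08.Cube.isPullback_whiskerLeft B (𝟙 C ^ N)).flip hNs
  haveI : IsMonHom (𝟙 C ^ N) := Groth.Agent.AV.Isogeny.isMonHom_pow N
  let m := (fst B C ≫ δ) * (snd B C ≫ j)
  haveI : IsMonHom m := Groth.Agent.Poincare.Reducibility.isMonHom_mul _ _
  let f : B ⊗ C ⟶ B ⊗ B := B ◁ (𝟙 C ^ N) ≫ m
  haveI : IsMonHom (B ◁ (𝟙 C ^ N)) := inferInstance
  haveI : IsMonHom f := inferInstance
  haveI : IsFinite f.left := by rw [Over.comp_left]; infer_instance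
  haveI : Surjective f.left := by rw [Over.comp_left]; infer_instance
  have hf : f = (fst B C ≫ δ) * (snd B C ≫ (j ^ N)) := by
    rw [show f = B ◁ (𝟙 C ^ N) ≫ ((fst B C ≫ δ) * (snd B C ≫ j)) from rfl, MonObj.comp_mul, whiskerLeft_fst_assoc,
      whiskerLeft_snd_assoc, MonObj.pow_comp, Category.id_comp]
  let N' := (Scheme.Modules.pullback (j ^ N).left).obj L
  have hN' : PicF.IsInvertible N' := PicLoc.isInvertible_pullback _ hL
  have hcl' : PicF.cl ((Scheme.Modules.pullback f.left).obj L) = PicF.cl (box M N') := by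
    have hF := Groth.Agent.Poincare.Rosati.F_mul (L := L) (hL := hL) (fst B C ≫ δ) (snd B C ≫ (j ^ N))
    rw [show Orth.bil L hL (fst B C ≫ δ) (snd B C ≫ (j ^ N)) = 0 from hpair, add_zero, ← hf] at hF
    have h' := congrArg (fun z => (Additive.toMul z).1) hF
    refine h'.trans ?_
    show pc L (fst B C ≫ δ) * pc L (snd B C ≫ (j ^ N)) =
      PicF.pullCl (fst B C).left (PicF.cl M) * PicF.pullCl (snd B C).left (PicF.cl N')
    rw [← Groth.L08.Cube.pullCl_pc L (fst B C) δ, ← Groth.L08.Cube.pullCl_pc L (snd B C) (j ^ N), ← hδL]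
    rfl
  have hc : Conc (box M N') (i₁ + i₂) :=
    (conc_iff_of_cl_eq hcl' _).1 (conc_pull f hL (conc_box hL₁ hL₂ h₁ h₂))
  exact le_of_conc_box hM hN' h hc

end Closed

/-- The index is subadditive. -/
theorem index_le_add_of_conc {A : Over (Spec (CommRingCat.of k))} [GrpObj A] [IsProper A.hom]
    [GeometricallyIntegral A.hom] {L₁ L₂ M : A.left.Modules} (hL₁ : PicF.IsInvertible L₁)
    (hL₂ : PicF.IsInvertible L₂) (hM : Nonempty (M ≅ CohB1.tensorMod L₁ L₂)) {i₁ i₂ i : ℕ} (h₁ : Conc L₁ i₁)
    (h₂ : Conc L₂ i₂) (h : Conc M i) : i ≤ i₁ + i₂ := by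
  let K := AlgebraicClosure k
  let σ := Groth.Agent.AV.TateBaseChange.st (k := k) K
  haveI : Smooth A.hom := Groth.L08.Albanese.smooth_of_geometricallyIntegral A
  haveI : IsProper (bc K A).hom := inferInstanceAs (IsProper (pullback.snd A.hom σ))
  haveI : GeometricallyIntegral (bc K A).hom := inferInstanceAs (GeometricallyIntegral (pullback.snd A.hom σ))
  haveI : IsCommMonObj (bc K A) := isCommMonObj_of_isProper_of_geometricallyIntegral (bc K A)
  have hMi : PicF.IsInvertible M :=
    Groth.L18.Ample.isInvertible_of_iso hM.some.symm (Groth.L18.GenLoc.isInvertible_tensor hL₁ hL₂)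
  refine index_le_add_closed (B := bc K A) (L₁ := bcMod K L₁) (L₂ := bcMod K L₂) (M := bcMod K M)
    (PicLoc.isInvertible_pullback _ hL₁) (PicLoc.isInvertible_pullback _ hL₂) (PicLoc.isInvertible_pullback _ hMi) ?_
    ((conc_bcMod_iff K hL₁ i₁).2 h₁) ((conc_bcMod_iff K hL₂ i₂).2 h₂) ((conc_bcMod_iff K hMi i).2 h)
  show PicF.pullCl _ (PicF.cl M) = PicF.pullCl _ (PicF.cl L₁) * PicF.pullCl _ (PicF.cl L₂)
  rw [← Groth.L08.Cube.pullCl_mul]
  exact congrArg _ ((PicGrp.cl_eq_cl_iff _ _).2 hM)

end Groth.Agent.L26.Mumford
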