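import Groth.Agent.L26.Mumford.Htpy
import Groth.Agent.L17.BC.Criteria
import Groth.Agent.L07.KoszulTorExt
import Groth.Agent.L28.TorFacts
import Groth.Agent.L04.RegularPd
import Groth.Agent.S15821
import Mathlib.LinearAlgebra.Contraction
import Mathlib.LinearAlgebra.Dual.Basis

/-!
The local algebra of the Mumford computation: a complex of finite free modules in degrees `[0, g]` over a
regular local ring of dimension `g`, exact at the non-closed points, whose `H⁰` of the closed fibre is the residue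
field and does not deform to first order, resolves the residue field.
-/

set_option autoImplicit false
set_option linter.style.haveILetI false
set_option linter.unusedSectionVars false
set_option maxSynthPendingDepth 3
set_option backward.isDefEq.respectTransparency false
set_option backward.isDefEq.respectTransparency.types false

universe u

open CategoryTheory CategoryTheory.Limits MonoidalCategory IsLocalRing
open Groth.L01.FlatCx (dd dd_dd Cyc' cls' cls'_surjective cls'_eq_zero_iff bc mu sw sw_dd sw_smul cls cls_surjective cls_eq_zero_iff)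
open scoped TensorProduct

noncomputable section

namespace Groth.Agent.L26.Mumford

variable {R : Type u} [CommRing R] (L : CochainComplex (ModuleCat.{u} R) ℤ)

theorem finrank_ne_zero (K : Type u) [Field K] (V : Type u) [AddCommGroup V] [Module K V] [Module.Finite K V]
    [Nontrivial V] : Module.finrank K V ≠ 0 :=
  (Module.finrank_pos (R := K) (M := V)).ne'

/-- Uniform annihilation of the homology from vanishing at the non-closed points. -/
theorem killed_of_fibres [IsLocalRing R] [IsNoetherianRing R]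
    (hL : ∀ i, Module.Finite R (L.X i) ∧ Module.Free R (L.X i))
    (hfib : ∀ p : PrimeSpectrum R, p ≠ closedPoint R → ∀ i, CohIII.dRank L i p = 0)
    (a : R) (ha : a ∈ maximalIdeal R) (i j k : ℤ) (hij : i + 1 = j) (hjk : j + 1 = k) :
    ∃ n : ℕ, ∀ x : L.X j, dd L j k x = 0 → ∃ y : L.X i, dd L i j y = a ^ n • x := by
  subst hij
  subst hjk
  have hLf : ∀ i, Module.Finite R (L.X i) ∧ Module.Flat R (L.X i) := fun i =>
    haveI := (hL i).2
    ⟨(hL i).1, inferInstance⟩
  haveI : Module.Finite R (L.homology (i + 1)) := by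
    haveI := (hL (i + 1)).1
    haveI := isNoetherian_of_isNoetherianRing_of_finite R (L.X (i + 1))
    haveI : Module.Finite R (Cyc' L (i + 1)) := Module.Finite.iff_fg.2 (IsNoetherian.noetherian _)
    exact Module.Finite.of_surjective _ (cls'_surjective L (i + 1))
  have hsupp : ∀ p : PrimeSpectrum R, p ∈ Module.support R (L.homology (i + 1) : Type u) → p = closedPoint R := by
    intro p hp
    by_contra hne
    obtain ⟨h1, h2⟩ := Groth.L17.BC.Crit.freeC_of_dRank_eq_zero L hLf p (hfib p hne (i + 1))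
    have h0 : mu (L.homology (i + 1) : Type u) p = 0 :=
      (Groth.L17.BC.Crit.mem_freeLocus_homology L hLf p h1 h2).2.symm.trans (hfib p hne (i + 1))
    rw [Module.mem_support_iff_nontrivial_residueField_tensorProduct] at hp
    exact @finrank_ne_zero p.asIdeal.ResidueField _ (p.asIdeal.ResidueField ⊗[R] (L.homology (i + 1) : Type u)) _ _
      (Module.Finite.base_change R p.asIdeal.ResidueField _) hp h0
  have hrad : a ∈ (Module.annihilator R (L.homology (i + 1) : Type u)).radical := by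
    rw [Ideal.radical_eq_sInf, Ideal.mem_sInf]
    intro J hJ
    obtain ⟨hle, hJp⟩ := hJ
    have hmem : (⟨J, hJp⟩ : PrimeSpectrum R) ∈ Module.support R (L.homology (i + 1) : Type u) := by
      rw [Module.support_eq_zeroLocus]
      exact hle
    rw [show J = maximalIdeal R from congrArg PrimeSpectrum.asIdeal (hsupp _ hmem)]
    exact ha
  obtain ⟨n, hn⟩ := hrad
  refine ⟨n, fun x hx => ?_⟩
  have hxc : x ∈ Cyc' L (i + 1) := by
    rw [LinearMap.mem_ker, (ComplexShape.up ℤ).next_eq' (rfl : i + 1 + 1 = i + 1 + 1)]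
    exact hx
  have h0 := Module.mem_annihilator.1 hn (cls' L (i + 1) ⟨x, hxc⟩)
  rw [← map_smul, cls'_eq_zero_iff L ((ComplexShape.up ℤ).prev_eq' (rfl : i + 1 = i + 1))] at h0
  exact h0

/-- `B ⊗ X = Hom(X^∨, B)`. -/
def homEquiv (B X : Type u) [AddCommGroup B] [Module R B] [AddCommGroup X] [Module R X] [Module.Finite R X]
    [Module.Free R X] : (B ⊗[R] X) ≃ₗ[R] (Module.Dual R X →ₗ[R] B) :=
  TensorProduct.comm R B X ≪≫ₗ TensorProduct.congr (Module.evalEquiv R X) (LinearEquiv.refl R B) ≪≫ₗ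
    dualTensorHomEquiv R (Module.Dual R X) B

theorem homEquiv_tmul (B X : Type u) [AddCommGroup B] [Module R B] [AddCommGroup X] [Module R X] [Module.Finite R X]
    [Module.Free R X] (b : B) (x : X) (φ : Module.Dual R X) : homEquiv B X (b ⊗ₜ x) φ = φ x • b := by
  simp [homEquiv]

theorem homEquiv_lTensor (B : Type u) [AddCommGroup B] [Module R B] {X Y : Type u} [AddCommGroup X] [Module R X]
    [Module.Finite R X] [Module.Free R X] [AddCommGroup Y] [Module R Y] [Module.Finite R Y] [Module.Free R Y]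
    (f : X →ₗ[R] Y) (w : B ⊗[R] X) :
    homEquiv B Y (f.lTensor B w) = (homEquiv B X w).comp f.dualMap := by
  induction w using TensorProduct.induction_on with
  | zero => simp
  | tmul b x =>
    refine LinearMap.ext fun φ => ?_
    rw [LinearMap.lTensor_tmul, homEquiv_tmul, LinearMap.comp_apply, homEquiv_tmul]
    rfl
  | add v w hv hw => simp only [map_add, hv, hw, LinearMap.add_comp]

/-- Kernels of base changes are homomorphisms out of the cokernel of the dual map. -/
theorem nonempty_kerEquiv (B : Type u) [AddCommGroup B] [Module R B] {X Y : Type u} [AddCommGroup X] [Module R X]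
    [Module.Finite R X] [Module.Free R X] [AddCommGroup Y] [Module R Y] [Module.Finite R Y] [Module.Free R Y]
    (f : X →ₗ[R] Y) :
    Nonempty (LinearMap.ker (f.lTensor B) ≃ₗ[R]
      ((Module.Dual R X ⧸ LinearMap.range f.dualMap) →ₗ[R] B)) := by
  refine ⟨LinearEquiv.ofLinearMap
    { toFun := fun w => Submodule.liftQ _ (homEquiv B X w.1) (by
        rintro _ ⟨φ, rfl⟩
        rw [LinearMap.mem_ker, ← LinearMap.comp_apply, ← homEquiv_lTensor, w.2, map_zero]
        rfl)
      map_add' := fun v w => Submodule.linearMap_qext _ (LinearMap.ext fun φ => by simp)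
      map_smul' := fun a w => Submodule.linearMap_qext _ (LinearMap.ext fun φ => by simp) }
    { toFun := fun g => (⟨(homEquiv B X).symm (g.comp (Submodule.mkQ _)), (homEquiv B Y).injective (by
        rw [homEquiv_lTensor, LinearEquiv.apply_symm_apply, map_zero]
        refine LinearMap.ext fun φ => ?_
        show g (Submodule.Quotient.mk (f.dualMap φ)) = 0
        rw [(Submodule.Quotient.mk_eq_zero _).2 (LinearMap.mem_range_self _ φ), map_zero])⟩ : LinearMap.ker (f.lTensor B))
      map_add' := fun v w => Subtype.ext (by simp [LinearMap.add_comp])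
      map_smul' := fun a w => Subtype.ext (by simp [LinearMap.smul_comp]) }
    (LinearMap.ext fun g => Submodule.linearMap_qext _ (LinearMap.ext fun φ => by simp))
    (LinearMap.ext fun w => Subtype.ext (by simp [Submodule.liftQ_mkQ]))⟩

/-- Homology of the reindexed complex. -/
theorem nonempty_homology_reindex (t i : ℤ) : Nonempty ((reindex L t).homology i ≅ L.homology (t + i)) :=
  ⟨(reindex L t).homologyIsoSc' (i - 1) i (i + 1) (by simp) (by simp) ≪≫
    (L.homologyIsoSc' (t + (i - 1)) (t + i) (t + (i + 1)) (by simp; ring) (by simp; ring)).symm⟩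

/-- Homology with coefficients in a quotient field, as a vector space. -/
theorem finrank_bc_of_T (k : Type u) [Field k] [Algebra R k] (hk : Function.Surjective (algebraMap R k))
    (j : ℤ) (c : ℕ) (e₀ : (CohIII.T L j (ModuleCat.of R k) : Type u) ≃ₗ[R] (Fin c → k)) :
    Module.finrank k ((bc k L).homology j : Type u) = c := by
  let K := bc k L
  let M := ModuleCat.of R k
  let φ : Cyc' K j →+ (CohIII.TFun L j).obj M :=
    AddMonoidHom.mk' (fun z => cls L j M ⟨sw k L j z.1, by
      show (dd L j _).rTensor k _ = 0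
      rw [← sw_dd, show dd K j ((ComplexShape.up ℤ).next j) z.1 = 0 from z.2, map_zero]⟩)
      (fun a b => by
        rw [← map_add]
        exact congrArg _ (Subtype.ext (map_add _ _ _)))
  have hφ : Function.Surjective φ := fun w => by
    obtain ⟨x, rfl⟩ := cls_surjective L j M w
    refine ⟨⟨(sw k L j).symm x.1, (sw k L ((ComplexShape.up ℤ).next j)).injective ?_⟩, ?_⟩
    · rw [sw_dd, AddEquiv.apply_symm_apply, map_zero]
      exact x.2
    · exact congrArg (cls L j M) (Subtype.ext ((sw k L j).apply_symm_apply x.1))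
  have hker : ∀ z, cls' K j z = 0 ↔ φ z = 0 := fun z => by
    show cls' K j z = 0 ↔ cls L j M _ = 0
    rw [cls_eq_zero_iff L (i := (ComplexShape.up ℤ).prev j) rfl,
      cls'_eq_zero_iff K (i := (ComplexShape.up ℤ).prev j) rfl]
    constructor
    · rintro ⟨y, hy⟩
      exact ⟨sw k L _ y, (sw_dd k L _ j y).symm.trans (congrArg _ hy)⟩
    · rintro ⟨y, hy⟩
      refine ⟨(sw k L _).symm y, (sw k L j).injective ?_⟩
      rw [sw_dd, AddEquiv.apply_symm_apply]
      exact hy
  have hsm : ∀ (a : R) (z : Cyc' K j), φ ((algebraMap R k a) • z) = a • φ z := fun a z => by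
    refine Eq.trans (congrArg (cls L j M) (Subtype.ext ?_)) (map_smul (cls L j M) a _)
    show sw k L j ((algebraMap R k a) • z.1) = a • sw k L j z.1
    rw [sw_smul]
    induction sw k L j z.1 using TensorProduct.induction_on with
    | zero => simp
    | tmul x y => simp [LinearMap.lTensor_tmul, Algebra.smul_def, ← TensorProduct.tmul_smul]
    | add v w hv hw => simp only [map_add, smul_add, hv, hw]
  let e₀' : (CohIII.TFun L j).obj M ≃ₗ[R] (Fin c → k) := e₀
  let ψ : Cyc' K j →ₗ[k] (Fin c → k) :=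
    { toFun := fun z => e₀' (φ z)
      map_add' := fun a b => by rw [map_add, map_add]
      map_smul' := fun b z => by
        obtain ⟨a, rfl⟩ := hk b
        rw [hsm, map_smul, RingHom.id_apply, algebraMap_smul] }
  have hψ : Function.Surjective ψ := e₀'.surjective.comp hφ
  have hk' : LinearMap.ker (cls' K j) = LinearMap.ker ψ := by
    ext z
    rw [LinearMap.mem_ker, LinearMap.mem_ker, hker]
    exact (map_eq_zero_iff e₀' e₀'.injective).symm
  rw [(((cls' K j).quotKerEquivOfSurjective (cls'_surjective K j)).symm ≪≫ₗ Submodule.quotEquivOfEq _ _ hk' ≪≫ₗ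
    ψ.quotKerEquivOfSurjective hψ).finrank_eq, Module.finrank_fin_fun]

/-- The Koszul complex of the empty sequence. -/
theorem nonempty_H_nil (M : Type u) [AddCommGroup M] [Module R M] :
    Nonempty (Groth.L05.Kosz.H ([] : List R) M 0 ≃ₗ[R] M) :=
  ⟨(Groth.L04.Koszul.topEquiv (ModuleCat.of R M) ([] : List R)).symm ≪≫ₗ
    Submodule.quotEquivOfEqBot _ (by rw [Ideal.ofList_nil, Submodule.bot_smul])⟩

/-- Tor against the residue field of a module it kills. -/
theorem nonempty_tor_killed (M : Type u) [AddCommGroup M] [Module R M] (rs : List R)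
    (hreg : RingTheory.Sequence.IsWeaklyRegular R rs) (hM : ∀ y ∈ rs, ∀ m : M, y • m = 0) (i : ℕ) :
    Nonempty (DRing.Tor R i (R ⧸ Ideal.ofList rs) M ≃ₗ[R] (Fin (rs.length.choose i) → M)) := by
  obtain ⟨e₁⟩ := Groth.L07.KoszulTorExt.nonempty_tor_iso M rs (Groth.Agent.S15821.result R rs hreg).1 i
  obtain ⟨e₂⟩ := Groth.L07.KoszulTorExt.nonempty_H_annihilated M [] (fun n hn =>
    Groth.L05.Kosz.subsingleton_H _ _ (Or.inr (by simpa using hn))) rs hM i
  obtain ⟨e₃⟩ := nonempty_H_nil (R := R) M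
  rw [List.append_nil] at e₂
  exact ⟨e₁ ≪≫ₗ e₂ ≪≫ₗ LinearEquiv.piCongrRight fun _ => e₃⟩

section Main

variable [IsRegularLocalRing R] (g : ℕ) (hg : ringKrullDim R = g)
  (hL : ∀ i, Module.Finite R (L.X i) ∧ Module.Free R (L.X i))
  (hz : ∀ i, i < 0 ∨ (g : ℤ) < i → Subsingleton (L.X i))
  (hfib : ∀ p : PrimeSpectrum R, p ≠ closedPoint R → ∀ i, CohIII.dRank L i p = 0)
  (hm : Nonempty (LinearMap.ker ((dd L 0 1).lTensor (R ⧸ maximalIdeal R)) ≃ₗ[R] R ⧸ maximalIdeal R))
  (hB : ∀ I : Ideal R, maximalIdeal R ^ 2 ≤ I → I ≤ maximalIdeal R →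
    Nonempty (LinearMap.ker ((dd L 0 1).lTensor (R ⧸ I)) ≃ₗ[R] R ⧸ I) → I = maximalIdeal R)

include hg hL hz hfib in
theorem ex_lt (i j k : ℤ) (hij : i + 1 = j) (hjk : j + 1 = k) (hj : j < g) : Ex L i j k :=
  ex_of_killed L hL g g hg (fun i hi => hz i (by omega)) (fun a ha i j k hij hjk x hx => by
    obtain ⟨n, hn⟩ := killed_of_fibres L hL hfib a ha i j k hij hjk
    exact ⟨n, hn x hx⟩) i j k hij hjk hj

include hg hL hz hfib in
theorem ex_dual (i j k : ℤ) (hij : i + 1 = j) (hjk : j + 1 = k) (hj : j < 0) : Ex (dualCx L) i j k := by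
  refine ex_of_killed (dualCx L) (finite_dualCx L hL) 0 g hg (fun i hi => ?_) (fun a ha i j k hij hjk φ hφ => ?_)
    i j k hij hjk hj
  · haveI := hz (-i) (by omega)
    exact ⟨fun φ ψ => LinearMap.ext fun x => by
      show (show Module.Dual R (L.X (-i)) from φ) x = (show Module.Dual R (L.X (-i)) from ψ) x
      rw [Subsingleton.elim x 0, map_zero, map_zero]⟩
  · by_cases hjg : -j ≤ g
    · obtain ⟨n, hn⟩ := killed_of_fibres L hL hfib a ha ((g : ℤ) - 1) g (g + 1) (by ring) rfl
      obtain ⟨h, h', hh⟩ := exists_htpy L (fun i => haveI := (hL i).2; inferInstance) g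
        (fun i hi => hz i (Or.inr hi)) (ex_lt L g hg hL hz hfib) (a ^ n)
        (fun i hi x => by
          obtain rfl : i = (g : ℤ) - 1 := by omega
          exact hn x ((hz _ (Or.inr (by omega))).elim _ _))
        (-k) (-j) (-i) (by omega) (by omega) hjg
      exact ⟨n, dual_killed L (a ^ n) i j k h h' hh φ hφ⟩
    · haveI := hz (-j) (by omega)
      refine ⟨0, 0, ?_⟩
      refine LinearMap.ext fun x => ?_
      rw [Subsingleton.elim (α := L.X (-j)) x 0]
      exact (map_zero _).trans (map_zero _).symm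

include hL hm hB in
theorem smul_mem_range_dualMap (a : R) (ha : a ∈ maximalIdeal R) (φ : Module.Dual R (L.X 0)) :
    a • φ ∈ LinearMap.range (dd L 0 1).dualMap := by
  haveI := (hL 0).1
  haveI := (hL 0).2
  haveI := (hL 1).1
  haveI := (hL 1).2
  let Q := Module.Dual R (L.X 0) ⧸ LinearMap.range (dd L 0 1).dualMap
  let P := maximalIdeal R
  obtain ⟨e₀⟩ := hm
  obtain ⟨e₁⟩ := nonempty_kerEquiv (R ⧸ P) (dd L 0 1)
  let e : (Q →ₗ[R] R ⧸ P) ≃ₗ[R] R ⧸ P := e₁.symm ≪≫ₗ e₀
  let ψ₀ := e.symm 1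
  letI : Field (R ⧸ P) := Ideal.Quotient.field P
  have h1 : (1 : R ⧸ P) ≠ 0 := one_ne_zero
  have hψ₀ : ψ₀ ≠ 0 := fun h => h1 (by rw [← e.apply_symm_apply 1, show e.symm 1 = 0 from h, map_zero])
  obtain ⟨q₀, hq₀⟩ : ∃ q, ψ₀ q ≠ 0 := not_forall.1 fun h => hψ₀ (LinearMap.ext h)
  have hgen : (⊤ : Submodule R Q) ≤ Submodule.span R {q₀} ⊔ P • ⊤ := by
    intro q _
    obtain ⟨c, hc⟩ := Ideal.Quotient.mk_surjective (ψ₀ q / ψ₀ q₀)
    refine Submodule.mem_sup.2 ⟨c • q₀, Submodule.smul_mem _ _ (Submodule.subset_span rfl), q - c • q₀, ?_, by abel⟩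
    have hzero : (Submodule.Quotient.mk (q - c • q₀) : Q ⧸ P • (⊤ : Submodule R Q)) = 0 := by
      refine (Module.forall_dual_apply_eq_zero_iff (R ⧸ P) _).1 fun f => ?_
      let f' : Q →ₗ[R] R ⧸ P := (f.restrictScalars R).comp (Submodule.mkQ _)
      obtain ⟨r, hr⟩ := Ideal.Quotient.mk_surjective (e f')
      have hf : f' = r • ψ₀ := e.injective (by
        rw [map_smul, e.apply_symm_apply, ← hr]
        simp [Algebra.smul_def])
      show f' (q - c • q₀) = 0
      rw [hf, LinearMap.smul_apply, map_sub, map_smul, Algebra.smul_def c, Ideal.Quotient.algebraMap_eq, hc,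
        div_mul_cancel₀ _ hq₀, sub_self, smul_zero]
    exact (Submodule.Quotient.mk_eq_zero _).1 hzero
  have htop : (⊤ : Submodule R Q) ≤ Submodule.span R {q₀} :=
    Submodule.le_of_le_smul_of_le_jacobson_bot Module.Finite.fg_top (maximalIdeal_le_jacobson _) hgen
  let π : R →ₗ[R] Q := LinearMap.toSpanSingleton R Q q₀
  have hπ : Function.Surjective π := fun q => Submodule.mem_span_singleton.1 (htop trivial)
  let J : Ideal R := LinearMap.ker π
  have hJP : J ≤ P := le_maximalIdeal fun hJ => hq₀ (by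
    have h : q₀ = 0 := by
      have h1 : (1 : R) ∈ J := hJ ▸ Submodule.mem_top
      simpa [J, π] using h1
    rw [h, map_zero])
  let eQ : (R ⧸ J) ≃ₗ[R] Q := π.quotKerEquivOfSurjective hπ
  let I : Ideal R := J ⊔ P ^ 2
  obtain ⟨e₂⟩ := nonempty_kerEquiv (R ⧸ I) (dd L 0 1)
  let e₃ : ((R ⧸ J) →ₗ[R] R ⧸ I) ≃ₗ[R] R ⧸ I := LinearEquiv.ofLinearMap
    { toFun := fun f => f (Submodule.Quotient.mk 1)
      map_add' := fun _ _ => rfl
      map_smul' := fun _ _ => rfl }
    { toFun := fun c => Submodule.liftQ J (LinearMap.toSpanSingleton R (R ⧸ I) c) (fun a ha => by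
        obtain ⟨c, rfl⟩ := Ideal.Quotient.mk_surjective c
        show a • Ideal.Quotient.mk I c = 0
        rw [Algebra.smul_def, Ideal.Quotient.algebraMap_eq, ← map_mul, Ideal.Quotient.eq_zero_iff_mem]
        exact I.mul_mem_right c (Submodule.mem_sup_left ha))
      map_add' := fun c d => Submodule.linearMap_qext _ (LinearMap.ext_ring (smul_add (1 : R) c d))
      map_smul' := fun a c => Submodule.linearMap_qext _ (LinearMap.ext_ring (smul_comm (1 : R) a c)) }
    (LinearMap.ext fun c => one_smul R c)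
    (LinearMap.ext fun f => Submodule.linearMap_qext _ (LinearMap.ext_ring (one_smul R _)))
  have hI : I = P := hB I le_sup_right (sup_le hJP (Ideal.pow_le_self two_ne_zero))
    ⟨e₂ ≪≫ₗ (eQ.symm.congrLeft (R ⧸ I) R) ≪≫ₗ e₃⟩
  have hPJ : P ≤ J := Submodule.le_of_le_smul_of_le_jacobson_bot (Ideal.fg_of_isNoetherianRing P)
    (maximalIdeal_le_jacobson _) (hI.symm.le.trans (sup_le_sup_left (by rw [pow_two, smul_eq_mul]) J))
  rw [← Submodule.Quotient.mk_eq_zero, Submodule.Quotient.mk_smul]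
  obtain ⟨r, hr⟩ := hπ (Submodule.Quotient.mk φ)
  rw [← hr, ← map_smul, smul_eq_mul, mul_comm, ← smul_eq_mul, map_smul, show π a = 0 from hPJ ha, smul_zero]

include hg hL hz hfib hm hB in
theorem top_killed (a : R) (ha : a ∈ maximalIdeal R) (r s : ℤ) (hrs : r + 1 = s) (hs : s = g) (x : L.X s) :
    ∃ y : L.X r, dd L r s y = a • x := by
  obtain ⟨j, rfl⟩ : ∃ j, s = -j := ⟨-s, (neg_neg s).symm⟩
  obtain ⟨k, rfl⟩ : ∃ k, r = -k := ⟨-r, (neg_neg r).symm⟩
  haveI := fun i => (finite_dualCx L hL i).2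
  obtain ⟨h, h', hh⟩ := exists_htpy (dualCx L) (fun i => inferInstance) 0 (fun i hi => by
      haveI := hz (-i) (by omega)
      exact ⟨fun φ ψ => LinearMap.ext fun x => by
        show (show Module.Dual R (L.X (-i)) from φ) x = (show Module.Dual R (L.X (-i)) from ψ) x
        rw [Subsingleton.elim x 0, map_zero, map_zero]⟩) (ex_dual L g hg hL hz hfib) a
    (fun i hi φ => by
      obtain rfl : i = -1 := by omega
      obtain ⟨ψ, hψ⟩ := smul_mem_range_dualMap L hL hm hB a ha φ
      exact ⟨ψ, hψ⟩)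
    (j - 1) j k (by ring) (by omega) (by omega)
  haveI := (hL (-k)).1
  haveI := (hL (-k)).2
  haveI := (hL (-j)).2
  let h'' : Module.Dual R (L.X (-k)) →ₗ[R] Module.Dual R (L.X (-j)) := h'
  let Ψ : Module.Dual R (Module.Dual R (L.X (-k))) := (Module.Dual.eval R (L.X (-j)) x).comp h''
  refine ⟨(Module.evalEquiv R (L.X (-k))).symm Ψ, sub_eq_zero.1 ((Module.forall_dual_apply_eq_zero_iff R _).1 fun φ => ?_)⟩
  rw [map_sub, map_smul, sub_eq_zero]
  have e := hh φ
  haveI : Subsingleton (L.X (-(j - 1))) := hz _ (by omega)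
  have h0 : dd (dualCx L) (j - 1) j (h φ) = 0 := LinearMap.ext fun z => by
    refine (dd_dualCx L (j - 1) j (h φ) z).trans ?_
    rw [Subsingleton.elim (dd L (-j) (-(j - 1)) z) 0, map_zero]
    rfl
  rw [h0, zero_add] at e
  have e' := LinearMap.congr_fun e x
  refine Eq.trans ?_ e'
  show (φ.comp (dd L (-k) (-j))) ((Module.evalEquiv R (L.X (-k))).symm Ψ) = _
  rw [Module.apply_evalEquiv_symm_apply]
  rfl

/-- The top cokernel. -/
abbrev TopQ := (L.X ((g : ℤ) + -((0 : ℕ) : ℤ)) : Type u) ⧸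
  LinearMap.range (dd L ((g : ℤ) + -((1 : ℕ) : ℤ)) ((g : ℤ) + -((0 : ℕ) : ℤ)))

/-- The resolution of the top cokernel. -/
abbrev resC : ChainComplex (ModuleCat.{u} R) ℕ := Groth.L05.Kosz.chainOf (reindex L g)

/-- The augmentation. -/
def resε : (resC L g).X 0 ⟶ ModuleCat.of R (TopQ L g) := ModuleCat.ofHom (Submodule.mkQ _)

include hg hL hz hfib in
theorem isRes : Groth.L28.Balance.IsRes (resC L g) (resε L g) where
  surj := Submodule.mkQ_surjective _
  exact₀ := by
    rw [Groth.L05.Kosz.chainOf_d]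
    exact LinearMap.exact_map_mkQ_range _
  exact n := by
    rw [Groth.L05.Kosz.chainOf_d, Groth.L05.Kosz.chainOf_d]
    intro x
    constructor
    · intro hx
      exact ex_lt L g hg hL hz hfib _ _ ((g : ℤ) + -(n : ℤ)) (by push_cast; ring) (by push_cast; ring)
        (by push_cast; omega) x hx
    · rintro ⟨y, rfl⟩
      exact dd_dd L _ _ _ y
  flat n := haveI := (hL ((g : ℤ) + -(n : ℤ))).2; inferInstanceAs (Module.Flat R (L.X ((g : ℤ) + -(n : ℤ))))

include hg hL hz hfib hm hB in
theorem smul_topQ (a : R) (ha : a ∈ maximalIdeal R) (v : TopQ L g) : a • v = 0 := by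
  obtain ⟨x, rfl⟩ := Submodule.Quotient.mk_surjective _ v
  rw [← Submodule.Quotient.mk_smul, Submodule.Quotient.mk_eq_zero]
  exact top_killed L g hg hL hz hfib hm hB a ha _ _ (by push_cast; ring) (by push_cast; ring) x

include hg hL hz hfib hm hB in
/-- The top cokernel is the residue field. -/
theorem nonempty_topQ : Nonempty (TopQ L g ≃ₗ[R] R ⧸ maximalIdeal R) := by
  obtain ⟨rs, hlen, hreg, hgen⟩ := Groth.L04.exists_regular_generators hg
  obtain ⟨eN⟩ := nonempty_tor_killed (TopQ L g) rs hreg.toIsWeaklyRegular (fun y hy v =>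
    smul_topQ L g hg hL hz hfib hm hB y (hgen ▸ Ideal.subset_span hy) v) g
  obtain ⟨eT⟩ := Groth.L28.TorFacts.nonempty_iso_right (M := ModuleCat.of R (R ⧸ Ideal.ofList rs)) (resC L g)
    (resε L g) (isRes L g hg hL hz hfib) g
  let K := ((tensorLeft (ModuleCat.of R (R ⧸ Ideal.ofList rs))).mapHomologicalComplex (ComplexShape.down ℕ)).obj
    (resC L g)
  have hinj : Function.Injective (cls' K g) := by
    refine (injective_iff_map_eq_zero _).2 fun z hz0 => Subtype.ext ?_
    obtain ⟨y, hy⟩ := (cls'_eq_zero_iff K ((ComplexShape.down ℕ).prev_eq' (rfl : g + 1 = g + 1)) z).1 hz0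
    haveI : Subsingleton (L.X ((g : ℤ) + -((g + 1 : ℕ) : ℤ))) := hz _ (Or.inl (by push_cast; omega))
    haveI : Subsingleton ((R ⧸ Ideal.ofList rs) ⊗[R] (L.X ((g : ℤ) + -((g + 1 : ℕ) : ℤ)) : Type u)) := inferInstance
    rw [← hy, show y = 0 from Subsingleton.elim (α := (R ⧸ Ideal.ofList rs) ⊗[R] (L.X ((g : ℤ) + -((g + 1 : ℕ) : ℤ)) : Type u)) y 0, map_zero]
    rfl
  have hcast : ∀ a b : ℤ, a = 0 → b = 1 → Nonempty (LinearMap.ker ((dd L a b).lTensor (R ⧸ Ideal.ofList rs)) ≃ₗ[R]
      LinearMap.ker ((dd L 0 1).lTensor (R ⧸ Ideal.ofList rs))) := by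
    rintro _ _ rfl rfl
    exact ⟨LinearEquiv.refl _ _⟩
  obtain ⟨eK⟩ : Nonempty (LinearMap.ker (dd K g ((ComplexShape.down ℕ).next g)) ≃ₗ[R]
      LinearMap.ker ((dd L 0 1).lTensor (R ⧸ Ideal.ofList rs))) := by
    cases g with
    | zero =>
      have h1 : LinearMap.ker (dd K 0 ((ComplexShape.down ℕ).next 0)) = ⊤ := by
        rw [LinearMap.ker_eq_top]
        exact congrArg ModuleCat.Hom.hom (K.shape _ _ (by simp))
      have h2 : LinearMap.ker ((dd L 0 1).lTensor (R ⧸ Ideal.ofList rs)) = ⊤ := by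
        haveI : Subsingleton (L.X 1) := hz 1 (Or.inr (by simp))
        rw [LinearMap.ker_eq_top, Subsingleton.elim (dd L 0 1) 0, LinearMap.lTensor_zero]
      exact ⟨LinearEquiv.ofEq _ _ h1 ≪≫ₗ Submodule.topEquiv ≪≫ₗ Submodule.topEquiv.symm ≪≫ₗ
        LinearEquiv.ofEq _ _ h2.symm⟩
    | succ m =>
      obtain ⟨ec⟩ := hcast (((m + 1 : ℕ) : ℤ) + -((m + 1 : ℕ) : ℤ)) (((m + 1 : ℕ) : ℤ) + -(m : ℤ))
        (add_neg_cancel _) (by push_cast; ring)
      refine ⟨LinearEquiv.ofEq _ _ ?_ ≪≫ₗ ec⟩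
      have e1 : K.d (m + 1) m = (tensorLeft (ModuleCat.of R (R ⧸ Ideal.ofList rs))).map
          ((resC L (m + 1)).d (m + 1) m) := rfl
      rw [(ComplexShape.down ℕ).next_eq' (rfl : m + 1 = m + 1)]
      show LinearMap.ker (K.d (m + 1) m).hom = _
      rw [e1, Groth.L05.Kosz.chainOf_d]
      rfl
  have hu : rs.length.choose g = 1 := by rw [hlen, Nat.choose_self]
  haveI : Unique (Fin (rs.length.choose g)) := by rw [hu]; infer_instance
  obtain ⟨em⟩ := hm
  let eqm : (R ⧸ Ideal.ofList rs) ≃ₗ[R] R ⧸ maximalIdeal R := Submodule.quotEquivOfEq _ _ hgen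
  have hker : LinearMap.ker ((dd L 0 1).lTensor (R ⧸ maximalIdeal R)) =
      (LinearMap.ker ((dd L 0 1).lTensor (R ⧸ Ideal.ofList rs))).map
        (TensorProduct.congr eqm (LinearEquiv.refl R (L.X 0))).toLinearMap := by
    ext w
    rw [Submodule.mem_map_equiv, LinearMap.mem_ker, LinearMap.mem_ker]
    rw [← (TensorProduct.congr eqm.symm (LinearEquiv.refl R (L.X 1))).map_eq_zero_iff]
    refine Eq.congr (LinearMap.congr_fun (?_ : (TensorProduct.congr eqm.symm (LinearEquiv.refl R (L.X 1))).toLinearMap ∘ₗ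
      (dd L 0 1).lTensor _ = (dd L 0 1).lTensor _ ∘ₗ (TensorProduct.congr eqm (LinearEquiv.refl R (L.X 0))).symm.toLinearMap) w) rfl
    exact TensorProduct.ext' fun b x => by simp
  exact ⟨(LinearEquiv.funUnique (Fin (rs.length.choose g)) R (TopQ L g)).symm ≪≫ₗ eN.symm ≪≫ₗ eT.toLinearEquiv ≪≫ₗ
    ((cls' K g).quotKerEquivOfSurjective (cls'_surjective K g)).symm ≪≫ₗ
      Submodule.quotEquivOfEqBot _ (LinearMap.ker_eq_bot.2 hinj) ≪≫ₗ eK ≪≫ₗ
        (TensorProduct.congr eqm (LinearEquiv.refl R (L.X 0))).submoduleMap _ ≪≫ₗ LinearEquiv.ofEq _ _ hker.symm ≪≫ₗ em⟩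

include hg hL hz hfib in
/-- Exactness below the top. -/
theorem exactAt_lt (i : ℤ) (hi : i < g) : L.ExactAt i :=
  (Groth.L28.HomElt.exactAt_iff (K := L) (i := i - 1) (j := i) (k := i + 1) (by simp) (by simp)).2
    (ex_lt L g hg hL hz hfib (i - 1) i (i + 1) (by ring) rfl hi)

include hg hL hz hfib hm hB in
/-- The top homology is the residue field. -/
theorem nonempty_homology_top : Nonempty (L.homology (g : ℤ) ≃ₗ[R] R ⧸ maximalIdeal R) := by
  obtain ⟨e⟩ := nonempty_topQ L g hg hL hz hfib hm hB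
  suffices H : ∀ r s : ℤ, r + 1 = s → s = g → Nonempty (L.homology s ≃ₗ[R] ((L.X s : Type u) ⧸ LinearMap.range (dd L r s))) by
    obtain ⟨e'⟩ := H ((g : ℤ) + -((1 : ℕ) : ℤ)) ((g : ℤ) + -((0 : ℕ) : ℤ)) (by push_cast; ring) (by simp)
    exact ⟨(eqToIso (congrArg (fun s : ℤ => L.homology s) (show (g : ℤ) = (g : ℤ) + -((0 : ℕ) : ℤ) by simp))).toLinearEquiv ≪≫ₗ
      e' ≪≫ₗ e⟩
  intro r s hrs hs
  have htop : Cyc' L s = ⊤ := by
    rw [eq_top_iff]
    intro x _
    haveI : Subsingleton (L.X ((ComplexShape.up ℤ).next s)) := hz _ (Or.inr (by rw [CochainComplex.next]; omega))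
    exact Subsingleton.elim _ _
  let c : (L.X s : Type u) →ₗ[R] L.homology s :=
    (cls' L s).comp (LinearMap.codRestrict (Cyc' L s) LinearMap.id fun x => htop ▸ Submodule.mem_top)
  have hc : Function.Surjective c := fun w => by
    obtain ⟨z, rfl⟩ := cls'_surjective L s w
    exact ⟨z.1, rfl⟩
  have hker : LinearMap.ker c = LinearMap.range (dd L r s) := by
    ext x
    exact cls'_eq_zero_iff L ((ComplexShape.up ℤ).prev_eq' hrs) _
  exact ⟨(c.quotKerEquivOfSurjective hc).symm ≪≫ₗ Submodule.quotEquivOfEq _ _ hker⟩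

include hg hL hz hfib hm hB in
/-- The Betti numbers of the closed fibre. -/
theorem finrank_closed (k : Type u) [Field k] [Algebra R k] (hk : Function.Surjective (algebraMap R k))
    (i : ℕ) (hi : i ≤ g) :
    Module.finrank k ((bc k L).homology (i : ℤ) : Type u) = g.choose i := by
  obtain ⟨rs, hlen, hreg, hgen⟩ := Groth.L04.exists_regular_generators hg
  obtain ⟨eM⟩ := nonempty_topQ L g hg hL hz hfib hm hB
  let n : ℕ := g - i
  let eM' : TopQ L g ≃ₗ[R] R ⧸ Ideal.ofList rs := eM ≪≫ₗ (Submodule.quotEquivOfEq _ _ hgen).symm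
  let ε' : (resC L g).X 0 ⟶ ModuleCat.of R (R ⧸ Ideal.ofList rs) := resε L g ≫ eM'.toModuleIso.hom
  have hres : Groth.L28.Balance.IsRes (resC L g) ε' := by
    have h := isRes L g hg hL hz hfib
    refine ⟨eM'.surjective.comp h.surj, fun x => ?_, h.exact, h.flat⟩
    exact (map_eq_zero_iff eM' eM'.injective).trans (h.exact₀ x)
  obtain ⟨eT⟩ := Groth.L28.TorFacts.nonempty_iso_left (N := ModuleCat.of R k) (resC L g) ε' hres n
  have hkm : RingHom.ker (algebraMap R k) = maximalIdeal R :=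
    eq_maximalIdeal (RingHom.ker_isMaximal_of_surjective _ hk)
  obtain ⟨eN⟩ := nonempty_tor_killed k rs hreg.toIsWeaklyRegular (fun y hy v => by
    rw [Algebra.smul_def, show algebraMap R k y = 0 from
      RingHom.mem_ker.1 (hkm ▸ hgen ▸ Ideal.subset_span hy : y ∈ RingHom.ker (algebraMap R k)), zero_mul]) n
  let Lk := ((tensorRight (ModuleCat.of R k)).mapHomologicalComplex (ComplexShape.up ℤ)).obj L
  let e₂ : ((tensorRight (ModuleCat.of R k)).mapHomologicalComplex (ComplexShape.down ℕ)).obj (resC L g) ≅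
      Groth.L05.Kosz.chainOf (reindex Lk g) :=
    HomologicalComplex.Hom.isoOfComponents (fun j => Iso.refl _) (by
      rintro _ j (rfl : j + 1 = _)
      show 𝟙 _ ≫ (Groth.L05.Kosz.chainOf (reindex Lk g)).d (j + 1) j =
        (tensorRight (ModuleCat.of R k)).map ((resC L g).d (j + 1) j) ≫ 𝟙 _
      rw [Category.id_comp, Category.comp_id, Groth.L05.Kosz.chainOf_d, Groth.L05.Kosz.chainOf_d]
      rfl)
  have h1 : IsZero ((reindex Lk g).X 1) := (tensorRight (ModuleCat.of R k)).map_isZero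
    (@ModuleCat.isZero_of_subsingleton _ _ _ (hz ((g : ℤ) + 1) (Or.inr (by omega))))
  obtain ⟨e₃⟩ := Groth.L07.KoszulTorExt.nonempty_chainOf_homology (reindex Lk g) h1 n
  obtain ⟨e₄⟩ := nonempty_homology_reindex Lk g (-(n : ℤ))
  let e₅ := eqToIso (congrArg (fun s : ℤ => Lk.homology s) (show (g : ℤ) + -(n : ℤ) = i by omega))
  have hc : rs.length.choose n = g.choose i := by rw [hlen, Nat.choose_symm hi]
  exact finrank_bc_of_T L k hk i (g.choose i)
    (((HomologicalComplex.homologyFunctor _ _ n).mapIso e₂ ≪≫ e₃ ≪≫ e₄ ≪≫ e₅).toLinearEquiv.symm ≪≫ₗ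
      eT.toLinearEquiv.symm ≪≫ₗ eN ≪≫ₗ LinearEquiv.funCongrLeft R k (finCongr hc.symm))

end Main

end Groth.Agent.L26.Mumford
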