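import Groth.Agent.L26.Mumford.RelPic
import Groth.Agent.L26.Poincare.Pairing
import Groth.Agent.L26.AbDual.LamSurj
import Groth.Agent.L26.KL.Finite
import Groth.Agent.L02.Grpd.OverField
import Groth.Agent.L08.GrpDim
import Groth.Agent.L08.Albanese.ChowImage
import Groth.Agent.L26.AV.Degree
import Groth.Agent.L26.KL.Exists
import Groth.Agent.L07.DimJacobson

/-!
The Picard scheme of an abelian variety has dimension at least that of the variety at the origin.
-/

set_option autoImplicit false
set_option linter.style.haveILetI false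
set_option linter.unusedSectionVars false
set_option maxSynthPendingDepth 3
set_option backward.isDefEq.respectTransparency false
set_option backward.isDefEq.respectTransparency.types false

universe u

open CategoryTheory CategoryTheory.Limits MonoidalCategory CartesianMonoidalCategory MonObj GrpObj AlgebraicGeometry
open IsLocalRing
open Groth.Agent.AbDualLib (oneCl)

noncomputable section

namespace Groth.Agent.L26.Mumford

/-- A local homomorphism of noetherian local rings whose only prime over the maximal ideal is the maximal ideal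
does not increase dimensions. -/
theorem ringKrullDim_le_of_fibre {A B : Type u} [CommRing A] [IsLocalRing A] [IsNoetherianRing A] [CommRing B]
    [IsLocalRing B] [IsNoetherianRing B] (φ : A →+* B) [IsLocalHom φ]
    (h : ∀ p : Ideal B, p.IsPrime → (maximalIdeal A).map φ ≤ p → p = maximalIdeal B) :
    ringKrullDim B ≤ ringKrullDim A := by
  algebraize [φ]
  haveI : (maximalIdeal B).LiesOver (maximalIdeal A) :=
    ⟨(IsLocalRing.maximalIdeal_comap φ).symm⟩
  have h0 := Ideal.height_le_height_add_of_liesOver (maximalIdeal A) (maximalIdeal B)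
  have hz : ((maximalIdeal B).map (Ideal.Quotient.mk ((maximalIdeal A).map (algebraMap A B)))).height = 0 := by
    have hne : (maximalIdeal A).map (algebraMap A B) ≤ maximalIdeal B := IsLocalRing.map_maximalIdeal_le φ
    haveI : Nontrivial (B ⧸ (maximalIdeal A).map (algebraMap A B)) := Ideal.Quotient.nontrivial_iff.mpr fun ht =>
      (maximalIdeal.isMaximal B).ne_top (top_le_iff.mp (ht ▸ hne))
    haveI : IsLocalRing (B ⧸ (maximalIdeal A).map (algebraMap A B)) :=
      IsLocalRing.of_surjective' _ Ideal.Quotient.mk_surjective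
    haveI : Ring.KrullDimLE 0 (B ⧸ (maximalIdeal A).map (algebraMap A B)) := Ring.krullDimLE_zero_iff.2 fun P hP => by
      have hc := h _ (hP.comap (Ideal.Quotient.mk _)) (fun x hx => by
        rw [Ideal.mem_comap, (Ideal.Quotient.eq_zero_iff_mem (I := (maximalIdeal A).map (algebraMap A B))).2 hx]
        exact P.zero_mem)
      have : P = maximalIdeal _ := by
        rw [← Ideal.map_comap_of_surjective _ Ideal.Quotient.mk_surjective P, hc,
          IsLocalRing.map_maximalIdeal_of_surjective _ Ideal.Quotient.mk_surjective]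
      rw [this]
      exact maximalIdeal.isMaximal _
    rw [IsLocalRing.map_maximalIdeal_of_surjective _ Ideal.Quotient.mk_surjective]
    exact le_antisymm (by
      have := IsLocalRing.maximalIdeal_height_eq_ringKrullDim (R := B ⧸ (maximalIdeal A).map (algebraMap A B))
      have h1 : ringKrullDim (B ⧸ (maximalIdeal A).map (algebraMap A B)) ≤ (0 : ℕ) := Ring.krullDimLE_iff.1 inferInstance
      rw [← this] at h1
      exact WithBot.coe_le_coe.mp h1) zero_le
  rw [hz, add_zero] at h0
  rw [← IsLocalRing.maximalIdeal_height_eq_ringKrullDim, ← IsLocalRing.maximalIdeal_height_eq_ringKrullDim]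
  exact WithBot.coe_le_coe.2 h0

attribute [local instance] Groth.L08.Cube.clMonoid

variable {k : Type u} [Field k] {X : Over (Spec (CommRingCat.of k))} [GrpObj X] [IsProper X.hom]
  [GeometricallyIntegral X.hom] {P : Over (Spec (CommRingCat.of k))}
  {φ : ∀ T : Over (Spec (CommRingCat.of k)), PicF.Cl (PicF.XT X.hom T) → (T ⟶ P)}
  (hP : AbDual.IsRelPicK Scheme.fppfPrecoverage X.hom P φ) [LocallyOfFiniteType P.hom] [IsSeparated P.hom]

/-- A point of a separated scheme at the image of a section factors through it. -/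
theorem eq_of_image_eq {K : Type u} [Field K] (σ : Spec (CommRingCat.of K) ⟶ Spec (CommRingCat.of k))
    (g : Over.mk σ ⟶ P) (o : 𝟙_ (Over (Spec (CommRingCat.of k))) ⟶ P)
    (hg : ∀ z, g.left z = o.left (closedPoint k)) : g = toUnit _ ≫ o := by
  haveI : IsClosedImmersion o.left := by
    haveI : IsClosedImmersion (o.left ≫ P.hom) := by
      rw [Over.w o]
      exact inferInstanceAs (IsClosedImmersion (𝟙 _))
    exact IsClosedImmersion.of_comp o.left P.hom
  haveI : IsClosedImmersion (pullback.snd o.left g.left) := MorphismProperty.pullback_snd _ _ inferInstance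
  haveI : Surjective (pullback.snd o.left g.left) := ⟨fun z => by
    obtain ⟨w, -, hw⟩ := Scheme.Pullback.exists_preimage_pullback (f := o.left) (g := g.left) (closedPoint k) z
      (hg z).symm
    exact ⟨w, hw⟩⟩
  haveI : IsReduced (Over.mk σ).left := inferInstanceAs (IsReduced (Spec (CommRingCat.of K)))
  haveI : IsIso (pullback.snd o.left g.left) := isIso_of_isClosedImmersion_of_surjective _
  let s := inv (pullback.snd o.left g.left) ≫ pullback.fst o.left g.left
  have hs : s ≫ o.left = g.left := by
    rw [Category.assoc, pullback.condition, IsIso.inv_hom_id_assoc]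
  refine Over.OverMorphism.ext ?_
  rw [Over.comp_left, Over.toUnit_left, ← hs]
  have h1 : o.left ≫ P.hom = 𝟙 _ := Over.w o
  have h2 := Over.w g
  rw [← hs, Category.assoc, h1] at h2
  exact congrArg (· ≫ o.left) ((Category.comp_id s).symm.trans h2)

include hP in
/-- The dimension of the Picard scheme at the origin is at least the dimension of the variety. -/
theorem dim_le_stalk :
    topologicalKrullDim ↥X.left ≤ ringKrullDim (P.left.presheaf.stalk
      ((φ (Over.mk (𝟙 (Spec (CommRingCat.of k)))) (PicF.cl (Coh.structureModule (PicF.XT X.hom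
        (Over.mk (𝟙 (Spec (CommRingCat.of k)))))))).left.base (closedPoint k))) := by
  haveI : Smooth X.hom := Groth.L08.Albanese.smooth_of_geometricallyIntegral X
  haveI : GeometricallyConnected X.hom := Groth.Agent.AV.Isogeny.geometricallyConnected X.hom
  haveI : IsCommMonObj X := isCommMonObj_of_isProper_of_geometricallyIntegral X
  obtain ⟨M, hMa⟩ := Groth.Agent.AV.Degree.exists_isAmple X
  obtain ⟨K, iK, hK⟩ := Groth.Agent.KLLib.exists_isKL k X M hMa.1
  haveI hKf : IsFinite K.hom :=
    Groth.Agent.KLFinite.isFinite M (Groth.L18.Ample.isRelAmple_of_isAmple hMa) hMa.1 K iK hK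
  haveI := hK.closed
  let c : PicF.Cl (PicF.XT X.hom X) := Groth.Agent.Poincare.Pairing.mumCl M hMa.1
  have hc : PicF.IsInvertibleCl c :=
    Groth.Agent.AbDualLib.isInvertibleCl_of_isPicZeroCl (Groth.Agent.Poincare.Pairing.isPicZeroCl_mumCl M hMa.1)
  let lam : X ⟶ P := φ X c
  let T₁ := Over.mk (𝟙 (Spec (CommRingCat.of k)))
  let o : 𝟙_ (Over (Spec (CommRingCat.of k))) ⟶ P := φ T₁ (oneCl _)
  let e : P.left := o.left (closedPoint k)
  have ha : ∀ (T : Over (Spec (CommRingCat.of k))) (U : T.left.Opens), IsIso ((PicF.XTproj X.hom T).app U) :=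
    fun T U => Groth.Agent.AbDualLib.isIso_app_XTproj X.hom Groth.Agent.AbDualLib.fibConst_abelian η[X].left
      (Over.w η[X]) T U
  have hrigone : ∀ T, PicF.IsTrivialCl (PicF.pullCl (PicF.secT X.hom η[X].left (Over.w η[X]) T) (oneCl _)) :=
    fun T => Groth.Agent.AbDualLib.pullCl_oneCl _
  -- the fibre over the origin
  have hfib : ∀ x : X.left, lam.left x = e → ∃ y : K.left, iK.left y = x := by
    intro x hx
    obtain ⟨Ω, _, _, p, hp⟩ := Groth.Agent.AbDualLib.exists_geomPoint x
    let σ := p ≫ X.hom
    let z : Over.mk σ ⟶ X := Over.homMk p rfl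
    have hz : z ≫ lam = toUnit _ ≫ o := eq_of_image_eq σ (z ≫ lam) o fun w => by
      show lam.left (p w) = e
      rw [hp, hx]
    let cz := PicF.pullCl (PicF.XTmap X.hom z) c
    have hone : PicF.IsInvertibleCl (oneCl (PicF.XT X.hom (Over.mk σ))) :=
      ⟨_, rfl, Groth.L18.Ample.isInvertible_structureModule _⟩
    have h1 : φ (Over.mk σ) cz = φ (Over.mk σ) (oneCl _) := by
      rw [hP.natural _ _ z c hc]
      refine hz.trans ?_
      rw [← hP.natural T₁ _ (toUnit (Over.mk σ)) _ ⟨_, rfl, Groth.L18.Ample.isInvertible_structureModule _⟩,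
        Groth.Agent.AbDualLib.pullCl_oneCl]
    have hrig : PicF.IsTrivialCl (PicF.pullCl (PicF.secT X.hom η[X].left (Over.w η[X]) (Over.mk σ)) cz) :=
      Groth.Agent.AbDualLib.rig_pullCl z c ((congrArg _ (Groth.Agent.Poincare.Pairing.mumCl_rig M hMa.1)).trans
        (Groth.Agent.AbDualLib.pullCl_oneCl _))
    have hcz : cz = oneCl _ := congrArg Subtype.val
      ((Groth.Agent.S12404.result X.hom η[X].left (Over.w η[X]) ha P φ hP (Over.mk σ)).1
        (a₁ := ⟨cz, PicLoc.isInvertibleCl_pullCl _ hc, hrig⟩) (a₂ := ⟨oneCl _, hone, hrigone _⟩) h1)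
    obtain ⟨y, hy⟩ := (Groth.Agent.KLLib.factors_iff M hMa.1
        (Groth.Agent.KLLib.pullCl_unit_eq_one ⟨M, rfl, hMa.1⟩) hK (z := z)).2 (by
      have h := congrArg (PicF.pullCl (X ◁ z).left) (Groth.Agent.LamSurj.mumCl_spec M hMa.1)
      rw [Groth.L08.Cube.pullCl_mul, Groth.L08.Cube.pullCl_mul] at h
      erw [Groth.Agent.AbDualLib.pullCl_left_comp (X ◁ z) (fst X X),
        Groth.Agent.AbDualLib.pullCl_left_comp (X ◁ z) (snd X X),
        Groth.Agent.AbDualLib.pullCl_left_comp (X ◁ z) μ[X]] at h
      rw [whiskerLeft_fst, whiskerLeft_snd, Groth.Agent.KLLib.whiskerLeft_comp_mul,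
        ← Groth.Agent.AbDualLib.XTmap_eq_whiskerLeft] at h
      show _ = _
      rw [← h]
      show PicGrp.mulCl (PicGrp.mulCl cz _) _ = _
      rw [hcz, Groth.Agent.AbDualLib.oneCl_mul])
    obtain ⟨w⟩ : Nonempty ↥(Spec (CommRingCat.of Ω)) := inferInstance
    exact ⟨y.left w, by rw [← Scheme.Hom.comp_apply, ← Over.comp_left, hy]; exact hp w⟩
  -- the origin of the variety
  let x₀ : X.left := η[X].left (closedPoint k)
  have hx₀ : lam.left x₀ = e := by
    have h : η[X] ≫ lam = o := by
      rw [← hP.natural X _ η[X] c hc]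
      refine congrArg (φ _) ?_
      show PicF.pullCl (PicF.XTmap X.hom η[X]) (Groth.Agent.Poincare.Pairing.mumCl M hMa.1) = _
      rw [Groth.Agent.AbDualLib.XTmap_eq_whiskerLeft,
        show X ◁ η[X] = lift (fst X _) (snd X _ ≫ η[X]) by apply CartesianMonoidalCategory.hom_ext <;> simp,
        Groth.Agent.Poincare.Pairing.pullCl_mumCl,
        show snd X (𝟙_ (Over (Spec (CommRingCat.of k)))) ≫ η[X] = 1 from by
          rw [Hom.one_def]; congr 1; exact toUnit_unique _ _,
        Groth.Agent.Poincare.Orth.bil_one_right]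
      rfl
    exact congrArg (fun m : 𝟙_ (Over (Spec (CommRingCat.of k))) ⟶ P => m.left (closedPoint k)) h
  haveI : IsLocallyNoetherian X.left := LocallyOfFiniteType.isLocallyNoetherian X.hom
  haveI : IsLocallyNoetherian P.left := LocallyOfFiniteType.isLocallyNoetherian P.hom
  -- points of the finite subscheme are closed
  haveI : DiscreteTopology ↥K.left := by
    haveI : Subsingleton ↥(Spec (CommRingCat.of k)) := inferInstanceAs (Subsingleton (PrimeSpectrum k))
    haveI : IsLocallyArtinian K.left := .of_locallyQuasiFinite K.hom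
    infer_instance
  have hclK : ∀ y : K.left, IsClosed ({iK.left y} : Set X.left) := fun y => by
    rw [← Set.image_singleton]
    exact iK.left.isClosedEmbedding.isClosedMap _ (isClosed_discrete _)
  have hcl : IsClosed ({x₀} : Set X.left) := by
    obtain ⟨y, hy⟩ := hfib x₀ hx₀
    rw [← hy]
    exact hclK y
  rw [← Groth.L08.GrpDim.ringKrullDim_stalk X x₀ hcl]
  show _ ≤ ringKrullDim (P.left.presheaf.stalk e)
  rw [← hx₀]
  refine ringKrullDim_le_of_fibre (lam.left.stalkMap x₀).hom fun p hp hle => ?_
  let q : Spec (X.left.presheaf.stalk x₀) := ⟨p, hp⟩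
  let x' : X.left := X.left.fromSpecStalk x₀ q
  have hx' : lam.left x' = e := by
    have hnat := congrArg (fun m : Spec (X.left.presheaf.stalk x₀) ⟶ P.left => m q)
      (Scheme.SpecMap_stalkMap_fromSpecStalk lam.left (x := x₀))
    simp only [Scheme.Hom.comp_apply] at hnat
    refine hnat.symm.trans ?_
    have hq : Spec.map (lam.left.stalkMap x₀) q = closedPoint (P.left.presheaf.stalk (lam.left x₀)) := by
      refine PrimeSpectrum.ext (le_antisymm (le_maximalIdeal ?_) ?_)
      · exact Ideal.IsPrime.ne_top (Spec.map (lam.left.stalkMap x₀) q).2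
      · exact fun a ha => hle (Ideal.mem_map_of_mem _ ha)
    rw [hq, Scheme.fromSpecStalk_closedPoint]
    exact hx₀
  obtain ⟨y, hy⟩ := hfib x' hx'
  have hsp : x' ⤳ x₀ := by
    have := (X.left.range_fromSpecStalk (x := x₀)).le ⟨q, rfl⟩
    exact this
  have heq : x' = x₀ := by
    have := hsp.mem_closed (hy ▸ hclK y : IsClosed ({x'} : Set X.left)) rfl
    exact (Set.mem_singleton_iff.1 this).symm
  exact congrArg PrimeSpectrum.asIdeal ((X.left.fromSpecStalk x₀).isEmbedding.injective
    (heq.trans (Scheme.fromSpecStalk_closedPoint (X := X.left) (x := x₀)).symm) : q = closedPoint _)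

end Groth.Agent.L26.Mumford
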