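import Groth.Agent.L26.Mumford.Concentrated
import Groth.Agent.L26.Mumford.IndexPow
import Groth.Agent.L26.Pic0.EulerHomog
import Mathlib.NumberTheory.SumFourSquares
import Mathlib.Tactic.Module

/-!
The index of a power, by the four squares trick.
-/

set_option autoImplicit false
set_option linter.style.haveILetI false
set_option linter.unusedSectionVars false
set_option maxSynthPendingDepth 3
set_option backward.isDefEq.respectTransparency false
set_option backward.isDefEq.respectTransparency.types false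

universe u

open CategoryTheory CategoryTheory.Limits MonoidalCategory CartesianMonoidalCategory MonObj GrpObj AlgebraicGeometry
open Groth.L08.Cube (pc trK)
open Groth.Agent.KLMulN (u')
open scoped TensorProduct

noncomputable section

namespace Groth.Agent.L26.Mumford

attribute [local instance] Groth.L08.Cube.clMonoid

section Quadratic

variable {G M : Type*} [CommGroup G] [AddCommGroup M]

/-- A quadratic form on a combination of four elements. -/
theorem quadratic_four (q : G → M) (β : G → G → M) (h : ∀ a b, q (a * b) = q a + q b + β a b)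
    (hl : ∀ a b c, β (a * b) c = β a c + β b c) (hz : ∀ a (z : ℤ), q (a ^ z) = (z * z) • q a)
    (hb : ∀ a b (z w : ℤ), β (a ^ z) (b ^ w) = (z * w) • β a b) (p : Fin 4 → G) (x₀ x₁ x₂ x₃ : ℤ) :
    q (p 0 ^ x₀ * p 1 ^ x₁ * p 2 ^ x₂ * p 3 ^ x₃) =
      (x₀ * x₀) • q (p 0) + (x₁ * x₁) • q (p 1) + (x₂ * x₂) • q (p 2) + (x₃ * x₃) • q (p 3) +
      (x₀ * x₁) • β (p 0) (p 1) + (x₀ * x₂) • β (p 0) (p 2) + (x₁ * x₂) • β (p 1) (p 2) +
      (x₀ * x₃) • β (p 0) (p 3) + (x₁ * x₃) • β (p 1) (p 3) + (x₂ * x₃) • β (p 2) (p 3) := by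
  rw [h, h, h, hl, hl, hl, hb, hb, hb, hb, hb, hb, hz, hz, hz, hz]
  abel

/-- The four squares identity for a quadratic form. -/
theorem quadratic_quaternion (q : G → M) (β : G → G → M) (h : ∀ a b, q (a * b) = q a + q b + β a b)
    (hl : ∀ a b c, β (a * b) c = β a c + β b c) (hz : ∀ a (z : ℤ), q (a ^ z) = (z * z) • q a)
    (hb : ∀ a b (z w : ℤ), β (a ^ z) (b ^ w) = (z * w) • β a b) (p : Fin 4 → G) (a b c d : ℤ) :
    q (p 0 ^ a * p 1 ^ b * p 2 ^ c * p 3 ^ d) + q (p 0 ^ (-b) * p 1 ^ a * p 2 ^ (-d) * p 3 ^ c) +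
      q (p 0 ^ (-c) * p 1 ^ d * p 2 ^ a * p 3 ^ (-b)) + q (p 0 ^ (-d) * p 1 ^ (-c) * p 2 ^ b * p 3 ^ a) =
      (a * a + b * b + c * c + d * d) • (q (p 0) + q (p 1) + q (p 2) + q (p 3)) := by
  rw [quadratic_four q β h hl hz hb, quadratic_four q β h hl hz hb, quadratic_four q β h hl hz hb,
    quadratic_four q β h hl hz hb]
  module

end Quadratic

variable {k : Type u} [Field k] {A : Over (Spec (CommRingCat.of k))} [GrpObj A] [IsCommMonObj A]
  [IsProper A.hom] [GeometricallyIntegral A.hom]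

/-- The square of abelian variety `A`. -/
abbrev sq₂ (A : Over (Spec (CommRingCat.of k))) : Over (Spec (CommRingCat.of k)) := A ⊗ A

/-- The fourth power of an abelian variety. -/
abbrev sq₄ (A : Over (Spec (CommRingCat.of k))) : Over (Spec (CommRingCat.of k)) := sq₂ A ⊗ sq₂ A

/-- The projections of the fourth power. -/
def proj₄ (A : Over (Spec (CommRingCat.of k))) : Fin 4 → (sq₄ A ⟶ A)
  | 0 => fst _ _ ≫ fst _ _
  | 1 => fst _ _ ≫ snd _ _
  | 2 => snd _ _ ≫ fst _ _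
  | 3 => snd _ _ ≫ snd _ _

/-- A combination of the projections. -/
def row (x₀ x₁ x₂ x₃ : ℤ) : sq₄ A ⟶ A :=
  proj₄ A 0 ^ x₀ * proj₄ A 1 ^ x₁ * proj₄ A 2 ^ x₂ * proj₄ A 3 ^ x₃

/-- The quaternion endomorphism. -/
def quat (a b c d : ℤ) : sq₄ A ⟶ sq₄ A :=
  lift (lift (row a b c d) (row (-b) a (-d) c)) (lift (row (-c) d a (-b)) (row (-d) (-c) b a))

theorem comp_zpow' {V W : Over (Spec (CommRingCat.of k))} (g : V ⟶ W) (φ : W ⟶ A) (z : ℤ) :
    g ≫ (φ ^ z) = (g ≫ φ) ^ z := by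
  exact map_zpow ({ toFun := fun ψ : W ⟶ A => g ≫ ψ, map_one' := MonObj.comp_one _,
                    map_mul' := fun _ _ => MonObj.comp_mul _ _ _ } : (W ⟶ A) →* (V ⟶ A)) φ z

theorem comp_row {V : Over (Spec (CommRingCat.of k))} (g : V ⟶ sq₄ A) (x₀ x₁ x₂ x₃ : ℤ) :
    g ≫ row x₀ x₁ x₂ x₃ = (g ≫ proj₄ A 0) ^ x₀ * (g ≫ proj₄ A 1) ^ x₁ * (g ≫ proj₄ A 2) ^ x₂ *
      (g ≫ proj₄ A 3) ^ x₃ := by
  simp only [row, MonObj.comp_mul, comp_zpow']

theorem quat_proj (a b c d : ℤ) : quat (A := A) a b c d ≫ proj₄ A 0 = row a b c d ∧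
    quat (A := A) a b c d ≫ proj₄ A 1 = row (-b) a (-d) c ∧
    quat (A := A) a b c d ≫ proj₄ A 2 = row (-c) d a (-b) ∧
    quat (A := A) a b c d ≫ proj₄ A 3 = row (-d) (-c) b a := by
  refine ⟨?_, ?_, ?_, ?_⟩ <;> simp [quat, proj₄]

/-- The kernel of a quaternion endomorphism is killed by its norm. -/
theorem pow_eq_one_of_quat (a b c d : ℤ) {V : Over (Spec (CommRingCat.of k))} (g : V ⟶ sq₄ A)
    (h : ∀ j, g ≫ quat a b c d ≫ proj₄ A j = 1) (j : Fin 4) :
    (g ≫ proj₄ A j) ^ (a * a + b * b + c * c + d * d) = 1 := by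
  obtain ⟨h0, h1, h2, h3⟩ := quat_proj (A := A) a b c d
  have e0 := congrArg Additive.ofMul (h 0)
  have e1 := congrArg Additive.ofMul (h 1)
  have e2 := congrArg Additive.ofMul (h 2)
  have e3 := congrArg Additive.ofMul (h 3)
  rw [h0, comp_row] at e0
  rw [h1, comp_row] at e1
  rw [h2, comp_row] at e2
  rw [h3, comp_row] at e3
  simp only [ofMul_mul, ofMul_zpow, ofMul_one] at e0 e1 e2 e3
  apply Additive.ofMul.injective
  rw [ofMul_zpow, ofMul_one]
  match j with
  | 0 => linear_combination (norm := module) a • e0 - b • e1 - c • e2 - d • e3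
  | 1 => linear_combination (norm := module) b • e0 + a • e1 + d • e2 - c • e3
  | 2 => linear_combination (norm := module) c • e0 - d • e1 + a • e2 + b • e3
  | 3 => linear_combination (norm := module) d • e0 + c • e1 - b • e2 + a • e3

end Groth.Agent.L26.Mumford

namespace Groth.Agent.L26.Mumford

attribute [local instance] Groth.L08.Cube.clMonoid

variable {k : Type u} [Field k]

/-- The exterior square of a module. -/
abbrev boxSq {A : Over (Spec (CommRingCat.of k))} (L : A.left.Modules) : (A ⊗ A).left.Modules :=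
  CohB1.tensorMod ((Scheme.Modules.pullback (fst A A).left).obj L) ((Scheme.Modules.pullback (snd A A).left).obj L)

theorem isInvertible_boxSq {A : Over (Spec (CommRingCat.of k))} {L : A.left.Modules} (hL : PicF.IsInvertible L) :
    PicF.IsInvertible (boxSq L) :=
  Groth.L18.GenLoc.isInvertible_tensor (PicLoc.isInvertible_pullback _ hL) (PicLoc.isInvertible_pullback _ hL)

set_option synthInstance.maxHeartbeats 400000 in
set_option maxHeartbeats 1600000 in
/-- The exterior square doubles the index. -/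
theorem conc_boxSq {A : Over (Spec (CommRingCat.of k))} [IsProper A.hom] {L : A.left.Modules}
    (hL : PicF.IsInvertible L) {i : ℕ} (hc : Conc L i) : Conc (boxSq L) (2 * i) := by
  letI : A.left.Over (Spec (CommRingCat.of k)) := ⟨A.hom⟩
  letI : (pullback (A.left ↘ Spec (CommRingCat.of k)) (A.left ↘ Spec (CommRingCat.of k))).Over
      (Spec (CommRingCat.of k)) := ⟨pullback.fst (A.left ↘ Spec (CommRingCat.of k)) (A.left ↘ Spec (CommRingCat.of k)) ≫
        A.left ↘ Spec (CommRingCat.of k)⟩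
  haveI : IsProper (A.left ↘ Spec (CommRingCat.of k)) := ‹IsProper A.hom›
  haveI := Groth.L21.RR.isNoetherian_of_proper (X := A.left) k
  haveI : CompactSpace ↥(Spec (CommRingCat.of k)) := inferInstanceAs (CompactSpace (PrimeSpectrum k))
  haveI : CompactSpace ↥A.left := QuasiCompact.compactSpace_of_compactSpace A.hom
  haveI : IsAffineHom (pullback.diagonal (A.left ↘ Spec (CommRingCat.of k))) := inferInstance
  haveI := fun j => Groth.L16.ProperFinite.finite_HH k (Groth.L18.Ample.isCoh_of_isInvertible hL) j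
  have hK : ∀ n, Nonempty ((Π p : Fin (n + 1), Coh.HH A.left L (p : ℕ) ⊗[k] Coh.HH A.left L (n - (p : ℕ))) ≃
      Coh.HH (A ⊗ A).left (boxSq L) n) := fun n => by
    obtain ⟨e⟩ := Groth.Agent.S7635.result k A.left A.left L (Groth.L21.Extend.isQCoh_of_isInvertible hL) L
      (Groth.L21.Extend.isQCoh_of_isInvertible hL) n
    exact ⟨e.toEquiv⟩
  refine ⟨fun n hn => ?_, ?_⟩
  · obtain ⟨e⟩ := hK n
    haveI : ∀ p : Fin (n + 1), Subsingleton (Coh.HH A.left L (p : ℕ) ⊗[k] Coh.HH A.left L (n - (p : ℕ))) := fun p => by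
      by_cases hp : (p : ℕ) = i
      · haveI := hc.1 (n - (p : ℕ)) (by omega)
        infer_instance
      · haveI := hc.1 (p : ℕ) hp
        infer_instance
    exact e.symm.subsingleton
  · obtain ⟨e⟩ := hK (2 * i)
    haveI := hc.2
    rw [← not_subsingleton_iff_nontrivial]
    intro h
    haveI := h
    haveI := e.subsingleton
    have h0 : Module.finrank k (Π p : Fin (2 * i + 1), Coh.HH A.left L (p : ℕ) ⊗[k] Coh.HH A.left L (2 * i - (p : ℕ))) = 0 :=
      Module.finrank_zero_of_subsingleton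
    rw [Module.finrank_pi_fintype, Finset.sum_eq_zero_iff] at h0
    have h1 := h0 ⟨i, by omega⟩ (Finset.mem_univ _)
    rw [Module.finrank_tensorProduct, show 2 * i - i = i by omega] at h1
    have := (Module.finrank_pos (R := k) (M := Coh.HH A.left L i)).ne'
    exact mul_ne_zero this this h1

/-- The fourth exterior power of a module. -/
abbrev boxQuad {A : Over (Spec (CommRingCat.of k))} (L : A.left.Modules) : (sq₄ A).left.Modules := boxSq (boxSq L)

theorem cl_boxQuad {A : Over (Spec (CommRingCat.of k))} (L : A.left.Modules) :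
    PicF.cl (boxQuad L) = pc L (proj₄ A 0) * pc L (proj₄ A 1) * (pc L (proj₄ A 2) * pc L (proj₄ A 3)) := by
  show PicF.pullCl _ (PicF.pullCl _ (PicF.cl L) * PicF.pullCl _ (PicF.cl L)) *
    PicF.pullCl _ (PicF.pullCl _ (PicF.cl L) * PicF.pullCl _ (PicF.cl L)) = _
  rw [Groth.L08.Cube.pullCl_mul, Groth.L08.Cube.pullCl_mul, ← PicLoc.pullCl_comp, ← PicLoc.pullCl_comp,
    ← PicLoc.pullCl_comp, ← PicLoc.pullCl_comp]
  rfl

variable [IsAlgClosed k] {A : Over (Spec (CommRingCat.of k))} [GrpObj A] [IsCommMonObj A]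
  [IsProper A.hom] [GeometricallyIntegral A.hom]

/-- Every module has a symmetric translate when it is non-degenerate. -/
theorem exists_symmetric_translate (L : A.left.Modules) (hL : PicF.IsInvertible L)
    (hnd : Set.Finite {x : 𝟙_ (Over (Spec (CommRingCat.of k))) ⟶ A |
      Nonempty ((Scheme.Modules.pullback (𝟙 A * (toUnit A ≫ x)).left).obj L ≅ L)}) :
    ∃ x : 𝟙_ (Over (Spec (CommRingCat.of k))) ⟶ A,
      pc ((Scheme.Modules.pullback (trK x).left).obj L) (𝟙 A)⁻¹ =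
        PicF.cl ((Scheme.Modules.pullback (trK x).left).obj L) := by
  let v : (PicF.Cl A.left)ˣ := u' L hL (𝟙 A) * (u' L hL (𝟙 A)⁻¹)⁻¹
  have hv : PicF.IsInvertibleCl ((v⁻¹ : (PicF.Cl A.left)ˣ) : PicF.Cl A.left) := by
    have h1 : PicF.IsInvertibleCl (((u' L hL (𝟙 A))⁻¹ : (PicF.Cl A.left)ˣ) : PicF.Cl A.left) :=
      (Groth.L08.Cube.exists_inverseCl (Groth.L08.Cube.isInvertibleCl_pc L hL _)).choose_spec.1
    rw [_root_.mul_inv, _root_.inv_inv, Units.val_mul]
    exact Groth.Agent.AbDualLib.isInvertibleCl_mulCl h1 (Groth.L08.Cube.isInvertibleCl_pc L hL _)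
  obtain ⟨M, hM, hMi⟩ := hv
  have hM0 : ∀ x, pc M (trK x) = PicF.cl M := fun x => by
    show PicF.pullCl (trK x).left (PicF.cl M) = PicF.cl M
    rw [hM]
    let φ : PicF.Cl A.left →* PicF.Cl A.left :=
      { toFun := PicF.pullCl (trK x).left
        map_one' := Groth.L08.Cube.pullCl_one _
        map_mul' := Groth.L08.Cube.pullCl_mul _ }
    have hφ : ∀ a : A ⟶ A, Units.map φ (u' L hL a) = u' L hL (trK x ≫ a) := fun a =>
      Units.ext (Groth.L08.Cube.pullCl_pc L (trK x) a)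
    have h : Units.map φ v⁻¹ = v⁻¹ := by
      rw [map_inv, map_mul, map_inv, hφ, hφ, Category.comp_id, GrpObj.comp_inv, Category.comp_id,
        u'_odd_translate L hL x]
    exact congrArg Units.val h
  obtain ⟨a, ha⟩ := Groth.Agent.Pic0.exists_translate_of_nondegenerate L hL
    (hnd.subset fun a h => (PicGrp.cl_eq_cl_iff _ _).1 h) M hMi hM0
  obtain ⟨x, hx⟩ : ∃ x : 𝟙_ (Over (Spec (CommRingCat.of k))) ⟶ A, x ^ 2 = a := by
    obtain ⟨_, _, hsurj, _⟩ := Groth.Agent.AV.Degree.isogeny_pow (A := A) (n := 2) (by norm_num)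
    haveI := hsurj
    haveI : JacobsonSpace A.left := LocallyOfFiniteType.jacobsonSpace A.hom
    obtain ⟨y, hy⟩ := (𝟙 A ^ 2).left.surjective (Groth.L08.Cube.kpt a)
    obtain ⟨z, hz, hzc⟩ := nonempty_inter_closedPoints (Z := (𝟙 A ^ 2).left ⁻¹' {Groth.L08.Cube.kpt a}) ⟨y, hy⟩
      ((Groth.L08.Cube.isClosed_kpt a).preimage (𝟙 A ^ 2).left.continuous).isLocallyClosed
    obtain ⟨b, rfl⟩ := Groth.L08.Cube.exists_kpt z (mem_closedPoints_iff.1 hzc)
    refine ⟨b, ?_⟩
    have h : b ≫ (𝟙 A ^ 2) = b ^ 2 := by rw [MonObj.comp_pow, Category.comp_id]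
    rw [← h]
    exact Groth.L08.Cube.kpt_injective ((Scheme.Hom.comp_apply b.left (𝟙 A ^ 2).left _).trans hz)
  refine ⟨x, ?_⟩
  let β := Groth.Agent.KLMulN.bil L hL (𝟙 A) (toUnit A ≫ x)
  have hψ : ∀ y : 𝟙_ (Over (Spec (CommRingCat.of k))) ⟶ A, u' L hL (toUnit A ≫ y) = 1 := fun y =>
    Units.ext (Groth.Agent.Pic0.pc_const L hL y)
  have h : ∀ a b : A ⟶ A, u' L hL (a * b) = Groth.Agent.KLMulN.bil L hL a b * (u' L hL a * u' L hL b) := fun a b => by
    rw [Groth.Agent.KLMulN.bil, inv_mul_cancel_right]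
  have hv2 : β ^ 2 = v⁻¹ := by
    have h1 : u' L hL (trK a) = v⁻¹ * u' L hL (𝟙 A) := Units.ext (by
      show pc L (trK a) = ((v⁻¹ : (PicF.Cl A.left)ˣ) : PicF.Cl A.left) * pc L (𝟙 A)
      rw [ha, hM, Groth.Agent.Pic0.pc_id])
    rw [show trK a = 𝟙 A * (toUnit A ≫ a) from rfl, h, hψ, _root_.mul_one, mul_left_inj, ← hx,
      MonObj.comp_pow, Groth.Agent.KLMulN.bil_pow_right] at h1
    exact h1
  have hu : u' L hL ((𝟙 A)⁻¹ ≫ trK x) = u' L hL (trK x) := by
    rw [show trK x = 𝟙 A * (toUnit A ≫ x) from rfl, MonObj.comp_mul, Category.comp_id, ← Category.assoc,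
      comp_toUnit, h, h, hψ, _root_.mul_one, _root_.mul_one]
    have hb : Groth.Agent.KLMulN.bil L hL (𝟙 A)⁻¹ (toUnit A ≫ x) = β⁻¹ := eq_inv_of_mul_eq_one_left (by
      rw [← Groth.Agent.KLMulN.bil_mul_left, inv_mul_cancel, Groth.Agent.KLMulN.bil_one_left])
    rw [hb]
    show β⁻¹ * u' L hL (𝟙 A)⁻¹ = β * u' L hL (𝟙 A)
    rw [inv_mul_eq_iff_eq_mul, ← _root_.mul_assoc, ← sq, hv2, _root_.mul_inv, _root_.inv_inv,
      _root_.mul_right_comm, inv_mul_cancel, _root_.one_mul]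
  show PicF.pullCl (𝟙 A)⁻¹.left (PicF.pullCl (trK x).left (PicF.cl L)) = PicF.pullCl (trK x).left (PicF.cl L)
  rw [← PicLoc.pullCl_comp, ← Over.comp_left]
  exact congrArg Units.val hu

/-- A symmetric module is quadratic on powers. -/
theorem pc_pow_of_symm (L : A.left.Modules) (hL : PicF.IsInvertible L) (hs : pc L (𝟙 A)⁻¹ = PicF.cl L)
    {V : Over (Spec (CommRingCat.of k))} (φ : V ⟶ A) (z : ℤ) :
    u' L hL (φ ^ z) = u' L hL φ ^ (z * z) := by
  have hn : ∀ n : ℕ, u' L hL (φ ^ n) = u' L hL φ ^ (n * n) := fun n => by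
    rcases Nat.eq_zero_or_pos n with rfl | hn
    · rw [pow_zero, Nat.mul_zero, pow_zero, Groth.Agent.KLMulN.u'_one]
    apply Units.ext
    show pc L (φ ^ n) = ((u' L hL φ ^ (n * n) : (PicF.Cl V.left)ˣ) : PicF.Cl V.left)
    rw [Units.val_pow_eq_pow_val, show φ ^ n = φ ≫ (𝟙 A ^ n) by rw [MonObj.comp_pow, Category.comp_id],
      ← Groth.L08.Cube.pullCl_pc L φ (𝟙 A ^ n), Groth.L08.Cube.pc_pow L hL n hn, Groth.Agent.Pic0.pc_id, hs,
      ← pow_add]
    have e : n * (n + 1) / 2 + n * (n - 1) / 2 = n * n := by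
      obtain ⟨l, rfl⟩ : ∃ l, n = l + 1 := ⟨n - 1, by omega⟩
      obtain ⟨c, hc⟩ : 2 ∣ (l + 1) * l := by rw [Nat.mul_comm]; exact (Nat.even_mul_succ_self l).two_dvd
      obtain ⟨d, hd⟩ : 2 ∣ (l + 1) * (l + 1 + 1) := (Nat.even_mul_succ_self (l + 1)).two_dvd
      simp only [Nat.add_sub_cancel, hc, hd, Nat.mul_div_cancel_left _ (by norm_num : 0 < 2)]
      nlinarith
    rw [e]
    exact map_pow ({ toFun := PicF.pullCl φ.left, map_one' := Groth.L08.Cube.pullCl_one _,
                     map_mul' := Groth.L08.Cube.pullCl_mul _ } : PicF.Cl A.left →* PicF.Cl V.left) _ _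
  have hneg : ∀ ψ : V ⟶ A, u' L hL ψ⁻¹ = u' L hL ψ := fun ψ => Units.ext (by
    show pc L ψ⁻¹ = pc L ψ
    rw [show ψ⁻¹ = ψ ≫ (𝟙 A)⁻¹ by rw [GrpObj.comp_inv, Category.comp_id], ← Groth.L08.Cube.pullCl_pc L ψ, hs])
  obtain ⟨n, rfl | rfl⟩ := z.eq_nat_or_neg
  · rw [zpow_natCast, hn, ← Nat.cast_mul, zpow_natCast]
  · rw [zpow_neg, zpow_natCast, hneg, hn, neg_mul_neg, ← Nat.cast_mul, zpow_natCast]

end Groth.Agent.L26.Mumford
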