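import Groth.Agent.S12404
import Groth.Agent.L02.PicEtale.Basic
import Groth.Agent.L26.AbDual.Cancel

/-!
With a section and constant functions, the fppf and the étale sheafified relative Picard functors agree.
-/

set_option autoImplicit false
set_option linter.style.haveILetI false
set_option linter.unusedSectionVars false
set_option backward.isDefEq.respectTransparency false
set_option backward.isDefEq.respectTransparency.types false

universe u

open CategoryTheory CategoryTheory.Limits AlgebraicGeometry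
open Groth.Agent.AbDualLib (oneCl isInvertibleCl_mulCl pullCl_mulCl pullCl_oneCl mul_oneCl cl_congr)

noncomputable section

namespace Groth.Agent.L26.Mumford

attribute [local instance] Groth.L08.Cube.clMonoid

variable {X S : Scheme.{u}} {f : X ⟶ S} (σ : S ⟶ X) (hσ : σ ≫ f = 𝟙 S)
  (ha : ∀ (T : Over S) (U : T.left.Opens), IsIso ((PicF.XTproj f T).app U))
  {P : Over S} {φ : ∀ T : Over S, PicF.Cl (PicF.XT f T) → (T ⟶ P)}
  (hP : AbDual.IsRelPicK Scheme.fppfPrecoverage f P φ)

include hσ ha hP in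
/-- The fppf representing scheme represents the étale sheafification. -/
theorem isRelPic_of_isRelPicK : PicRel.IsRelPic f P φ where
  natural := hP.natural
  locallySurjective T g := by
    obtain ⟨c, hc⟩ := (Groth.Agent.S12404.result f σ hσ ha P φ hP T).2 g
    refine ⟨PUnit, fun _ => MorphismProperty.Over.mk ⊤ (𝟙 T.left) inferInstance, fun x => ⟨PUnit.unit, x, rfl⟩,
      fun _ => ⟨PicF.pullCl (PicF.XTmap f (PicRel.ovrHom T _)) c.1, PicLoc.isInvertibleCl_pullCl _ c.2.1, ?_⟩⟩
    rw [hP.natural _ _ _ _ c.2.1]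
    exact congrArg _ hc
  locallyInjective T c c' hc hc' h := by
    obtain ⟨b, hb, hbs⟩ := Groth.L08.Cube.exists_inverseCl (PicLoc.isInvertibleCl_pullCl (PicF.secT f σ hσ T) hc)
    obtain ⟨b', hb', hbs'⟩ := Groth.L08.Cube.exists_inverseCl (PicLoc.isInvertibleCl_pullCl (PicF.secT f σ hσ T) hc')
    obtain ⟨N, rfl, hN⟩ := id hb
    obtain ⟨N', rfl, hN'⟩ := id hb'
    have hsec : ∀ {d : PicF.Cl (PicF.XT f T)} {e : PicF.Cl T.left},
        PicGrp.mulCl (PicF.pullCl (PicF.secT f σ hσ T) d) e = oneCl _ →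
        PicF.pullCl (PicF.secT f σ hσ T) (PicGrp.mulCl d (PicF.pullCl (PicF.XTproj f T) e)) = oneCl _ := by
      intro d e he
      rw [pullCl_mulCl, ← PicLoc.pullCl_comp, show PicF.secT f σ hσ T ≫ PicF.XTproj f T = 𝟙 _ from
        pullback.lift_snd _ _ _, PicLoc.pullCl_id]
      exact he
    let r : PicF.Rig f σ hσ T := ⟨PicGrp.mulCl c (PicF.pullCl (PicF.XTproj f T) (PicF.cl N)),
      isInvertibleCl_mulCl hc (PicLoc.isInvertibleCl_pullCl _ hb), hsec hbs⟩
    let r' : PicF.Rig f σ hσ T := ⟨PicGrp.mulCl c' (PicF.pullCl (PicF.XTproj f T) (PicF.cl N')),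
      isInvertibleCl_mulCl hc' (PicLoc.isInvertibleCl_pullCl _ hb'), hsec hbs'⟩
    have hrr : r = r' := (Groth.Agent.S12404.result f σ hσ ha P φ hP T).1 (by
      show φ T r.1 = φ T r'.1
      exact (Groth.Agent.S12404.phi_twist hP T hc hb).trans (h.trans (Groth.Agent.S12404.phi_twist hP T hc' hb').symm))
    have heq : PicGrp.mulCl c (PicF.pullCl (PicF.XTproj f T) (PicF.cl N)) =
        PicGrp.mulCl c' (PicF.pullCl (PicF.XTproj f T) (PicF.cl N')) := congrArg Subtype.val hrr
    choose W hW hiso using hN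
    choose W' hW' hiso' using hN'
    refine ⟨T.left, fun t => MorphismProperty.Over.mk ⊤ (W t ⊓ W' t).ι inferInstance, fun t => ⟨t, ⟨t, hW t, hW' t⟩, rfl⟩,
      fun t => ?_⟩
    have hkill : ∀ (M : T.left.Modules) (V : T.left.Opens),
        Nonempty ((Scheme.Modules.restrictFunctor V.ι).obj M ≅ Coh.structureModule (V : Scheme.{u})) → W t ⊓ W' t ≤ V →
        PicF.pullCl (W t ⊓ W' t).ι (PicF.cl M) = oneCl _ := by
      intro M V hM hle
      have e : PicF.pullCl V.ι (PicF.cl M) = oneCl _ := (PicGrp.cl_eq_cl_iff _ _).2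
        ⟨((Scheme.Modules.restrictFunctorIsoPullback V.ι).app M).symm ≪≫ hM.some⟩
      rw [← T.left.homOfLE_ι hle, PicLoc.pullCl_comp, e]
      exact pullCl_oneCl _
    let j := PicF.XTmap f (PicRel.ovrHom T (MorphismProperty.Over.mk ⊤ (W t ⊓ W' t).ι inferInstance))
    have hj : j ≫ PicF.XTproj f T = PicF.XTproj f _ ≫ (W t ⊓ W' t).ι := pullback.lift_snd _ _ _
    have h2 := congrArg (PicF.pullCl j) heq
    rw [pullCl_mulCl, pullCl_mulCl, ← PicLoc.pullCl_comp, ← PicLoc.pullCl_comp, hj, PicLoc.pullCl_comp,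
      PicLoc.pullCl_comp] at h2
    erw [hkill N (W t) (hiso t) inf_le_left, hkill N' (W' t) (hiso' t) inf_le_right] at h2
    erw [pullCl_oneCl, mul_oneCl, mul_oneCl] at h2
    exact h2

end Groth.Agent.L26.Mumford
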