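import Groth.Agent.L26.Mumford.ConcPow
import Groth.Agent.L26.Growth.Peel
import Mathlib.Topology.Order.Compact
import Mathlib.Algebra.Polynomial.Div

/-!
The index along a segment in the space of modules, and roots of the Hilbert polynomial.
-/

set_option autoImplicit false
set_option linter.style.haveILetI false
set_option linter.unusedSectionVars false
set_option maxSynthPendingDepth 3
set_option backward.isDefEq.respectTransparency false
set_option backward.isDefEq.respectTransparency.types false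

universe u

open CategoryTheory CategoryTheory.Limits MonoidalCategory CartesianMonoidalCategory AlgebraicGeometry
open Groth.Agent.L26.Growth (pows hd)
open Polynomial

noncomputable section

namespace Groth.Agent.L26.Mumford

attribute [local instance] Groth.L08.Cube.clMonoid

variable {k : Type u} [Field k] {A : Over (Spec (CommRingCat.of k))}

/-- The twists `L^m ⊗ H^a`. -/
abbrev fam (L H : A.left.Modules) (m a : ℕ) : A.left.Modules := pows ![L, H] ![m, a]

theorem cl_fam (L H : A.left.Modules) (m a : ℕ) : PicF.cl (fam L H m a) = PicF.cl L ^ m * PicF.cl H ^ a := by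
  rw [Groth.Agent.AV.InterPic.cl_tensorPows, Fin.prod_univ_two]
  rfl

variable [IsProper A.hom]

theorem isInvertible_fam {L H : A.left.Modules} (hL : PicF.IsInvertible L) (hH : PicF.IsInvertible H) (m a : ℕ) :
    PicF.IsInvertible (fam L H m a) :=
  Groth.L03.Euler.isInvertible_tensorPows (fun i => by fin_cases i <;> simp [hL, hH]) _

/-- The size of the Euler characteristic of a concentrated module. -/
theorem natAbs_euler_of_conc {N : A.left.Modules} (hN : PicF.IsInvertible N) {i : ℕ} (hc : Conc N i) :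
    (@Curv2.euler k _ A.left ⟨A.hom⟩ N).natAbs = @hd k _ A.left ⟨A.hom⟩ N i := by
  letI : A.left.Over (Spec (CommRingCat.of k)) := ⟨A.hom⟩
  unfold Curv2.euler
  rw [finsum_eq_single _ i fun j hj => by
    haveI := hc.1 j hj
    rw [Module.finrank_zero_of_subsingleton, Nat.cast_zero, mul_zero]]
  simp [Int.natAbs_mul, Int.natAbs_pow]

/-- The cohomology of a concentrated class vanishes in the other degrees. -/
theorem hd_eq_zero_of_conc {N M : A.left.Modules} (h : PicF.cl M = PicF.cl N) {i : ℕ} (hc : Conc N i) {q : ℕ}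
    (hq : q ≠ i) : @hd k _ A.left ⟨A.hom⟩ M q = 0 := by
  letI : A.left.Over (Spec (CommRingCat.of k)) := ⟨A.hom⟩
  haveI := ((conc_iff_of_cl_eq h i).2 hc).1 q hq
  exact Module.finrank_zero_of_subsingleton

variable [GrpObj A] [GeometricallyIntegral A.hom]

set_option maxHeartbeats 1600000 in
/-- The Euler characteristic of the twists. -/
theorem euler_fam {g : ℕ} (hg : topologicalKrullDim ↥A.left = g) {L H : A.left.Modules}
    (hL : PicF.IsInvertible L) (hH : PicF.IsInvertible H) {Φ : ℚ[X]}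
    (hΦ : ∀ n : ℕ, Φ.eval (n : ℚ) =
      (@Curv2.euler k _ A.left ⟨A.hom⟩ (CohB1.tensorMod L (CohB1.tensorPow H n)) : ℚ))
    {m : ℕ} (hm : 0 < m) (a : ℕ) :
    (@Curv2.euler k _ A.left ⟨A.hom⟩ (fam L H m a) : ℚ) = (m : ℚ) ^ g * Φ.eval ((a : ℚ) / m) := by
  letI : A.left.Over (Spec (CommRingCat.of k)) := ⟨A.hom⟩
  haveI : IsProper (A.left ↘ Spec (CommRingCat.of k)) := ‹IsProper A.hom›
  haveI := Groth.L21.RR.isNoetherian_of_proper (X := A.left) k
  have hdim : topologicalKrullDim (CohB1.support (Coh.structureModule A.left)) ≤ g :=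
    ((Topology.IsInducing.subtypeVal (t := CohB1.support (Coh.structureModule A.left))).topologicalKrullDim_le).trans hg.le
  obtain ⟨P, -, hP⟩ := Groth.L03.Euler.exists_polynomial_tensorPows k (L := ![L, H])
    (fun i => by fin_cases i <;> simp [hL, hH])
    (F := Coh.structureModule A.left) Groth.L16.CohClosedPush.isCoh_structure hdim
  have heval : ∀ (u v : ℚ[X]) (x : ℚ), (MvPolynomial.aeval ![u, v] P).eval x =
      MvPolynomial.eval ![u.eval x, v.eval x] P := fun u v x => by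
    rw [← Polynomial.coe_evalRingHom, MvPolynomial.aeval_def, MvPolynomial.eval₂_comp_left]
    refine MvPolynomial.eval₂Hom_congr (RingHom.ext fun y => eval_C) (funext fun i => ?_) rfl
    fin_cases i <;> simp
  have hPval : ∀ x y : ℕ, (Curv2.euler k A.left (fam L H x y) : ℚ) = MvPolynomial.eval ![(x : ℚ), (y : ℚ)] P :=
    fun x y => (hP ![x, y]).trans (congrArg (fun z => MvPolynomial.eval z P) (funext fun i => by fin_cases i <;> rfl))
  have h1 : MvPolynomial.aeval ![(1 : ℚ[X]), X] P = Φ := by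
    refine Groth.L03.Euler.eq_of_eventually_eval_eq 1 fun n _ => ?_
    have e : PicF.cl (fam L H 1 n) = PicF.cl (CohB1.tensorMod L (CohB1.tensorPow H n)) := by
      rw [cl_fam, pow_one]
      show _ = PicF.cl L * PicF.cl (CohB1.tensorPow H n)
      rw [Groth.L08.Cube.cl_tensorPow]
    obtain ⟨e'⟩ := (PicGrp.cl_eq_cl_iff _ _).1 e
    rw [heval, hΦ, ← Groth.L03.Euler.euler_iso e', hPval]
    simp
  let χ : ℚ := (Curv2.euler k A.left (fam L H m a) : ℚ)
  have h2 : (MvPolynomial.aeval ![C (m : ℚ) * X, C (a : ℚ) * X] P : ℚ[X]) = C χ * X ^ g := by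
    refine Groth.L03.Euler.eq_of_eventually_eval_eq 1 fun n hn => ?_
    have h := Groth.Agent.Pic0.EulerHomog.euler_pow hg (fam L H m a) (fam L H (m * n) (a * n))
      (isInvertible_fam hL hH m a) n (by rw [cl_fam, cl_fam, mul_pow, pow_mul, pow_mul])
    rw [heval]
    simp only [eval_mul, eval_C, eval_X, eval_pow]
    rw [← Nat.cast_mul, ← Nat.cast_mul, ← hPval, h]
    push_cast
    ring
  have hm' : (m : ℚ) ≠ 0 := Nat.cast_ne_zero.2 hm.ne'
  have h3 := congrArg (Polynomial.eval (1 / (m : ℚ))) h2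
  rw [heval] at h3
  simp only [eval_mul, eval_C, eval_X, eval_pow] at h3
  rw [← h1, heval]
  simp only [eval_one, eval_X]
  rw [show (a : ℚ) * (1 / m) = a / m by ring, show (m : ℚ) * (1 / m) = 1 by field_simp] at h3
  rw [h3, mul_comm χ, ← _root_.mul_assoc, ← mul_pow, mul_one_div_cancel hm', one_pow, _root_.one_mul]

variable [IsAlgClosed k]

/-- A twist away from the roots has concentrated cohomology. -/
theorem exists_conc_fam {g : ℕ} (hg : topologicalKrullDim ↥A.left = g) {L H : A.left.Modules}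
    (hL : PicF.IsInvertible L) (hH : PicF.IsInvertible H) {Φ : ℚ[X]}
    (hΦ : ∀ n : ℕ, Φ.eval (n : ℚ) =
      (@Curv2.euler k _ A.left ⟨A.hom⟩ (CohB1.tensorMod L (CohB1.tensorPow H n)) : ℚ))
    {m : ℕ} (hm : 0 < m) (a : ℕ) (h : (Φ.map (algebraMap ℚ ℝ)).eval ((a : ℝ) / m) ≠ 0) :
    ∃ i ≤ g, Conc (fam L H m a) i := by
  haveI : IsCommMonObj A := isCommMonObj_of_isProper_of_geometricallyIntegral A
  haveI : Smooth A.hom := Groth.L08.Albanese.smooth_of_geometricallyIntegral A
  haveI : GeometricallyConnected A.hom := Groth.Agent.AV.Isogeny.geometricallyConnected _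
  have hN := isInvertible_fam hL hH m a
  refine exists_index hg _ hN ?_
  by_contra hinf
  have h0 := Groth.Agent.S17505.result k A _ hN hinf
  have h1 := euler_fam hg hL hH hΦ hm a
  rw [h0, Int.cast_zero, eq_comm, mul_eq_zero] at h1
  refine h ?_
  rw [show (a : ℝ) / m = algebraMap ℚ ℝ ((a : ℚ) / m) by simp, Polynomial.eval_map, Polynomial.eval₂_at_apply,
    h1.resolve_left (pow_ne_zero _ (Nat.cast_ne_zero.2 hm.ne')), map_zero]

/-- The absolute value of the Hilbert polynomial is the dimension of the cohomology. -/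
theorem abs_eval_mul_pow {g : ℕ} (hg : topologicalKrullDim ↥A.left = g) {L H : A.left.Modules}
    (hL : PicF.IsInvertible L) (hH : PicF.IsInvertible H) {Φ : ℚ[X]}
    (hΦ : ∀ n : ℕ, Φ.eval (n : ℚ) =
      (@Curv2.euler k _ A.left ⟨A.hom⟩ (CohB1.tensorMod L (CohB1.tensorPow H n)) : ℚ))
    {m : ℕ} (hm : 0 < m) (a : ℕ) {i : ℕ} (hc : Conc (fam L H m a) i) :
    (m : ℝ) ^ g * |(Φ.map (algebraMap ℚ ℝ)).eval ((a : ℝ) / m)| = (@hd k _ A.left ⟨A.hom⟩ (fam L H m a) i : ℝ) := by
  rw [← natAbs_euler_of_conc (isInvertible_fam hL hH m a) hc, Nat.cast_natAbs, Int.cast_abs,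
    show (m : ℝ) ^ g = |(m : ℝ) ^ g| from (abs_of_nonneg (by positivity)).symm, ← abs_mul]
  congr 1
  rw [show (a : ℝ) / m = algebraMap ℚ ℝ ((a : ℚ) / m) by simp, Polynomial.eval_map, Polynomial.eval₂_at_apply, eq_ratCast,
    ← Rat.cast_intCast, euler_fam hg hL hH hΦ hm a]
  push_cast
  rfl

/-- Scaling keeps the index. -/
theorem conc_fam_mul {L H : A.left.Modules} (hL : PicF.IsInvertible L) (hH : PicF.IsInvertible H) {m a i : ℕ}
    (hc : Conc (fam L H m a) i) {t : ℕ} (ht : 0 < t) : Conc (fam L H (m * t) (a * t)) i := by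
  refine (conc_iff_of_cl_eq ?_ i).1 (conc_pow (fam L H m a) (isInvertible_fam hL hH m a) hc t ht)
  rw [Groth.L08.Cube.cl_tensorPow, cl_fam, cl_fam, mul_pow, pow_mul, pow_mul]

/-- Next to twists whose cohomology avoids the degrees `[i - s, i]` the cohomology in degree `i` is small. -/
theorem exists_bound_fam {g : ℕ} (hg : topologicalKrullDim ↥A.left = g) {L H : A.left.Modules}
    (hL : PicF.IsInvertible L) (hH : CohB1.IsAmple H) {e : ℕ}
    (hgg : Curv2.IsGloballyGenerated (CohB1.tensorPow H e)) {s : ℕ} (hs : s + 1 ≤ g) :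
    ∃ C : ℕ, ∀ m a i : ℕ, i ≤ g →
      (∀ p, 1 ≤ p → p ≤ s + 1 → ∃ j, Conc (fam L H m (a + e * p)) j ∧ (i < j ∨ j + s < i)) →
      @hd k _ A.left ⟨A.hom⟩ (fam L H m a) i ≤ C * (m + a + 1) ^ (g - (s + 1)) := by
  classical
  letI : A.left.Over (Spec (CommRingCat.of k)) := ⟨A.hom⟩
  haveI : IsProper (A.left ↘ Spec (CommRingCat.of k)) := ‹IsProper A.hom›
  haveI := Groth.L21.RR.isNoetherian_of_proper (X := A.left) k
  have hdim : topologicalKrullDim (CohB1.support (Coh.structureModule A.left)) ≤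
      ((g - (s + 1) + (s + 1) : ℕ) : WithBot ℕ∞) := by
    rw [Nat.sub_add_cancel hs]
    exact ((Topology.IsInducing.subtypeVal
      (t := CohB1.support (Coh.structureModule A.left))).topologicalKrullDim_le).trans hg.le
  choose C hC using Groth.Agent.L26.Growth.peel (k := k) hH (L := ![L, H])
    (fun i => by fin_cases i <;> simp [hL, hH.1]) (Groth.L18.Ample.isInvertible_tensorPow hH.1 e) hgg
    (g - (s + 1)) s (Coh.structureModule A.left) Groth.L16.CohClosedPush.isCoh_structure hdim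
  refine ⟨∑ i ∈ Finset.range (g + 1), C i, fun m a i hi hn => ?_⟩
  have hO : ∀ M : A.left.Modules, PicF.cl (CohB1.tensorMod (Coh.structureModule A.left) M) = PicF.cl M := fun M =>
    _root_.one_mul (PicF.cl M)
  have hvan : ∀ p, 1 ≤ p → p ≤ s + 1 → ∀ q, q ≤ i → i ≤ q + s → hd k (CohB1.tensorMod (Coh.structureModule A.left)
      (CohB1.tensorMod (pows ![L, H] ![m, a]) (CohB1.tensorPow (CohB1.tensorPow H e) p))) q = 0 := by
    intro p hp1 hp2 q hq1 hq2
    obtain ⟨j, hj, hij⟩ := hn p hp1 hp2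
    refine hd_eq_zero_of_conc ?_ hj (by omega)
    rw [hO]
    show PicF.cl (fam L H m a) * PicF.cl (CohB1.tensorPow (CohB1.tensorPow H e) p) = _
    rw [cl_fam, cl_fam, Groth.L08.Cube.cl_tensorPow, Groth.L08.Cube.cl_tensorPow, ← pow_mul, _root_.mul_assoc,
      ← pow_add]
  have h := hC i ![m, a] hvan
  obtain ⟨e'⟩ := (PicGrp.cl_eq_cl_iff _ _).1 (hO (fam L H m a))
  rw [show hd k (CohB1.tensorMod (Coh.structureModule A.left) (pows ![L, H] ![m, a])) i = hd k (fam L H m a) i from
    Groth.L03.Euler.finrank_HH_of_iso e' i] at h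
  refine h.trans (Nat.mul_le_mul (Finset.single_le_sum (fun i _ => Nat.zero_le (C i))
    (Finset.mem_range.2 (Nat.lt_succ_of_le hi))) (Nat.pow_le_pow_left ?_ _))
  simp [Fin.sum_univ_two]

/-- An ample module has globally generated large powers. -/
theorem exists_gg {H : A.left.Modules} (hH : CohB1.IsAmple H) :
    ∃ e, 0 < e ∧ ∀ p, 1 ≤ p → Curv2.IsGloballyGenerated (CohB1.tensorPow H (e * p)) := by
  letI : A.left.Over (Spec (CommRingCat.of k)) := ⟨A.hom⟩
  haveI : IsProper (A.left ↘ Spec (CommRingCat.of k)) := ‹IsProper A.hom›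
  haveI := Groth.L21.RR.isNoetherian_of_proper (X := A.left) k
  obtain ⟨n₀, hn₀⟩ := Groth.L18.Ample.exists_forall_isGloballyGenerated hH (Coh.structureModule A.left)
    Groth.L16.CohClosedPush.isCoh_structure
  refine ⟨n₀ + 1, Nat.succ_pos _, fun p hp => Groth.L18.Ample.isGloballyGenerated_of_iso
    (Groth.L00.Tensor.tensorUnitLeft _) (hn₀ _ ?_)⟩
  calc n₀ ≤ (n₀ + 1) * 1 := by omega
    _ ≤ (n₀ + 1) * p := Nat.mul_le_mul_left _ hp

set_option maxHeartbeats 1600000 in
/-- The index is constant on segments without roots. -/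
theorem index_segment {g : ℕ} (hg : topologicalKrullDim ↥A.left = g) {L H : A.left.Modules}
    (hL : PicF.IsInvertible L) (hH : CohB1.IsAmple H) {Φ : ℚ[X]}
    (hΦ : ∀ n : ℕ, Φ.eval (n : ℚ) =
      (@Curv2.euler k _ A.left ⟨A.hom⟩ (CohB1.tensorMod L (CohB1.tensorPow H n)) : ℚ))
    {m a b i : ℕ} (hm : 0 < m) (hab : a ≤ b)
    (hne : ∀ t : ℝ, (a : ℝ) / m ≤ t → t ≤ (b : ℝ) / m → (Φ.map (algebraMap ℚ ℝ)).eval t ≠ 0)
    (hc : Conc (fam L H m a) i) : Conc (fam L H m b) i := by
  classical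
  have hmR : (0 : ℝ) < m := Nat.cast_pos.2 hm
  have hle : (a : ℝ) / m ≤ (b : ℝ) / m := div_le_div_of_nonneg_right (Nat.cast_le.2 hab) hmR.le
  obtain ⟨i₁, hi₁, hc₁⟩ := exists_conc_fam hg hL hH.1 hΦ hm b (hne _ hle le_rfl)
  suffices hii : i = i₁ from hii ▸ hc₁
  obtain ⟨i₀, hi₀, hc₀⟩ := exists_conc_fam hg hL hH.1 hΦ hm a (hne _ le_rfl hle)
  have hig : i ≤ g := conc_unique hc hc₀ ▸ hi₀
  rcases Nat.eq_zero_or_pos g with rfl | hg0
  · omega
  obtain ⟨e, he0, hgg⟩ := exists_gg hH
  obtain ⟨C, hC⟩ := exists_bound_fam hg hL hH (e := e) (by simpa using hgg 1 le_rfl) (s := 0) hg0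
  obtain ⟨x₀, hx₀, hmin⟩ := (isCompact_Icc (a := (a : ℝ) / m) (b := (b : ℝ) / m)).exists_isMinOn
    ⟨_, le_rfl, hle⟩ ((Φ.map (algebraMap ℚ ℝ)).continuous.abs.continuousOn)
  let c := |(Φ.map (algebraMap ℚ ℝ)).eval x₀|
  have hc0 : 0 < c := abs_pos.2 (hne _ hx₀.1 hx₀.2)
  obtain ⟨T, hT⟩ := exists_nat_gt ((C : ℝ) * ((m : ℝ) + b + 1) ^ (g - 1) / (c * (m : ℝ) ^ g))
  let t := e * (T + 1)
  have ht : 0 < t := Nat.mul_pos he0 T.succ_pos
  have hTt : (T : ℝ) < t := by
    have : T + 1 ≤ t := Nat.le_mul_of_pos_left _ he0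
    exact_mod_cast this
  have key : ∀ j, a * t + e * j ≤ b * t → Conc (fam L H (m * t) (a * t + e * j)) i := by
    intro j
    induction j with
    | zero => intro _; simpa using conc_fam_mul hL hH.1 hc ht
    | succ j ih =>
      intro hj
      have hj0 : a * t + e * j ≤ b * t := le_trans (by rw [Nat.mul_succ]; omega) hj
      have hin : ∀ y, a * t ≤ y → y ≤ b * t →
          (a : ℝ) / m ≤ (y : ℝ) / ((m * t : ℕ) : ℝ) ∧ (y : ℝ) / ((m * t : ℕ) : ℝ) ≤ (b : ℝ) / m := fun y h1 h2 => by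
        have h1' : (a : ℝ) * t ≤ y := by exact_mod_cast h1
        have h2' : (y : ℝ) ≤ b * t := by exact_mod_cast h2
        have htR : (0 : ℝ) < t := Nat.cast_pos.2 ht
        rw [Nat.cast_mul, div_le_div_iff₀ hmR (mul_pos hmR htR), div_le_div_iff₀ (mul_pos hmR htR) hmR]
        constructor <;> nlinarith
      obtain ⟨hy1, hy2⟩ := hin _ (Nat.le_add_right _ _) hj
      obtain ⟨j₁, -, hj₁⟩ := exists_conc_fam hg hL hH.1 hΦ (Nat.mul_pos hm ht) (a * t + e * (j + 1))
        (hne _ hy1 hy2)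
      by_cases hh : j₁ = i
      · exact hh ▸ hj₁
      exfalso
      have hci := ih hj0
      have hb := hC (m * t) (a * t + e * j) i hig fun p hp1 hp2 => by
        obtain rfl : p = 1 := by omega
        exact ⟨j₁, by rwa [show a * t + e * j + e * 1 = a * t + e * (j + 1) by ring], by omega⟩
      have habs := abs_eval_mul_pow hg hL hH.1 hΦ (Nat.mul_pos hm ht) (a * t + e * j) hci
      obtain ⟨hz1, hz2⟩ := hin _ (Nat.le_add_right _ _) hj0
      have hlow : ((m * t : ℕ) : ℝ) ^ g * c ≤ (C : ℝ) * (((m : ℝ) + b + 1) * t) ^ (g - 1) := by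
        have hb' : (@hd k _ A.left ⟨A.hom⟩ (fam L H (m * t) (a * t + e * j)) i : ℝ) ≤
            (C : ℝ) * ((m * t + (a * t + e * j) + 1 : ℕ) : ℝ) ^ (g - 1) := by exact_mod_cast hb
        refine le_trans (mul_le_mul_of_nonneg_left (hmin ⟨hz1, hz2⟩) (by positivity)) (habs.le.trans (hb'.trans ?_))
        have : ((m * t + (a * t + e * j) + 1 : ℕ) : ℝ) ≤ ((m : ℝ) + b + 1) * t := by
          have : m * t + (a * t + e * j) + 1 ≤ (m + b + 1) * t := by
            rw [Nat.add_mul, Nat.add_mul, Nat.one_mul]; omega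
          exact_mod_cast this
        gcongr
      obtain ⟨g', rfl⟩ : ∃ g', g = g' + 1 := ⟨g - 1, by omega⟩
      rw [Nat.add_sub_cancel] at hlow hT
      rw [div_lt_iff₀ (by positivity)] at hT
      push_cast at hlow
      have htg : (0 : ℝ) < (t : ℝ) ^ g' := pow_pos (Nat.cast_pos.2 ht) _
      rw [mul_pow, mul_pow, pow_succ ((t : ℝ))] at hlow
      have hpos : (0 : ℝ) < c * (m : ℝ) ^ (g' + 1) := by positivity
      nlinarith [mul_lt_mul_of_pos_right (lt_trans hT (mul_lt_mul_of_pos_right hTt hpos)) htg]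
  have hbt : a * t + e * ((b - a) * (T + 1)) = b * t := by
    rw [show e * ((b - a) * (T + 1)) = (b - a) * t by simp only [t]; ring, ← Nat.add_mul, Nat.add_sub_cancel' hab]
  have hlast := key _ hbt.le
  rw [hbt] at hlast
  exact conc_unique hlast (conc_fam_mul hL hH.1 hc₁ ht)

end Groth.Agent.L26.Mumford
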