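import Groth.Agent.L26.Mumford.Jump

/-!
Roots of the Hilbert polynomial and indices, over any field.
-/

set_option autoImplicit false
set_option linter.style.haveILetI false
set_option linter.unusedSectionVars false
set_option maxSynthPendingDepth 3
set_option backward.isDefEq.respectTransparency false
set_option backward.isDefEq.respectTransparency.types false

universe u

open CategoryTheory CategoryTheory.Limits MonoidalCategory CartesianMonoidalCategory AlgebraicGeometry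
open Polynomial

noncomputable section

namespace Groth.Agent.L26.Mumford

attribute [local instance] Groth.L08.Cube.clMonoid

variable {k : Type u} [Field k] {A : Over (Spec (CommRingCat.of k))} [GrpObj A] [IsProper A.hom]
  [GeometricallyIntegral A.hom] {L H M : A.left.Modules}

theorem cl_eq_one_zero (L H : A.left.Modules) : PicF.cl L = PicF.cl L ^ 1 * PicF.cl H ^ 0 := by
  rw [pow_one, pow_zero, _root_.mul_one]

theorem cl_eq_one_one (hM : Nonempty (M ≅ CohB1.tensorMod L H)) : PicF.cl M = PicF.cl L ^ 1 * PicF.cl H ^ 1 := by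
  rw [pow_one, pow_one]
  exact (PicGrp.cl_eq_cl_iff _ _).2 hM

theorem isInvertible_of_tensor (hL : PicF.IsInvertible L) (hH : PicF.IsInvertible H)
    (hM : Nonempty (M ≅ CohB1.tensorMod L H)) : PicF.IsInvertible M :=
  Groth.L18.Ample.isInvertible_of_iso hM.some.symm (Groth.L18.GenLoc.isInvertible_tensor hL hH)

/-- Different indices force a root in the unit interval. -/
theorem exists_root_of_index_ne (hL : PicF.IsInvertible L) (hH : CohB1.IsAmple H)
    (hM : Nonempty (M ≅ CohB1.tensorMod L H)) {i i' : ℕ} (hi : Conc L i) (hi' : Conc M i') (hii' : i ≠ i')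
    {Φ : ℚ[X]} (hΦ : ∀ n : ℕ, Φ.eval (n : ℚ) =
      (@Curv2.euler k _ A.left ⟨A.hom⟩ (CohB1.tensorMod L (CohB1.tensorPow H n)) : ℚ)) :
    ∃ t : ℝ, 0 ≤ t ∧ t ≤ 1 ∧ (Φ.map (algebraMap ℚ ℝ)).eval t = 0 := by
  obtain ⟨g, -, hg⟩ := Groth.L08.GrpDim.exists_dim A
  obtain ⟨K, _, _, B, _, _, _, L', H', hgB, hL', hH', hΦ', hconc⟩ := exists_closed_data hg hL hH hΦ
  by_contra h
  simp only [not_exists, not_and] at h
  have h0 : Conc (fam L' H' 1 0) i := (hconc 1 0 i L hL (cl_eq_one_zero L H)).2 hi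
  have h1 : Conc (fam L' H' 1 1) i' :=
    (hconc 1 1 i' M (isInvertible_of_tensor hL hH.1 hM) (cl_eq_one_one hM)).2 hi'
  refine hii' (conc_unique (index_segment hgB hL' hH' hΦ' one_pos zero_le_one (fun t ht1 ht2 => ?_) h0) h1)
  exact h t (by simpa using ht1) (by simpa using ht2)

/-- The jump at the only root is bounded by its multiplicity. -/
theorem index_le_add_rootMultiplicity (hL : PicF.IsInvertible L) (hH : CohB1.IsAmple H)
    (hM : Nonempty (M ≅ CohB1.tensorMod L H)) {i i' : ℕ} (hi : Conc L i) (hi' : Conc M i')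
    {Φ : ℚ[X]} (hΦ : ∀ n : ℕ, Φ.eval (n : ℚ) =
      (@Curv2.euler k _ A.left ⟨A.hom⟩ (CohB1.tensorMod L (CohB1.tensorPow H n)) : ℚ))
    {τ : ℝ} (hτ0 : 0 ≤ τ) (hτ1 : τ < 1) (hτ : (Φ.map (algebraMap ℚ ℝ)).eval τ = 0)
    (huniq : ∀ t : ℝ, 0 ≤ t → t ≤ 1 → (Φ.map (algebraMap ℚ ℝ)).eval t = 0 → t = τ) :
    i ≤ i' + (Φ.map (algebraMap ℚ ℝ)).rootMultiplicity τ := by
  obtain ⟨g, -, hg⟩ := Groth.L08.GrpDim.exists_dim A
  obtain ⟨K, _, _, B, _, _, _, L', H', hgB, hL', hH', hΦ', hconc⟩ := exists_closed_data hg hL hH hΦ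
  have h0 : Conc (fam L' H' 1 0) i := (hconc 1 0 i L hL (cl_eq_one_zero L H)).2 hi
  have h1 : Conc (fam L' H' 1 1) i' :=
    (hconc 1 1 i' M (isInvertible_of_tensor hL hH.1 hM) (cl_eq_one_one hM)).2 hi'
  refine index_le_add hgB hL' hH' hΦ' h0 h1 (lt_of_le_of_ne hτ0 fun h => ?_) hτ1 hτ huniq
  subst h
  letI : B.left.Over (Spec (CommRingCat.of K)) := ⟨B.hom⟩
  refine euler_ne_zero_of_conc (isInvertible_fam hL' hH'.1 1 0) h0 ?_
  have he := euler_fam hgB hL' hH'.1 hΦ' one_pos 0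
  rw [show (0 : ℝ) = algebraMap ℚ ℝ 0 from (map_zero _).symm, Polynomial.eval_map, Polynomial.eval₂_at_apply] at hτ
  replace hτ := (algebraMap ℚ ℝ).injective hτ
  rw [Nat.cast_zero, zero_div, hτ, mul_zero] at he
  exact_mod_cast he

end Groth.Agent.L26.Mumford
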