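import Groth.Agent.L26.Mumford.Geom
import Groth.Agent.L17.BC.LocFree
import Groth.Agent.L17.ProperCoh
import Groth.Agent.L20.ModStalk
import Groth.Agent.L26.Pic0.Edge
import Groth.Agent.L07.BvdB.PointEfface
import Groth.Agent.L21.RR.Coh
import Groth.Agent.L27.CohAmple.Top

/-!
The higher direct images of a Poincaré-like class: a skyscraper at the origin.
-/

set_option autoImplicit false
set_option linter.style.haveILetI false
set_option linter.unusedSectionVars false
set_option maxSynthPendingDepth 3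
set_option backward.isDefEq.respectTransparency false
set_option backward.isDefEq.respectTransparency.types false

universe u

open CategoryTheory CategoryTheory.Limits MonoidalCategory CartesianMonoidalCategory MonObj GrpObj AlgebraicGeometry
open IsLocalRing
open Groth.L01.FlatCx (bc unitEquiv)
open scoped TensorProduct

noncomputable section

namespace Groth.Agent.L26.Mumford

section Alg

variable {R : Type u} [CommRing R]

open Groth.L01.FlatCx in
/-- The homology of a finite free complex is finite. -/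
theorem finite_homology [IsNoetherianRing R] (L : CochainComplex (ModuleCat.{u} R) ℤ)
    (hL : ∀ i, Module.Finite R (L.X i) ∧ Module.Free R (L.X i)) (i : ℤ) :
    Module.Finite R (L.homology i) := by
  haveI := (hL i).1
  haveI := isNoetherian_of_isNoetherianRing_of_finite R (L.X i)
  haveI : Module.Finite R (Cyc' L i) := Module.Finite.iff_fg.2 (IsNoetherian.noetherian _)
  exact Module.Finite.of_surjective _ (cls'_surjective L i)

/-- The support of the homology lies among the points with nonzero fibre dimension. -/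
theorem dRank_ne_zero_of_mem_support [IsNoetherianRing R] (L : CochainComplex (ModuleCat.{u} R) ℤ)
    (hL : ∀ i, Module.Finite R (L.X i) ∧ Module.Free R (L.X i)) (i : ℤ) (p : PrimeSpectrum R)
    (hp : p ∈ Module.support R (L.homology i : Type u)) : CohIII.dRank L i p ≠ 0 := by
  obtain ⟨j, rfl⟩ : ∃ j, i = j + 1 := ⟨i - 1, by ring⟩
  intro h0
  have hLf : ∀ i, Module.Finite R (L.X i) ∧ Module.Flat R (L.X i) := fun i =>
    haveI := (hL i).2
    ⟨(hL i).1, inferInstance⟩
  haveI : Module.Finite R (L.homology (j + 1)) :=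
    finite_homology L hL (j + 1)
  obtain ⟨h1, h2⟩ := Groth.L17.BC.Crit.freeC_of_dRank_eq_zero L hLf p h0
  have hmu : Groth.L01.FlatCx.mu (L.homology (j + 1) : Type u) p = 0 :=
    (Groth.L17.BC.Crit.mem_freeLocus_homology L hLf p h1 h2).2.symm.trans h0
  rw [Module.mem_support_iff_nontrivial_residueField_tensorProduct] at hp
  exact @finrank_ne_zero p.asIdeal.ResidueField _ (p.asIdeal.ResidueField ⊗[R] (L.homology (j + 1) : Type u)) _ _
    (Module.Finite.base_change R p.asIdeal.ResidueField _) hp hmu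

/-- A module supported at a closed point is its own localisation there. -/
theorem bijective_of_support {m : Ideal R} [hm : m.IsMaximal] {M M' : Type u} [AddCommGroup M] [Module R M]
    [Module.Finite R M] [AddCommGroup M'] [Module R M'] (f : M →ₗ[R] M') [IsLocalizedModule m.primeCompl f]
    (hs : ∀ p ∈ Module.support R M, p.asIdeal = m) : Function.Bijective f := by
  have hu : ∀ s : R, s ∉ m → ∃ t : R, ∀ x : M, t • s • x = x := fun s hsm => by
    have htop : Module.annihilator R M ⊔ Ideal.span {s} = ⊤ := by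
      by_contra h
      obtain ⟨J, hJ, hle⟩ := Ideal.exists_le_maximal _ h
      have hJm : J = m := hs ⟨J, hJ.isPrime⟩ (by
        rw [Module.support_eq_zeroLocus]
        exact le_sup_left.trans hle)
      exact hsm (hJm ▸ hle (Ideal.mem_sup_right (Ideal.mem_span_singleton_self s)))
    obtain ⟨c, hc, d, hd, hcd⟩ := Submodule.mem_sup.1 ((Ideal.eq_top_iff_one _).1 htop)
    obtain ⟨t, rfl⟩ := Ideal.mem_span_singleton'.1 hd
    refine ⟨t, fun x => ?_⟩
    have h := congrArg (· • x) hcd
    simp only [add_smul, Module.mem_annihilator.1 hc x, zero_add, one_smul, mul_smul] at h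
    exact h
  refine ⟨(injective_iff_map_eq_zero f).2 fun x hx => ?_, fun y => ?_⟩
  · obtain ⟨s, hs'⟩ := (IsLocalizedModule.eq_zero_iff m.primeCompl f).1 hx
    obtain ⟨t, ht⟩ := hu s s.2
    rw [← ht x, show (s : R) • x = 0 from hs', smul_zero]
  · obtain ⟨⟨x, s⟩, hx⟩ := IsLocalizedModule.surj m.primeCompl f y
    obtain ⟨t, ht⟩ := hu s s.2
    refine ⟨t • x, ((Module.End.isUnit_iff _).1 (IsLocalizedModule.map_units f s)).1 ?_⟩
    show (s : R) • f (t • x) = (s : R) • y
    rw [show (s : R) • y = f x from hx, ← map_smul, smul_comm, ht x]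

end Alg

section Geometry

open Groth.L17.BC (Model)

variable {k : Type u} [Field k] {A Q : Over (Spec (CommRingCat.of k))} [GrpObj A] [GrpObj Q]
  [IsProper A.hom] [Smooth A.hom] [GeometricallyConnected A.hom] [IsProper Q.hom] [Smooth Q.hom]
  {c : PicF.Cl (PicF.XT A.hom Q)} (hc : PoincareLike A Q c) (P : (PicF.XT A.hom Q).Modules)
  (hP : PicF.cl P = c) (hPi : PicF.IsInvertible P) (g : ℕ) (hgA : topologicalKrullDim ↥A.left = g)
  (hgQ : topologicalKrullDim ↥Q.left = g)

include hc hP hPi hgA hgQ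

set_option maxHeartbeats 1600000 in
set_option synthInstance.maxHeartbeats 200000 in
/-- The higher direct images on an affine open. -/
theorem sections_Rpush [HasInjectiveResolutions (PicF.XT A.hom Q).Modules] {V : Q.left.Opens} (hV : IsAffineOpen V)
    (i : ℕ) :
    (∀ p ∈ Module.support Γ(Q.left, V) Γ((Coh.Rpush (PicF.XTproj A.hom Q) i).obj P, V), hV.fromSpec p = orig Q) ∧
    (i ≠ g → Subsingleton Γ((Coh.Rpush (PicF.XTproj A.hom Q) i).obj P, V)) ∧
    Module.Finite Γ(Q.left, V) Γ((Coh.Rpush (PicF.XTproj A.hom Q) i).obj P, V) ∧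
    ∀ he : orig Q ∈ V, i = g →
      letI : Algebra Γ(Q.left, V) (oRing Q) := (Q.left.presheaf.germ V (orig Q) he).hom.toAlgebra
      Nonempty (Γ((Coh.Rpush (PicF.XTproj A.hom Q) i).obj P, V) ≃ₗ[Γ(Q.left, V)]
        oRing Q ⧸ maximalIdeal (oRing Q)) := by
  haveI : IsLocallyNoetherian Q.left := LocallyOfFiniteType.isLocallyNoetherian Q.hom
  haveI : IsNoetherianRing Γ(Q.left, V) := IsLocallyNoetherian.component_noetherian ⟨V, hV⟩
  let R : CommRingCat.{u} := Γ(Q.left, V)
  haveI : IsNoetherianRing R := ‹_›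
  let τ : Spec R ⟶ Spec (CommRingCat.of k) := hV.fromSpec ≫ Q.hom
  let v : Over.mk τ ⟶ Q := Over.homMk hV.fromSpec rfl
  let gV : PicF.XT A.hom (Over.mk τ) ⟶ Spec R := PicF.XTproj A.hom (Over.mk τ)
  haveI : IsProper gV := inferInstanceAs (IsProper (pullback.snd A.hom τ))
  haveI : Flat gV := inferInstanceAs (Flat (pullback.snd A.hom τ))
  haveI : IsProper (PicF.XTproj A.hom (Over.mk τ)) := ‹IsProper gV›
  haveI : IsLocallyNoetherian (PicF.XT A.hom (Over.mk τ)) := LocallyOfFiniteType.isLocallyNoetherian gV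
  have hPv : PicF.IsInvertible (PMod P v) := PicLoc.isInvertible_pullback _ hPi
  haveI : Coh.IsQCoh (PMod P v) := Groth.L21.Extend.isQCoh_of_isInvertible hPv
  obtain ⟨m⟩ := Groth.L17.BC.nonempty_model (A := R) gV (PMod P v)
    (Groth.L16.ProperFinite.isCoh_of_isInvertible hPv)
    (fun W hW => Groth.L08.Cube.flat_sections gV hPv W hW)
  -- the sections of the higher direct image
  have sqv : IsPullback (PicF.XTmap A.hom v) gV (PicF.XTproj A.hom Q) hV.fromSpec :=
    Groth.Agent.L26.PicSm.isPullback_XTmap A.hom v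
  haveI : IsOpenImmersion (PicF.XTmap A.hom v) := MorphismProperty.of_isPullback sqv.flip inferInstance
  haveI : QuasiCompact (PicF.XTproj A.hom Q) := inferInstanceAs (QuasiCompact (pullback.snd A.hom Q.hom))
  haveI : QuasiSeparated (PicF.XTproj A.hom Q) := inferInstanceAs (QuasiSeparated (pullback.snd A.hom Q.hom))
  haveI : Coh.IsQCoh P := Groth.L21.Extend.isQCoh_of_isInvertible hPi
  haveI : Coh.IsQCoh (P.restrict (PicF.XTmap A.hom v)) := Scheme.Modules.isQuasicoherent_restrictFunctor _ P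
  haveI := Groth.L17.PushQCoh.hasInjectiveResolutions (PicF.XT A.hom (Over.mk τ))
  haveI := Groth.L17.PushQCoh.isQCoh_Rpush (PicF.XTproj A.hom Q) P i
  have hr : PicF.XTproj A.hom Q ⁻¹ᵁ hV.fromSpec.opensRange ≤ (PicF.XTmap A.hom v).opensRange := by
    intro x hx
    obtain ⟨s, hs⟩ := hx
    obtain ⟨z, hz, -⟩ := Scheme.Pullback.exists_preimage_pullback x s hs.symm
    refine ⟨sqv.isoPullback.inv z, ?_⟩
    rw [← Scheme.Hom.comp_apply, sqv.isoPullback_inv_fst]
    exact hz
  obtain ⟨i₁⟩ := Groth.L17.PushQCoh.nonempty_Rpush_restrict_iso (PicF.XTproj A.hom Q) hV.fromSpec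
    (PicF.XTmap A.hom v) gV hr sqv.w.symm P i
  obtain ⟨N, eN, ⟨εN⟩⟩ := Groth.L17.BC.Classes.exists_chart ((Coh.Rpush (PicF.XTproj A.hom Q) i).obj P) hV
  obtain ⟨eΓ⟩ := Groth.L17.ProperCoh.nonempty_Γ_Rpush_equiv (R := R) gV (P.restrict (PicF.XTmap A.hom v)) i
  obtain ⟨θ⟩ := nonempty_HH_congr (B := R) gV ((Scheme.Modules.restrictFunctorIsoPullback (PicF.XTmap A.hom v)).app P) i
  obtain ⟨em⟩ := m.exists_equiv_self (p := i)
  letI : Module R (Coh.HH (PicF.XT A.hom (Over.mk τ)) (P.restrict (PicF.XTmap A.hom v)) i) :=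
    Module.compHom _ (Coh.toGlobal (A := R) gV)
  letI : Module R (Coh.HH (PicF.XT A.hom (Over.mk τ)) (PMod P v) i) :=
    Module.compHom _ (Coh.toGlobal (A := R) gV)
  let E : Γ((Coh.Rpush (PicF.XTproj A.hom Q) i).obj P, V) ≃ₗ[R] (m.L.homology (i : ℤ) : Type u) :=
    εN.symm ≪≫ₗ ((tilde.toTildeΓNatIso.app N) ≪≫ (moduleSpecΓFunctor (R := R)).mapIso (eN.symm ≪≫ i₁)).toLinearEquiv
      ≪≫ₗ eΓ.symm ≪≫ₗ θ ≪≫ₗ em.symm
  haveI : Module.Finite R (m.L.homology (i : ℤ) : Type u) := finite_homology m.L m.finiteFree _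
  -- the support
  have hsupp : ∀ p ∈ Module.support R (m.L.homology (i : ℤ) : Type u), hV.fromSpec p = orig Q := by
    intro p hp
    by_contra hne
    refine dRank_ne_zero_of_mem_support m.L m.finiteFree (i : ℤ) p hp ?_
    let K := AlgebraicClosure p.asIdeal.ResidueField
    letI : Algebra R K := ((algebraMap p.asIdeal.ResidueField K).comp (algebraMap R p.asIdeal.ResidueField)).toAlgebra
    have hcomap : PrimeSpectrum.comap (algebraMap R K) ⊥ = p := by
      refine PrimeSpectrum.ext ?_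
      show RingHom.ker ((algebraMap p.asIdeal.ResidueField K).comp (algebraMap R p.asIdeal.ResidueField)) = _
      rw [RingHom.ker_comp_of_injective _ (RingHom.injective _)]
      exact Ideal.ker_algebraMap_residueField p.asIdeal
    let h : Over.mk (Spec.map (CommRingCat.ofHom (algebraMap R K)) ≫ τ) ⟶ Over.mk τ :=
      Over.homMk (Spec.map (CommRingCat.ofHom (algebraMap R K))) rfl
    have hne' : h ≫ v ≠ 1 := fun e => hne (by
      haveI : Subsingleton ↥(Spec (CommRingCat.of k)) := inferInstanceAs (Subsingleton (PrimeSpectrum k))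
      haveI : Subsingleton ↥(𝟙_ (Over (Spec (CommRingCat.of k)))).left :=
        inferInstanceAs (Subsingleton (PrimeSpectrum k))
      have e1 := congrArg (fun u : Over.mk (Spec.map (CommRingCat.ofHom (algebraMap R K)) ≫ τ) ⟶ Q =>
        u.left (⊥ : PrimeSpectrum K)) e
      simp only [Hom.one_def, Over.comp_left, Over.toUnit_left, Scheme.Hom.comp_apply] at e1
      rw [← hcomap]
      exact e1.trans (congrArg η[Q].left (Subsingleton.elim _ _)))
    haveI := vanish_fibre hc P hP hPi _ (h ≫ v) hne' i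
    obtain ⟨e⟩ := nonempty_model_equiv (B := CommRingCat.of K) P τ _ h rfl v m i
    rw [← hcomap, ← Groth.L17.BC.finrank_homology_bc m.L K (i : ℤ)]
    haveI : Subsingleton ((bc K m.L).homology (i : ℤ) : Type u) := e.toEquiv.subsingleton
    exact Module.finrank_zero_of_subsingleton
  refine ⟨fun p hp => hsupp p (by rwa [← E.support_eq]), fun hig => ?_, Module.Finite.equiv E.symm, ?_⟩
  all_goals
    have hloc : ∀ he : orig Q ∈ V,
        letI : Algebra R (oRing Q) := (Q.left.presheaf.germ V (orig Q) he).hom.toAlgebra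
        (i ≠ g → Subsingleton (m.L.homology (i : ℤ) : Type u)) ∧
        (i = g → Nonempty ((m.L.homology (i : ℤ) : Type u) ≃ₗ[R] oRing Q ⧸ maximalIdeal (oRing Q))) := by
      intro he
      letI : Algebra R (oRing Q) := (Q.left.presheaf.germ V (orig Q) he).hom.toAlgebra
      haveI : IsLocalization.AtPrime (oRing Q) (hV.primeIdealOf ⟨orig Q, he⟩).asIdeal :=
        hV.isLocalization_stalk ⟨orig Q, he⟩
      let 𝔪 := (hV.primeIdealOf ⟨orig Q, he⟩).asIdeal
      haveI : 𝔪.IsMaximal := (PrimeSpectrum.isClosed_singleton_iff_isMaximal _).1 (by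
        have hq : ({hV.primeIdealOf ⟨orig Q, he⟩} : Set (Spec R)) = hV.fromSpec ⁻¹' {orig Q} := by
          refine Set.ext fun q => ⟨fun hq => ?_, fun hq => hV.fromSpec.isOpenEmbedding.injective ?_⟩
          · rw [Set.mem_singleton_iff.1 hq]
            exact hV.fromSpec_primeIdealOf ⟨orig Q, he⟩
          · exact (Set.mem_singleton_iff.1 hq).trans (hV.fromSpec_primeIdealOf ⟨orig Q, he⟩).symm
        exact hq ▸ (isClosed_orig (Q := Q)).preimage hV.fromSpec.continuous)
      let h : Over.mk (oMap Q) ⟶ Over.mk τ :=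
        Over.homMk (Spec.map (CommRingCat.ofHom (algebraMap R (oRing Q)))) (by
          show Spec.map (Q.left.presheaf.germ V (orig Q) he) ≫ hV.fromSpec ≫ Q.hom = oMap Q
          rw [← Category.assoc]
          exact congrArg (· ≫ Q.hom) (hV.fromSpecStalk_eq_fromSpecStalk he))
      have hv : h ≫ v = oPt Q := Over.OverMorphism.ext (hV.fromSpecStalk_eq_fromSpecStalk he)
      obtain ⟨e1⟩ := nonempty_model_equiv (B := oRing Q) P τ (oMap Q) h rfl v m i
      obtain ⟨_, hprop, mo, h0, ⟨ht⟩, -⟩ := local_main hc P hP hPi g hgA hgQ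
      haveI : Coh.IsQCoh (PMod P (oPt Q)) :=
        Groth.L21.Extend.isQCoh_of_isInvertible (PicLoc.isInvertible_pullback _ hPi)
      obtain ⟨e2⟩ := mo.exists_equiv_self (p := i)
      obtain ⟨e3⟩ := nonempty_HH_congr (B := oRing Q) (PicF.XTproj A.hom (Over.mk (oMap Q)))
        (eqToIso (congrArg (fun y => PMod P y) hv)) i
      letI : Module (oRing Q) (Coh.HH (PicF.XT A.hom (Over.mk (oMap Q))) (PMod P (h ≫ v)) i) :=
        Module.compHom _ (Coh.toGlobal (A := oRing Q) (PicF.XTproj A.hom (Over.mk (oMap Q))))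
      letI : Module (oRing Q) (Coh.HH (PicF.XT A.hom (Over.mk (oMap Q))) (PMod P (oPt Q)) i) :=
        Module.compHom _ (Coh.toGlobal (A := oRing Q) (PicF.XTproj A.hom (Over.mk (oMap Q))))
      haveI : Module.Flat R (oRing Q) := IsLocalization.flat (oRing Q) 𝔪.primeCompl
      obtain ⟨e4⟩ := Groth.L01.FlatCx.nonempty_homology_bc (oRing Q) m.L (i : ℤ)
        (Groth.L01.FlatCx.bijective_tMap_of_flat m.L (i : ℤ) (ModuleCat.of R (oRing Q)))
      let F : (oRing Q ⊗[R] (m.L.homology (i : ℤ) : Type u)) ≃ₗ[oRing Q] (mo.L.homology (i : ℤ) : Type u) :=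
        LinearEquiv.baseChange R (oRing Q) _ _ (unitEquiv m.L (i : ℤ)).symm ≪≫ₗ e4.symm ≪≫ₗ e1 ≪≫ₗ e3 ≪≫ₗ e2.symm
      let f := TensorProduct.mk R (oRing Q) (m.L.homology (i : ℤ) : Type u) 1
      haveI : IsLocalizedModule 𝔪.primeCompl f :=
        (isLocalizedModule_iff_isBaseChange 𝔪.primeCompl (oRing Q) f).2 (TensorProduct.isBaseChange R _ (oRing Q))
      have hf : Function.Bijective f := bijective_of_support f fun p hp =>
        congrArg PrimeSpectrum.asIdeal (hV.fromSpec.isOpenEmbedding.injective (a₁ := p)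
          (a₂ := hV.primeIdealOf ⟨orig Q, he⟩) ((hsupp p hp).trans (hV.fromSpec_primeIdealOf ⟨orig Q, he⟩).symm))
      refine ⟨fun hne => ?_, fun hig => ?_⟩
      · haveI := h0 (i : ℤ) (by exact_mod_cast hne)
        exact ((LinearEquiv.ofBijective f hf).toEquiv.trans F.toEquiv).subsingleton
      · subst hig
        exact ⟨LinearEquiv.ofBijective f hf ≪≫ₗ (F ≪≫ₗ ht).restrictScalars R⟩
  · by_cases he : orig Q ∈ V
    · haveI := (hloc he).1 hig
      exact E.toEquiv.subsingleton
    · haveI : Subsingleton (m.L.homology (i : ℤ) : Type u) := Module.support_eq_empty_iff.1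
        (Set.eq_empty_iff_forall_notMem.2 fun p hp => he (by
          rw [← hsupp p hp]
          exact hV.range_fromSpec.le ⟨p, rfl⟩))
      exact E.toEquiv.subsingleton
  · intro he hig
    letI : Algebra R (oRing Q) := (Q.left.presheaf.germ V (orig Q) he).hom.toAlgebra
    obtain ⟨e⟩ := (hloc he).2 hig
    exact ⟨E ≪≫ₗ e⟩

end Geometry


/-- Direct image along a composite with an isomorphism. -/
theorem nonempty_push_comp {X Z Y : Scheme.{u}} (a : X ⟶ Z) [IsIso a] (b : Z ⟶ Y) (f : X ⟶ Y) (h : a ≫ b = f) :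
    Nonempty ((Coh.push b).obj (Coh.structureModule Z) ≅ (Coh.push f).obj (Coh.structureModule X)) := by
  subst h
  obtain ⟨eI⟩ := Groth.L27.CohAmple.nonempty_pushUnit_of_isIso a
  exact ⟨(Coh.push b).mapIso eI.symm ≪≫ (Scheme.Modules.pushforwardComp a b).app (Coh.structureModule X)⟩

section Global

variable {k : Type u} [Field k] {A Q : Over (Spec (CommRingCat.of k))} [GrpObj A] [GrpObj Q]
  [IsProper A.hom] [Smooth A.hom] [GeometricallyConnected A.hom] [IsProper Q.hom] [Smooth Q.hom]
  {c : PicF.Cl (PicF.XT A.hom Q)} (hc : PoincareLike A Q c) (P : (PicF.XT A.hom Q).Modules)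
  (hP : PicF.cl P = c) (hPi : PicF.IsInvertible P) (g : ℕ) (hgA : topologicalKrullDim ↥A.left = g)
  (hgQ : topologicalKrullDim ↥Q.left = g) [HasInjectiveResolutions (PicF.XT A.hom Q).Modules]

include hc hP hPi hgA hgQ

/-- The higher direct images vanish away from the origin. -/
theorem subsingleton_stalk_Rpush (i : ℕ) (y : Q.left) (hy : i ≠ g ∨ y ≠ orig Q) :
    Subsingleton (((Coh.Rpush (PicF.XTproj A.hom Q) i).obj P).presheaf.stalk y) := by
  let O : Q.left.Opens := if i ≠ g then ⊤ else ⟨({orig Q} : Set Q.left)ᶜ, isClosed_orig.isOpen_compl⟩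
  have hyO : y ∈ O := by
    simp only [O]
    split_ifs with h
    · trivial
    · exact hy.resolve_left h
  obtain ⟨_, ⟨V, hV, rfl⟩, hyV, hVO⟩ :=
    Q.left.isBasis_affineOpens.exists_subset_of_mem_open (show y ∈ (O : Set Q.left) from hyO) O.2
  haveI : Coh.IsQCoh P := Groth.L21.Extend.isQCoh_of_isInvertible hPi
  haveI := Groth.L17.PushQCoh.isQCoh_Rpush (PicF.XTproj A.hom Q) P i
  obtain ⟨hsupp, hne, -, -⟩ := sections_Rpush hc P hP hPi g hgA hgQ hV i
  haveI : Subsingleton Γ((Coh.Rpush (PicF.XTproj A.hom Q) i).obj P, V) := by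
    by_cases h : i ≠ g
    · exact hne h
    · refine (Module.support_eq_empty_iff (R := Γ(Q.left, V))).1 (Set.eq_empty_iff_forall_notMem.2 fun p hp => ?_)
      have hmem := hVO (hV.range_fromSpec.le ⟨p, rfl⟩)
      simp only [O, if_neg h] at hmem
      exact hmem (hsupp p hp)
  letI := Groth.L20.ModStalk.stalkModule ((Coh.Rpush (PicF.XTproj A.hom Q) i).obj P) hyV
  haveI := Groth.L20.ModStalk.isLocalizedModule_germ ((Coh.Rpush (PicF.XTproj A.hom Q) i).obj P) hV hyV
  refine subsingleton_of_forall_eq 0 fun z => ?_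
  obtain ⟨⟨m, s⟩, hz⟩ := IsLocalizedModule.surj (hV.primeIdealOf ⟨y, hyV⟩).asIdeal.primeCompl
    (Groth.L20.ModStalk.germₗ ((Coh.Rpush (PicF.XTproj A.hom Q) i).obj P) hyV) z
  rw [Subsingleton.elim m 0, map_zero] at hz
  have hu := IsLocalizedModule.map_units (Groth.L20.ModStalk.germₗ ((Coh.Rpush (PicF.XTproj A.hom Q) i).obj P) hyV) s
  exact ((Module.End.isUnit_iff _).1 hu).1 (hz.trans (map_zero _).symm)

theorem isZero_Rpush (i : ℕ) (hi : i ≠ g) : IsZero ((Coh.Rpush (PicF.XTproj A.hom Q) i).obj P) :=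
  (Groth.L21.Mod.isZero_iff_stalk_subsingleton _).2 fun y => subsingleton_stalk_Rpush hc P hP hPi g hgA hgQ i y (Or.inl hi)

/-- The stalk at the origin of the top higher direct image is the residue field. -/
theorem nonempty_stalk_Rpush :
    Nonempty ((Groth.L00.Stk.F Q.left (orig Q)).obj ((Coh.Rpush (PicF.XTproj A.hom Q) g).obj P) ≅
      Groth.L21.RR.resMod (orig Q)) := by
  let M := (Coh.Rpush (PicF.XTproj A.hom Q) g).obj P
  haveI : Coh.IsQCoh P := Groth.L21.Extend.isQCoh_of_isInvertible hPi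
  haveI : Coh.IsQCoh M := Groth.L17.PushQCoh.isQCoh_Rpush (PicF.XTproj A.hom Q) P g
  have hx : IsClosed ({orig Q} : Set Q.left) := isClosed_orig
  obtain ⟨_, ⟨V, hV, rfl⟩, heV, -⟩ :=
    Q.left.isBasis_affineOpens.exists_subset_of_mem_open (Set.mem_univ (orig Q)) isOpen_univ
  obtain ⟨hsupp, -, hfin, htop⟩ := sections_Rpush hc P hP hPi g hgA hgQ hV g
  obtain ⟨et⟩ := htop heV rfl
  letI algO : Algebra Γ(Q.left, V) (oRing Q) := (Q.left.presheaf.germ V (orig Q) heV).hom.toAlgebra
  haveI : IsLocalization.AtPrime (oRing Q) (hV.primeIdealOf ⟨orig Q, heV⟩).asIdeal :=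
    hV.isLocalization_stalk ⟨orig Q, heV⟩
  haveI : (hV.primeIdealOf ⟨orig Q, heV⟩).asIdeal.IsMaximal := (PrimeSpectrum.isClosed_singleton_iff_isMaximal _).1 (by
    have hq : ({hV.primeIdealOf ⟨orig Q, heV⟩} : Set (Spec Γ(Q.left, V))) = hV.fromSpec ⁻¹' {orig Q} := by
      refine Set.ext fun q => ⟨fun hq => ?_, fun hq => hV.fromSpec.isOpenEmbedding.injective ?_⟩
      · rw [Set.mem_singleton_iff.1 hq]
        exact hV.fromSpec_primeIdealOf ⟨orig Q, heV⟩
      · exact (Set.mem_singleton_iff.1 hq).trans (hV.fromSpec_primeIdealOf ⟨orig Q, heV⟩).symm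
    exact hq ▸ hx.preimage hV.fromSpec.continuous)
  letI := Groth.L20.ModStalk.stalkModule M heV
  haveI := Groth.L20.ModStalk.isLocalizedModule_germ M hV heV
  haveI : Module.Finite Γ(Q.left, V) Γ(M, V) := hfin
  have hg : Function.Bijective (Groth.L20.ModStalk.germₗ M heV) :=
    bijective_of_support (Groth.L20.ModStalk.germₗ M heV) fun p hp => congrArg PrimeSpectrum.asIdeal
      (hV.fromSpec.isOpenEmbedding.injective (a₁ := p) (a₂ := hV.primeIdealOf ⟨orig Q, heV⟩)
        ((hsupp p hp).trans (hV.fromSpec_primeIdealOf ⟨orig Q, heV⟩).symm))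
  haveI : IsScalarTower Γ(Q.left, V) (oRing Q) (M.presheaf.stalk (orig Q)) :=
    IsScalarTower.of_algebraMap_smul fun _ _ => rfl
  let eS : (M.presheaf.stalk (orig Q)) ≃ₗ[oRing Q] oRing Q ⧸ maximalIdeal (oRing Q) :=
    ((LinearEquiv.ofBijective _ hg).symm ≪≫ₗ et).extendScalarsOfIsLocalization
      (hV.primeIdealOf ⟨orig Q, heV⟩).asIdeal.primeCompl (oRing Q)
  exact ⟨LinearEquiv.toModuleIso
    (show ((Groth.L00.Stk.F Q.left (orig Q)).obj M : Type u) ≃ₗ[oRing Q] ResidueField (oRing Q) from eS)⟩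

omit hc hP hPi hgA hgQ in
/-- The structure sheaf of the origin. -/
theorem nonempty_pt_orig : Nonempty (Groth.L07.BvdB.PointSky.pt (orig Q) ≅
    (Coh.push η[Q].left).obj (Coh.structureModule (Spec (CommRingCat.of k)))) := by
  let f : Spec (CommRingCat.of k) ⟶ Q.left := η[Q].left
  let ev : Q.left.presheaf.stalk (f (closedPoint k)) ⟶ CommRingCat.of k := Scheme.stalkClosedPointTo f
  let d : Q.left.residueField (f (closedPoint k)) ⟶ CommRingCat.of k :=
    Q.left.descResidueField (Scheme.stalkClosedPointTo f)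
  have hd : Spec.map d ≫ Q.left.fromSpecResidueField (f (closedPoint k)) = f :=
    Scheme.descResidueField_stalkClosedPointTo_fromSpecResidueField k Q.left f
  haveI : IsIso d := by
    refine (ConcreteCategory.isIso_iff_bijective d).2 ⟨RingHom.injective d.hom, fun a => ?_⟩
    obtain ⟨ev', hev', hs', -⟩ := exists_ev Q
    have hev : ev' = ev := Spec.map_injective ((cancel_mono (Q.left.fromSpecStalk (orig Q))).1
      (hev'.trans (Scheme.Spec_stalkClosedPointTo_fromSpecStalk η[Q].left).symm))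
    obtain ⟨x, hx⟩ := hs' a
    refine ⟨Q.left.residue (f (closedPoint k)) x, ?_⟩
    exact (ConcreteCategory.congr_hom (Scheme.residue_descResidueField (Scheme.stalkClosedPointTo f)) x).trans
      ((ConcreteCategory.congr_hom hev.symm x).trans hx)
  exact nonempty_push_comp (Spec.map d) (Q.left.fromSpecResidueField (f (closedPoint k))) f hd

/-- The top higher direct image is the structure sheaf of the origin. -/
theorem nonempty_Rpush_top : Nonempty ((Coh.Rpush (PicF.XTproj A.hom Q) g).obj P ≅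
    (Coh.push η[Q].left).obj (Coh.structureModule (Spec (CommRingCat.of k)))) := by
  haveI : IsLocallyNoetherian Q.left := LocallyOfFiniteType.isLocallyNoetherian Q.hom
  haveI : IsProper (PicF.XTproj A.hom Q) := inferInstanceAs (IsProper (pullback.snd A.hom Q.hom))
  haveI : IsLocallyNoetherian (PicF.XT A.hom Q) := LocallyOfFiniteType.isLocallyNoetherian (PicF.XTproj A.hom Q)
  have hM : Coh.IsCoh ((Coh.Rpush (PicF.XTproj A.hom Q) g).obj P) :=
    Groth.L17.ProperCoh.isCoh_Rpush (PicF.XTproj A.hom Q) P (Groth.L16.ProperFinite.isCoh_of_isInvertible hPi) g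
  obtain ⟨N, -, ⟨eN⟩⟩ := Groth.L07.BvdB.PointEfface.exists_sky isClosed_orig hM fun y hy => by
    by_contra h
    exact hy (subsingleton_stalk_Rpush hc P hP hPi g hgA hgQ g y (Or.inr h))
  haveI := Groth.L00.Sky.isIso_counit (x := orig Q) N
  obtain ⟨eS⟩ := nonempty_stalk_Rpush hc P hP hPi g hgA hgQ
  let eK : N ≅ Groth.L21.RR.resMod (orig Q) := (asIso ((Groth.L00.Sky.adj (orig Q)).counit.app N)).symm ≪≫
    (Groth.L00.Stk.F Q.left (orig Q)).mapIso eN.symm ≪≫ eS
  obtain ⟨ep⟩ := Groth.L07.BvdB.PointSky.nonempty_iso_sky (orig Q)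
  obtain ⟨eo⟩ := nonempty_pt_orig (Q := Q)
  exact ⟨eN ≪≫ (Groth.L00.Sky.skyF (orig Q)).mapIso eK ≪≫ ep.symm ≪≫ eo⟩

end Global

section Cohomology

open Groth.L16.SectCmp

/-- The edge map is invertible when the higher direct images are supported at closed points. -/
theorem isIso_lerayEdgeOut_of_suppClosed {X Y Z : Scheme.{u}} [AlgebraicGeometry.IsNoetherian Y] (f : X ⟶ Y) (g : Y ⟶ Z)
    [HasInjectiveResolutions X.Modules] (M : X.Modules)
    (h : ∀ i, Groth.L21.RR.SuppClosed ((Coh.Rpush f i).obj M)) (p : ℕ) :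
    IsIso (CohBC.lerayEdgeOut f g p M) := by
  haveI : IsIso (RDer.homologyComparison (Scheme.Modules.pushforward g)
      (((Scheme.Modules.pushforward f).mapHomologicalComplex _).obj (injectiveResolution M).cocomplex) p) := by
    refine isIso_homologyComparison_of_class _ (exactClass_push g) _ (fun i W _ => ?_) (fun i W _ => ?_) p
    · haveI := (injectiveResolution M).injective i
      exact acy_push_injective f _ _
    · exact Acy.of_iso ((injectiveResolution M).isoRightDerivedObj (Scheme.Modules.pushforward f) i) fun m =>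
        Groth.L10.TopCoh.subsingleton_ext_of_flasque (X := Y.toTopCat) _ (Groth.L21.RR.isFlasque_of_suppClosed (h i))
          (g ⁻¹ᵁ W) m
  haveI : IsIso (RDer.edgeOut (Scheme.Modules.pushforward f) (Scheme.Modules.pushforward g) p M) :=
    IsIso.comp_isIso' inferInstance (IsIso.comp_isIso' inferInstance inferInstance)
  exact IsIso.comp_isIso' inferInstance inferInstance

/-- Direct image of the structure sheaf of a section. -/
theorem nonempty_push_section {S Y : Scheme.{u}} (s : S ⟶ Y) (g : Y ⟶ S) (h : s ≫ g = 𝟙 S) :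
    Nonempty ((Scheme.Modules.pushforward g).obj ((Coh.push s).obj (Coh.structureModule S)) ≅ Coh.structureModule S) := by
  obtain ⟨eI⟩ := Groth.L27.CohAmple.nonempty_pushUnit_of_isIso (𝟙 S)
  exact ⟨(Scheme.Modules.pushforwardComp s g).app (Coh.structureModule S) ≪≫
    (Scheme.Modules.pushforwardCongr h).app (Coh.structureModule S) ≪≫ eI⟩

variable {k : Type u} [Field k] {A Q : Over (Spec (CommRingCat.of k))} [GrpObj A] [GrpObj Q]
  [IsProper A.hom] [Smooth A.hom] [GeometricallyConnected A.hom] [IsProper Q.hom] [Smooth Q.hom]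
  {c : PicF.Cl (PicF.XT A.hom Q)} (hc : PoincareLike A Q c) (P : (PicF.XT A.hom Q).Modules)
  (hP : PicF.cl P = c) (hPi : PicF.IsInvertible P) (g : ℕ) (hgA : topologicalKrullDim ↥A.left = g)
  (hgQ : topologicalKrullDim ↥Q.left = g) [HasInjectiveResolutions (PicF.XT A.hom Q).Modules]
  (q : PicF.XT A.hom Q ⟶ Spec (CommRingCat.of k)) (hq : PicF.XTproj A.hom Q ≫ Q.hom = q)

include hc hP hPi hgA hgQ hq

/-- The cohomology on the total space. -/
theorem finrank_HH (i : ℕ) :
    letI : Module k (Coh.HH (PicF.XT A.hom Q) P i) := Module.compHom _ (Coh.toGlobal (A := k) q)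
    (i ≠ g → Subsingleton (Coh.HH (PicF.XT A.hom Q) P i)) ∧
      (i = g → Module.finrank k (Coh.HH (PicF.XT A.hom Q) P i) = 1) := by
  subst hq
  let f := PicF.XTproj A.hom Q
  letI : Module k (Coh.HH (PicF.XT A.hom Q) P i) := Module.compHom _ (Coh.toGlobal (A := k) (f ≫ Q.hom))
  haveI : IsLocallyNoetherian Q.left := LocallyOfFiniteType.isLocallyNoetherian Q.hom
  haveI : CompactSpace ↥(Spec (CommRingCat.of k)) := inferInstanceAs (CompactSpace (PrimeSpectrum k))
  haveI : CompactSpace ↥Q.left := QuasiCompact.compactSpace_of_compactSpace Q.hom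
  haveI : AlgebraicGeometry.IsNoetherian Q.left := {}
  haveI : IsProper f := inferInstanceAs (IsProper (pullback.snd A.hom Q.hom))
  haveI : Coh.IsQCoh P := Groth.L21.Extend.isQCoh_of_isInvertible hPi
  haveI := isIso_lerayEdgeOut_of_suppClosed f Q.hom P (fun j x hx => subsingleton_stalk_Rpush hc P hP hPi g hgA hgQ j x
    (Or.inr fun h => hx (h ▸ isClosed_orig))) i
  obtain ⟨e⟩ := Groth.L17.ProperCoh.nonempty_Γ_Rpush_equiv (R := CommRingCat.of k) (f ≫ Q.hom) P i
  let E := e ≪≫ₗ ((moduleSpecΓFunctor (R := CommRingCat.of k)).mapIso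
    (asIso (CohBC.lerayEdgeOut f Q.hom i P))).toLinearEquiv
  refine ⟨fun hi => ?_, fun hi => ?_⟩
  · haveI : (Scheme.Modules.pushforward Q.hom).Additive := Groth.L17.PushQCoh.additive_push _
    haveI : Subsingleton ↑((moduleSpecΓFunctor (R := CommRingCat.of k)).obj
        ((Scheme.Modules.pushforward Q.hom).obj ((Coh.Rpush f i).obj P))) :=
      Groth.Agent.Pic0.subsingleton_Γ_of_isZero
        ((Scheme.Modules.pushforward Q.hom).map_isZero (isZero_Rpush hc P hP hPi g hgA hgQ i hi)) _
    exact E.toEquiv.subsingleton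
  · subst hi
    obtain ⟨t⟩ := nonempty_Rpush_top hc P hP hPi i hgA hgQ
    obtain ⟨e0⟩ := nonempty_push_section (S := Spec (CommRingCat.of k)) η[Q].left Q.hom (Over.w η[Q])
    let j : (Scheme.Modules.pushforward Q.hom).obj ((Coh.Rpush f i).obj P) ≅
        Coh.structureModule (Spec (CommRingCat.of k)) :=
      (Scheme.Modules.pushforward Q.hom).mapIso t ≪≫ e0
    let E' := E ≪≫ₗ ((moduleSpecΓFunctor (R := CommRingCat.of k)).mapIso j).toLinearEquiv
    rw [E'.finrank_eq]
    let u : k ≃ₗ[k] ↑((moduleSpecΓFunctor (R := CommRingCat.of k)).obj (Coh.structureModule (Spec (CommRingCat.of k)))) :=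
      { (Scheme.ΓSpecIso (CommRingCat.of k)).symm.commRingCatIsoToRingEquiv.toAddEquiv with
        map_smul' := fun a x => map_mul (Scheme.ΓSpecIso (CommRingCat.of k)).inv.hom a x }
    rw [← u.finrank_eq]
    exact Module.finrank_self k

end Cohomology

end Groth.Agent.L26.Mumford
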